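import Cfsg.Agent.Fusion.QS
import Cfsg.Agent.Fusion.Prod

/-! Central products of fusion systems and the generalized Fitting subsystem. -/

set_option autoImplicit false
set_option linter.unusedSectionVars false

namespace Cfsg.Agent.Fusion

universe u v

/-- The multiplication map on a product of commuting subgroups. -/
def mulHom {G : Type*} [Group G] {A B : Subgroup G} (h : A ≤ cz B) : A.prod B →* G :=
  MonoidHom.mk' (fun d => d.1.1 * d.1.2) fun a b => by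
    show a.1.1 * b.1.1 * (a.1.2 * b.1.2) = a.1.1 * a.1.2 * (b.1.1 * b.1.2)
    rw [mul_assoc, mul_assoc, ← mul_assoc b.1.1, ← mem_cz.1 (h b.2.1) _ a.2.2, mul_assoc]

theorem fn_mulHom {G : Type*} [Group G] {A B : Subgroup G} (h : A ≤ cz B) {x y : G} (hx : x ∈ A)
    (hy : y ∈ B) : fn (mulHom h) (x, y) = x * y := fn_of_mem _ (⟨hx, hy⟩ : (x, y) ∈ A.prod B)

theorem im_mul {G : Type*} [Group G] {A B A' B' : Subgroup G} {W : Subgroup (G × G)} {μ : W →* G}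
    (h : ∀ x ∈ A, ∀ y ∈ B, fn μ (x, y) = x * y) (hW : A.prod B ≤ W) (hA : A' ≤ A) (hB : B' ≤ B) :
    im μ (A'.prod B') = A' ⊔ B' := by
  refine le_antisymm ((im_le_iff ((Subgroup.prod_mono hA hB).trans hW)).2 fun d hd => ?_)
    (sup_le (fun x hx => ?_) fun y hy => ?_)
  · rw [h d.1 (hA hd.1) d.2 (hB hd.2)]
    exact mul_mem (Subgroup.mem_sup_left hd.1) (Subgroup.mem_sup_right hd.2)
  · rw [← mul_one x, ← h x (hA hx) 1 (one_mem _)]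
    exact fn_mem_im μ ⟨hx, one_mem _⟩
  · rw [← one_mul y, ← h 1 (one_mem _) y (hB hy)]
    exact fn_mem_im μ ⟨one_mem _, hy⟩

theorem ker_mul_le {G : Type*} [Group G] {A B : Subgroup G} {W : Subgroup (G × G)} {μ : W →* G}
    (h : ∀ x ∈ A, ∀ y ∈ B, fn μ (x, y) = x * y) :
    A.prod B ⊓ pre μ ⊥ ≤ (A ⊓ B).prod (A ⊓ B) := fun d hd => by
  have h1 := (mem_pre.1 hd.2).2
  rw [h d.1 hd.1.1 d.2 hd.1.2, Subgroup.mem_bot] at h1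
  exact ⟨⟨hd.1.1, eq_inv_of_mul_eq_one_left h1 ▸ B.inv_mem hd.1.2⟩,
    eq_inv_of_mul_eq_one_right h1 ▸ A.inv_mem hd.1.1, hd.1.2⟩

namespace FS

variable {G : Type u} [Group G] [Finite G] {p : ℕ} [hp : Fact p.Prime]
  {P Q R T U V X Y : Subgroup G} {a g h x : G} {F D D' E E₁ E₂ N C K L B : FS G}

theorem Cen.p1 {Z : Subgroup (G × G)} (h : (E₁.prod E₂).Cen Z) : E₁.Cen (p1 Z) := by
  refine ⟨(Subgroup.le_prod_iff.1 h.1).1, fun P g hg => ?_⟩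
  obtain ⟨c, h1, h2, h3⟩ := h.2 (P.prod ⊥) (g, 1) (prod_M_prod.2 ⟨hg, M_bot 1⟩)
  exact ⟨c.1, p1_prod P (⊥ : Subgroup G) ▸ map_mem_cz h1, E₁.mono h2.1
    ((sup_le_sup_right (p1_prod P ⊥).ge _).trans (Subgroup.map_sup _ _ _).ge), map_mem_cz h3⟩

theorem Cen.p2 {Z : Subgroup (G × G)} (h : (E₁.prod E₂).Cen Z) : E₂.Cen (p2 Z) := by
  refine ⟨(Subgroup.le_prod_iff.1 h.1).2, fun P g hg => ?_⟩
  obtain ⟨c, h1, h2, h3⟩ := h.2 ((⊥ : Subgroup G).prod P) (1, g) (prod_M_prod.2 ⟨M_bot 1, hg⟩)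
  exact ⟨c.2, p2_prod (⊥ : Subgroup G) P ▸ map_mem_cz h1, E₂.mono h2.2
    ((sup_le_sup_right (p2_prod ⊥ P).ge _).trans (Subgroup.map_sup _ _ _).ge), map_mem_cz h3⟩

/-- Central products. -/
structure CP (p : ℕ) (E₁ E₂ D : FS G) : Prop where
  s₁ : E₁.Sat p
  s₂ : E₂.Sat p
  sat : D.Sat p
  z₁ : E₁.S ⊓ E₂.S ≤ E₁.center
  z₂ : E₁.S ⊓ E₂.S ≤ E₂.center
  S_eq : D.S = E₁.S ⊔ E₂.S
  el : ∀ {P g}, D.M P g → ∃ P₁ P₂ g₁ g₂, E₁.M P₁ g₁ ∧ E₂.M P₂ g₂ ∧ ∀ x ∈ E₁.S, ∀ y ∈ E₂.S,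
    x * y ∈ P → x ∈ P₁ ∧ y ∈ P₂ ∧ g * (x * y) * g⁻¹ = g₁ * x * g₁⁻¹ * (g₂ * y * g₂⁻¹)
  le₁ : E₁ ≤ D.CF E₂.S
  le₂ : E₂ ≤ D.CF E₁.S
  hyp_le : D.hyp p ≤ E₁.hyp p ⊔ E₂.hyp p

theorem cen_ker_mul {W : Subgroup (G × G)} {μ : W →* G}
    (h : ∀ x ∈ E₁.S, ∀ y ∈ E₂.S, fn μ (x, y) = x * y) (z₁ : E₁.S ⊓ E₂.S ≤ E₁.center)
    (z₂ : E₁.S ⊓ E₂.S ≤ E₂.center) : (E₁.prod E₂).Cen ((E₁.prod E₂).S ⊓ pre μ ⊥) :=
  (cen_prod (cen_iff_le.2 z₁) (cen_iff_le.2 z₂)).of_le (ker_mul_le h)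

theorem Fac.cp {W : Subgroup (G × G)} {μ : W →* G} (f : Fac μ (E₁.prod E₂) D) (s₁ : E₁.Sat p)
    (s₂ : E₂.Sat p) (hc : E₁.S ≤ cz E₂.S) (h : ∀ x ∈ E₁.S, ∀ y ∈ E₂.S, fn μ (x, y) = x * y)
    (z₁ : E₁.S ⊓ E₂.S ≤ E₁.center) (z₂ : E₁.S ⊓ E₂.S ≤ E₂.center) : CP p E₁ E₂ D := by
  have q := f.quo (s₁.prod s₂) (cen_ker_mul h z₁ z₂).nor.sc
  have hS : D.S = E₁.S ⊔ E₂.S := q.S_eq.trans (im_mul h q.le le_rfl le_rfl)
  have key : ∀ {P₁ P₂ g₁ g₂}, E₁.M P₁ g₁ → E₂.M P₂ g₂ → ∃ g, D.M (P₁ ⊔ P₂) g ∧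
      g₁⁻¹ * g ∈ cz P₁ ∧ g₂⁻¹ * g ∈ cz P₂ := fun {P₁ P₂ g₁ g₂} h1 h2 => by
    obtain ⟨g, k, e⟩ := q.fwd (prod_M_prod (d := (g₁, g₂)).2 ⟨h1, h2⟩)
    refine ⟨g, im_mul h q.le (E₁.le_S h1) (E₂.le_S h2) ▸ k, inv_mul_mem_cz.2 fun x hx => ?_,
      inv_mul_mem_cz.2 fun y hy => ?_⟩
    · have := e (x, 1) ⟨hx, one_mem _⟩
      rw [h x (E₁.le_S h1 hx) 1 (one_mem _), mul_one] at this
      rw [← this]
      exact (h _ (conj_mem h1 hx) _ (conj_mem h2 (one_mem _))).trans (by group)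
    · have := e (1, y) ⟨one_mem _, hy⟩
      rw [h 1 (one_mem _) y (E₂.le_S h2 hy), one_mul] at this
      rw [← this]
      exact (h _ (conj_mem h1 (one_mem _)) _ (conj_mem h2 hy)).trans (by group)
  refine ⟨s₁, s₂, q.sat (s₁.prod s₂), z₁, z₂, hS, fun {P g} hg => ?_, fun P g hg => ?_,
    fun P g hg => ?_, ?_⟩
  · obtain ⟨d, k, e⟩ := q.bwd hg
    refine ⟨_, _, _, _, k.1, k.2, fun x hx y hy hxy => ?_⟩
    have k1 : (x, y) ∈ (E₁.prod E₂).S ⊓ pre μ P :=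
      ⟨⟨hx, hy⟩, mem_pre.2 ⟨q.le ⟨hx, hy⟩, by rwa [h x hx y hy]⟩⟩
    have := e _ k1
    rw [h x hx y hy] at this
    exact ⟨mem_p1 k1, mem_p2 k1, this.symm.trans
      (h _ (conj_mem k.1 (mem_p1 k1)) _ (conj_mem k.2 (mem_p2 k1)))⟩
  · obtain ⟨b, k1, k2, k3⟩ := key hg (M_one le_rfl)
    exact CF_M_of (hS ▸ le_sup_right) ((E₁.le_S hg).trans hc) k2 (by simpa using k3) k1
  · obtain ⟨b, k1, k2, k3⟩ := key (M_one le_rfl) hg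
    exact CF_M_of (hS ▸ le_sup_left) ((E₂.le_S hg).trans (le_cz_comm.1 hc)) k3
      (by simpa using k2) (sup_comm E₁.S P ▸ k1)
  · rw [← q.im_hyp, ← im_mul h q.le (E₁.hyp_le p) (E₂.hyp_le p)]
    exact im_mono μ prod_hyp_le

theorem exists_cp (s₁ : E₁.Sat p) (s₂ : E₂.Sat p) (hc : E₁.S ≤ cz E₂.S)
    (z₁ : E₁.S ⊓ E₂.S ≤ E₁.center) (z₂ : E₁.S ⊓ E₂.S ≤ E₂.center) (hf : Full (E₁.S ⊔ E₂.S)) :
    ∃ D, Fac (mulHom hc) (E₁.prod E₂) D ∧ CP p E₁ E₂ D := by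
  have h : ∀ x ∈ E₁.S, ∀ y ∈ E₂.S, fn (mulHom hc) (x, y) = x * y :=
    fun _ hx _ hy => fn_mulHom hc hx hy
  obtain ⟨D, f⟩ := exists_fac (θ := mulHom hc) (E₁.prod E₂) le_rfl
    (by rwa [prod_S, im_mul h le_rfl le_rfl le_rfl]) (cen_ker_mul h z₁ z₂).nor.sc.wc
  exact ⟨D, f, f.cp s₁ s₂ hc h z₁ z₂⟩

namespace CP

theorem comm (c : CP p E₁ E₂ D) : E₁.S ≤ cz E₂.S := le_cz_of_le_CF c.le₁

theorem symm (c : CP p E₁ E₂ D) : CP p E₂ E₁ D := by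
  refine ⟨c.s₂, c.s₁, c.sat, inf_comm E₁.S _ ▸ c.z₂, inf_comm E₁.S _ ▸ c.z₁,
    c.S_eq.trans (sup_comm _ _), fun hg => ?_, c.le₂, c.le₁, sup_comm (E₁.hyp p) _ ▸ c.hyp_le⟩
  obtain ⟨P₁, P₂, g₁, g₂, h1, h2, h3⟩ := c.el hg
  refine ⟨P₂, P₁, g₂, g₁, h2, h1, fun y hy x hx hxy => ?_⟩
  rw [mem_cz.1 (c.comm hx) y hy] at hxy ⊢
  obtain ⟨k1, k2, k3⟩ := h3 x hx y hy hxy
  exact ⟨k2, k1, k3.trans (mem_cz.1 (c.comm (conj_mem h1 k1)) _ (conj_mem h2 k2)).symm⟩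

theorem le (c : CP p E₁ E₂ D) : E₁ ≤ D := c.le₁.trans (D.normK_le _ _)

theorem decomp (c : CP p E₁ E₂ D) (hx : x ∈ D.S) : ∃ a ∈ E₁.S, ∃ b ∈ E₂.S, a * b = x :=
  (mem_sup_of_nz (c.comm.trans (cz_le_nz _))).1 (c.S_eq ▸ hx)

theorem M_of (c : CP p E₁ E₂ D) (hg : D.M P g) (hP : P ≤ E₁.S) : E₁.M P g := by
  obtain ⟨P₁, P₂, g₁, g₂, h1, h2, h3⟩ := c.el hg
  have k := fun x (hx : x ∈ P) => h3 x (hP hx) 1 (one_mem _) (by simpa using hx)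
  exact congr (E₁.mono h1 fun x hx => (k x hx).1) fun x hx => by simpa using (k x hx).2.2

theorem norIn (c : CP p E₁ E₂ D) : NorIn p E₁ D := by
  refine ⟨⟨c.s₁, c.sat, c.le, ⟨FS.S_le c.le, fun R g hR hg => E₁.cj_le (c.M_of hg hR)⟩,
    fun P g a hg ha => ?_, fun P g hP hg => ⟨1, one_mem _, by simpa using c.M_of hg hP⟩⟩,
    extc_iff.2 fun a ha => ?_⟩
  · exact cjs_le_iff.1 (cjs_of_aut (c.M_of (M_of_aut (FS.S_le c.le) ha) le_rfl)).le _ _ hg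
  obtain ⟨-, b, h1, h2, h3⟩ := (CF_M (FS.S_le c.symm.le)).1 (c.le₁ _ _ (M_of_aut le_rfl ha))
  rw [← c.S_eq] at h3
  have h4 : a * b ∈ nz E₁.S := mul_mem (E₁.aut_le_nz _ ha) (cz_le_nz _ h1)
  refine mem_exb_of (M_nz_sup_CS (D.mono h3 (sup_CS_le (FS.S_le c.le))) h4)
    (mem_trv.2 ⟨h4, fun x hx => ?_⟩) (by simpa using h1)
  obtain ⟨s, hs, t, ht, rfl⟩ := c.decomp (sup_CS_le (FS.S_le c.le) hx)
  refine mem_of_eq (conj_mem_of_nz' (cz_le_nz _ (c.symm.comm ht)) (mul_mem (inv_mem hs)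
    (conj_mem_of_nz h4 hs))) ?_
  calc _ = (s * t)⁻¹ * (a * b * s * (a * b)⁻¹ * (a * b * t * (a * b)⁻¹)) := by
        rw [conj_eq_of_cz h2 ht]; group
    _ = _ := by group

theorem min (c : CP p E₁ E₂ D) (h1 : E₁ ≤ D'.CF E₂.S) (h2 : E₂ ≤ D'.CF E₁.S) : D ≤ D' := by
  intro P g hg
  obtain ⟨P₁, P₂, g₁, g₂, k1, k2, k3⟩ := c.el hg
  have l1 := FS.S_le (h1.trans (D'.normK_le _ _))
  have l2 := FS.S_le (h2.trans (D'.normK_le _ _))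
  obtain ⟨-, b₁, a1, a2, a3⟩ := (CF_M l2).1 (h1 _ _ k1)
  obtain ⟨-, b₂, b1, b2, b3⟩ := (CF_M l1).1 (h2 _ _ k2)
  have k4 : P ≤ P₁ ⊔ P₂ := fun x hx => by
    obtain ⟨s, hs, t, ht, rfl⟩ := c.decomp (D.le_S hg hx)
    exact mul_mem (Subgroup.mem_sup_left (k3 s hs t ht hx).1)
      (Subgroup.mem_sup_right (k3 s hs t ht hx).2.1)
  refine congr (mul' (D'.mono a3 (k4.trans (sup_le_sup_left (E₂.le_S k2) _))) b3 ((cj_mono k4).trans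
    ?_)) fun x hx => ?_
  · rw [cj_sup, cj_mul_cz a1, cj_of_cz (cz_anti (E₂.le_S k2) a2), sup_comm]
    exact sup_le_sup_left (E₁.cj_le k1) _
  obtain ⟨s, hs, t, ht, rfl⟩ := c.decomp (D.le_S hg hx)
  obtain ⟨m1, m2, m3⟩ := k3 s hs t ht hx
  rw [m3, ← conj_eq_of_cz b2 (conj_mem k1 m1), ← conj_mul_cz a1 m1, ← conj_mul_cz b1 m2]
  conv_lhs => rw [← conj_eq_of_cz a2 ht]
  group

theorem unique (c : CP p E₁ E₂ D) (c' : CP p E₁ E₂ D') : D' = D :=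
  le_antisymm (c'.min c.le₁ c.le₂) (c.min c'.le₁ c'.le₂)

theorem exb_aux (h₁ : NorIn p E₁ F) (hr : Rich F.S) (hT : T ≤ F.S) (h : E₁ ≤ F.CF T) :
    E₁.aut E₁.S ≤ ai (F.exb (E₁.S ⊔ T) ⊓ cz T) E₁.S := by
  have hc := le_cz_of_le_CF h
  have i := h₁.wn.invt
  refine h₁.wn.satE.aut_S_le (fun x hx => mem_ai_of_mem ⟨le_exb (sup_le i.S_le hT)
    (Subgroup.mem_sup_left hx), hc hx⟩ (le_nz _ hx)) (cz_le_ai _ _) fun a ha hc' => ?_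
  obtain ⟨b, k1, k2, k3⟩ := h₁.exists_top ha hc'
  have k4 : T ≤ E₁.S ⊔ (F.S ⊓ cz E₁.S) := (le_inf hT (le_cz_comm.1 hc)).trans le_sup_right
  have k5 := h₁.ao_cz hr (sup_CS_le i.S_le) (i.sc.cenT_of_ge le_sup_left) k4 h k1 k2
  have k6 := k1.2.1
  rw [inf_eq_right.2 (le_sup_left (a := E₁.S))] at k6
  have k7 : E₁.S ⊔ T ⊔ (F.S ⊓ cz (E₁.S ⊔ T)) ≤ E₁.S ⊔ (F.S ⊓ cz E₁.S) :=
    sup_le (sup_le le_sup_left k4) ((inf_le_inf_left _ (cz_anti le_sup_left)).trans le_sup_right)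
  have k8 := mem_nz_sup (mem_trv.1 k6).1 (cz_le_nz _ k5)
  exact mem_ai.2 ⟨E₁.aut_le_nz _ ha, _, k3, by
    rw [mul_inv_cancel_left]
    exact ⟨mem_exb_of (M_nz_sup_CS (F.mono (M_of_aut (sup_CS_le i.S_le) k1.1) k7) k8)
      (mem_trv_of_le (trv_anti k7 _ k6) le_sup_left k8) (by simp), k5⟩⟩

theorem le_CF (c : CP p E₁ E₂ D) (h₁ : NorIn p E₁ F) (h₂ : NorIn p E₂ F) (hr : Rich F.S) :
    E₁ ≤ F.CF E₂.S := h₁.le_CF_of_cz hr h₂.wn.invt.sc (inf_comm E₁.S _ ▸ c.z₁) c.comm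

theorem norIn_of (c : CP p E₁ E₂ D) (h₁ : NorIn p E₁ F) (h₂ : NorIn p E₂ F) (hr : Rich F.S) :
    NorIn p D F := by
  have hF := h₁.wn.satF
  have i₁ := h₁.wn.invt
  have i₂ := h₂.wn.invt
  have l₁ := c.le_CF h₁ h₂ hr
  have l₂ := c.symm.le_CF h₂ h₁ hr
  have hle := c.min l₁ l₂
  have hS := FS.S_le hle
  have t₁ := FS.S_le c.le
  have t₂ := FS.S_le c.symm.le
  refine ⟨⟨c.sat, hF, hle, c.S_eq ▸ hF.sc_sup i₁.sc i₂.sc, fun P g a hg ha => ?_,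
    fun P g hP hg => ?_⟩, extc_iff.2 fun a ha => ?_⟩
  · have n₁ := inv_mem (i₁.sc.mem_nz (M_of_aut hS ha) t₁)
    have n₂ := inv_mem (i₂.sc.mem_nz (M_of_aut hS ha) t₂)
    refine cjs_le_iff.1 (cjs_le_iff'.2 (c.min ?_ ?_)) _ _ hg
    · rw [← cj_of_nz n₂, ← cjs_CF _ t₂, ← cjs_le_iff', i₁.cjs_eq_of_le t₁ hS ha]
      exact c.le₁
    · rw [← cj_of_nz n₁, ← cjs_CF _ t₁, ← cjs_le_iff', i₂.cjs_eq_of_le t₂ hS ha]
      exact c.le₂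
  · obtain ⟨k₁, a1, a2⟩ := i₁.exists_km hF hg
    obtain ⟨k₂, b1, b2⟩ := i₂.exists_km hF a2
    have b3 := F.mono b2 (c.S_eq.le.trans (sup_le_sup_right le_sup_right _))
    refine ⟨_, mem_aut_of b3 (c.S_eq ▸ mem_nz_sup (i₁.sc.mem_nz b3 t₁) (i₂.sc.mem_nz b3 t₂)), ?_⟩
    have := mul' (a1.M_sub h₁ hr c.norIn hle hP) (b1.M_sub h₂ hr c.symm.norIn hle (sup_le hP t₁))
      (le_sup_left.trans (a1.sup_eq i₁.sc).le)
    convert this using 1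
    group
  obtain ⟨P₁, P₂, g₁, g₂, k1, k2, k3⟩ := c.el (M_of_aut le_rfl ha)
  have m₁ := E₁.mono k1 fun x hx => (k3 x hx 1 (one_mem _) (by simpa using t₁ hx)).1
  have m₂ := E₂.mono k2 fun x hx => (k3 1 (one_mem _) x hx (by simpa using t₂ hx)).2.1
  obtain ⟨b₁, a1, a2, c₁, a3, rfl⟩ := mem_ai'.1 (exb_aux h₁ hr i₂.S_le l₁ (mem_aut_S.2 m₁))
  obtain ⟨b₂, b1, -, c₂, b3, rfl⟩ := mem_ai'.1 (exb_aux h₂ hr i₁.S_le l₂ (mem_aut_S.2 m₂))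
  rw [sup_comm] at b1
  rw [← c.S_eq] at a1 b1
  refine mem_of_eq (mul_mem (mul_mem b1.1 a1.1) (cz_le_exb (inv_mul_mem_cz.2 fun x hx => ?_)))
    (mul_inv_cancel_left _ _)
  obtain ⟨s, hs, t, ht, rfl⟩ := c.decomp hx
  rw [(k3 s hs t ht hx).2.2, conj_mul_cz a3 hs, conj_mul_cz b3 ht,
    ← conj_eq_of_cz b1.2 (conj_mem_of_nz a2 hs)]
  conv_lhs => rw [← conj_eq_of_cz a1.2 ht]
  group

theorem comp (c : CP p E₁ E₂ D) (hr : Rich D.S) (h : Comp p C D) : Comp p C E₁ ∨ Comp p C E₂ := by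
  refine (h.dich c.norIn hr).imp_right fun k1 => (h.dich c.symm.norIn hr).resolve_right fun k2 =>
    h.qs.not_le_cz (le_trans ?_ (cz_anti h.S_le))
  rw [c.S_eq, cz_sup]
  exact le_inf (le_cz_of_le_CF k1) (le_cz_of_le_CF k2)

theorem norIn_trans (c : CP p E₁ E₂ D) (hr : Rich D.S) (h : NorIn p C E₁) : NorIn p C D :=
  h.trans' c.norIn hr fun _ ha => (h.wn.invt.cjs_eq_of_le h.wn.invt.S_le le_rfl
    (mem_aut_S.2 (c.M_of (M_of_aut (FS.S_le c.le) ha) le_rfl))).le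

end CP

theorem NorIn.exists_cp (h₁ : NorIn p E₁ F) (h₂ : NorIn p E₂ F) (hr : Rich F.S)
    (l₁ : E₁ ≤ F.CF E₂.S) (l₂ : E₂ ≤ F.CF E₁.S) : ∃ D, CP p E₁ E₂ D ∧ NorIn p D F := by
  obtain ⟨D, -, c⟩ := FS.exists_cp h₁.wn.satE h₂.wn.satE (le_cz_of_le_CF l₁)
    (h₁.wn.satE.cen_of_le_CF l₁ h₂.wn.invt.S_le inf_le_left inf_le_right).le_center
    (h₂.wn.satE.cen_of_le_CF l₂ h₁.wn.invt.S_le inf_le_right inf_le_left).le_center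
    (hr.full.mono (sup_le h₁.wn.invt.S_le h₂.wn.invt.S_le))
  exact ⟨D, c, c.norIn_of h₁ h₂ hr⟩

theorem NorIn.CF_inf (h : NorIn p E F) (hr : Rich F.S) (hZ : F.Nor X) (h1 : X ≤ E.S) :
    NorIn p (E.CF X) F :=
  ((hZ.sub h.wn.satF.pg h.wn.satE h.wn.invt.le h1).norIn_CF h.wn.satE).trans' h hr fun a ha => by
    rw [cjs_CF a h1, h.wn.invt.cjs_eq ha, cj_of_nz (hZ.sc.mem_nz (M_of_aut h.wn.invt.S_le ha) h1)]

theorem NorIn.exists_cp' (h₁ : NorIn p E₁ F) (h₂ : NorIn p E₂ F) (hr : Rich F.S)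
    (hc : E₁.S ≤ cz E₂.S) : ∃ D, NorIn p D F ∧ D.S = E₁.S ⊔ E₂.S ∧
      (E₁.S ⊓ E₂.S ≤ E₁.center → E₁.S ⊓ E₂.S ≤ E₂.center → CP p E₁ E₂ D) := by
  have k1 : E₁.S ≤ cz (E₁.S ⊓ E₂.S) := hc.trans (cz_anti inf_le_right)
  have k2 : E₂.S ≤ cz (E₁.S ⊓ E₂.S) := (le_cz_comm.1 hc).trans (cz_anti inf_le_left)
  have hZ := h₁.wn.satF.nor_of_abelian (h₁.wn.invt.sc.inf h₂.wn.invt.sc) (inf_le_left.trans k1)
  have n₁ := h₁.CF_inf hr hZ inf_le_left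
  have n₂ := h₂.CF_inf hr hZ inf_le_right
  have e₁ : (E₁.CF (E₁.S ⊓ E₂.S)).S = E₁.S := by rw [normK_S, inf_eq_left.2 k1]
  have e₂ : (E₂.CF (E₁.S ⊓ E₂.S)).S = E₂.S := by rw [normK_S, inf_eq_left.2 k2]
  obtain ⟨D, -, c⟩ := FS.exists_cp n₁.wn.satE n₂.wn.satE (by rwa [e₁, e₂])
    (by rw [e₁, e₂]; exact (CF_cen inf_le_left (le_inf le_rfl (inf_le_left.trans k1))).le_center)
    (by rw [e₁, e₂]; exact (CF_cen inf_le_right (le_inf le_rfl (inf_le_left.trans k1))).le_center)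
    (hr.full.mono (sup_le n₁.wn.invt.S_le n₂.wn.invt.S_le))
  refine ⟨D, c.norIn_of n₁ n₂ hr, by rw [c.S_eq, e₁, e₂], fun z₁ z₂ => ?_⟩
  rwa [(cen_iff_CF_eq inf_le_left).1 (cen_iff_le.2 z₁),
    (cen_iff_CF_eq inf_le_right).1 (cen_iff_le.2 z₂)] at c

theorem SubN.cases (h : SubN p C F) : C = F ∨ ∃ D, D < F ∧ NorIn p D F ∧ SubN p C D := by
  induction h with
  | refl => exact Or.inl rfl
  | @step D F h1 h2 ih =>
    by_cases e : D = F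
    · subst e; exact ih
    · exact Or.inr ⟨D, lt_of_le_of_ne h2.wn.invt.le e, h2, h1⟩

theorem Lay.comp_norIn (h : Lay p L F) (hr : Rich F.S) (hC : Comp p C F) : NorIn p C L := by
  induction F using lt_ind generalizing L with | h F ih => ?_
  have hF := h.nor.wn.satF
  have key : ∀ D, D < F → NorIn p D F → Comp p C D → ∃ K, Lay p K D ∧ NorIn p K F ∧ NorIn p C K :=
    fun D h1 h2 h3 => by
      have hr' := hr.mono h2.wn.invt.S_le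
      obtain ⟨K, k⟩ := h2.wn.satE.exists_lay hr'
      exact ⟨K, k, k.norIn h2 hr, ih D h1 k hr' h3⟩
  rcases h.nor.wn.invt.le.eq_or_lt with e | e
  · subst e
    rcases hC.sub.cases with e | ⟨D, d1, d2, d3⟩
    · exact e ▸ hF.norIn_self
    obtain ⟨K, k1, k2, k3⟩ := key D d1 d2 ⟨d3, hC.qs⟩
    obtain ⟨B, hB⟩ := (hF.CF (hF.fc k2.wn.invt.sc.fn)).exists_pres
    have b1 := k2.pres_CF hr hB
    obtain ⟨M, c, m⟩ := k2.exists_cp b1 hr ((k2.le_cse_iff hr b1.wn.invt.S_le).1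
      (hB.1.le.trans ((hyp_le_foc _ p).trans (k2.foc_CF_le hr)))) hB.2.2.1
    obtain rfl := le_antisymm m.wn.invt.le (h.min M m fun A hA => (hA.dich k2 hr).elim
      (fun k => k.le.trans c.le) fun k => (hA.qs.le_pres k hB).trans c.symm.le)
    exact c.norIn_trans hr k3
  · obtain ⟨K, k1, k2, k3⟩ := key L e h.nor (hC.down h.nor hr (S_le (h.le C hC)))
    rwa [le_antisymm k1.nor.wn.invt.le (h.min K k2 fun A hA =>
      k1.le A (hA.down h.nor hr (S_le (h.le A hA))))] at k3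

/-- The generalized Fitting subsystem. -/
def GF (p : ℕ) (D F : FS G) : Prop := ∃ L, Lay p L F ∧ CP p (inn F.core) L D

theorem Lay.exists_gf (h : Lay p L F) (hr : Rich F.S) : ∃ D, CP p (inn F.core) L D := by
  have hF := h.nor.wn.satF
  have h1 := h.le_CF F.nor_core hr
  refine (NorIn.exists_cp (F.nor_core.norIn hF) h.nor hr (inn_le ?_) h1).imp fun _ k => k.1
  rw [normK_S]
  exact le_inf F.core_le (le_cz_of_le_CF' h1)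

theorem GF.norIn (h : GF p D F) (hr : Rich F.S) : NorIn p D F :=
  have ⟨_, h1, h2⟩ := h
  h2.norIn_of (F.nor_core.norIn h1.nor.wn.satF) h1.nor hr

theorem GF.cse_le (h : GF p D F) (hr : Rich F.S) : F.cse D ≤ D.S := by
  have n := h.norIn hr
  obtain ⟨L, h1, c⟩ := h
  obtain ⟨A, a1, a2, -⟩ := n.exists_CE hr
  have h2 : A.Con p := by_contra fun k => by
    obtain ⟨K, k1⟩ := a2.wn.satE.exists_comp k
    have k2 := (h1.le K (k1.up a2.subN)).trans c.symm.le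
    exact k1.qs.not_le_cz ((k1.S_le.trans (a1.le.trans FS.cse_le)).trans
      (inf_le_right.trans (cz_anti (S_le k2))))
  have h3 := a2.subN.core_le.trans (S_le c.le)
  exact (le_inf a1.ge (FS.cse_le.trans (inf_le_right.trans (cz_anti h3)))).trans
    ((con_iff.1 h2).2.trans h3)

theorem GF.le_center (h : GF p D F) (hr : Rich F.S) (hY : Y ≤ F.S) (h1 : D ≤ F.CF Y) :
    Y ≤ D.center := ((h.norIn hr).wn.satE.cen_of_le_CF h1 hY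
      ((le_cse hY h1).trans (h.cse_le hr)) le_rfl).le_center

theorem GF.comp_norIn (h : GF p D F) (hr : Rich F.S) (hC : Comp p C F) : NorIn p C D :=
  have n := h.norIn hr
  have ⟨_, h1, c⟩ := h
  c.symm.norIn_trans (hr.mono n.wn.invt.S_le) (h1.comp_norIn hr hC)

theorem Sat.con_iff_gf (hF : F.Sat p) (hr : Rich F.S) : F.Con p ↔ GF p (inn F.core) F := by
  refine ⟨fun h => ?_, fun ⟨L, h1, c⟩ => by_contra fun k => ?_⟩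
  · obtain ⟨D, c⟩ := h.lay.exists_gf hr
    have h1 := c.hyp_le
    rw [hyp_inn (S := F.core) c.s₁.pg, hyp_inn (S := ⊥) c.s₂.pg, bot_sup_eq, le_bot_iff] at h1
    have h2 := c.sat.isinn_of_hyp h1
    rw [c.S_eq, ofGroup_S, ofGroup_S, sup_bot_eq] at h2
    exact ⟨_, h.lay, h2 ▸ c⟩
  · obtain ⟨C, hC⟩ := hF.exists_comp k
    exact hC.not_le F.nor_core hF hr (S_le ((h1.le C hC).trans c.symm.le))

theorem Lay.balance (h : Lay p L F) (hr : Rich F.S) (hX : F.FN X) (h' : Lay p K (F.NF X)) :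
    K ≤ L := by
  have hF := h.nor.wn.satF
  have hr' := hr.mono (S_le (F.normK_le X (nz X)))
  obtain ⟨D, c⟩ := h.exists_gf hr
  have g : GF p D F := ⟨L, h, c⟩
  obtain ⟨D₁, d1, d2, d3⟩ := (g.norIn hr).exists_NE hr hX
  obtain ⟨L₁, l1, l2, l3⟩ := h.nor.exists_NE hr hX
  refine (h'.min' hr' l1 fun C hC => ?_).trans l3
  have k1 := hC.S_le
  rw [normK_S] at k1
  have k2 := (hC.down d1 hr' (d2 ▸ le_inf ((g.norIn hr).balance hr (g.cse_le hr) hX.1 C (hF.fc hX)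
    (hF.comp_CF hr hX hC)) (k1.trans inf_le_right))).le.trans d3
  rw [l2]
  refine le_inf (hC.qs.hyp_eq.ge.trans ((hyp_mono k2).trans (c.hyp_le.trans ?_)))
    (k1.trans inf_le_right)
  rw [hyp_inn (S := F.core) c.s₁.pg, bot_sup_eq]
  exact L.hyp_le p

end FS

section
variable {Ω : Type v} {G : Type u} [Group Ω] [Group G] [Finite G] {U S T T₁ T₂ : Subgroup Ω}
  {ι : U →* G} {F : FusionSystem S} {D : FusionSystem T} {E₁ : FusionSystem T₁}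
  {E₂ : FusionSystem T₂} {F' D' E₁' E₂' : FS G} {p : ℕ} [hp : Fact p.Prime]

theorem central_product_le (h : FusionSystem.IsCentralProductOf E₁ E₂ D) : T = T₁ ⊔ T₂ ∧
    T₁ ≤ cz T₂ := by
  obtain ⟨D₀, -, Z, θ, -, -, -, h1, h2, h3⟩ := h
  have k : ∀ x ∈ T₁, ∀ y ∈ T₂, fn θ (x, y) = x * y ∧ fn θ (x, y) = y * x := fun x hx y hy => by
    have k1 : ((x, 1) : Ω × Ω) ∈ T₁.prod T₂ := ⟨hx, one_mem _⟩
    have k2 : ((1, y) : Ω × Ω) ∈ T₁.prod T₂ := ⟨one_mem _, hy⟩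
    have k3 := fn_mul θ k1 k2
    have k4 := fn_mul θ k2 k1
    rw [fn_of_mem θ k1, fn_of_mem θ k2, h1, h2] at k3 k4
    exact ⟨by simpa using k3, by simpa using k4⟩
  exact ⟨by rw [← h3.2.2.1, ← im_self, im_mul (fun x hx y hy => (k x hx y hy).1) le_rfl le_rfl
    le_rfl], fun x hx => mem_cz.2 fun y hy => (k x hx y hy).2.symm.trans (k x hx y hy).1⟩

theorem tr_mul (hι : Function.Injective ι) (h1 : T₁ ≤ U) (h2 : T₂ ≤ U) {θ : T₁.prod T₂ →* Ω}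
    (h : ∀ x ∈ T₁, ∀ y ∈ T₂, fn θ (x, y) = x * y) {A B : Subgroup G} (e₁ : A = im ι T₁)
    (e₂ : B = im ι T₂) (hc : A ≤ cz B) : Tr (pm ι ι) ι θ (mulHom hc) := by
  subst e₁ e₂
  refine ⟨(im_pm_prod h1 h2).le, fun d => (im_mul h le_rfl le_rfl le_rfl).le.trans (sup_le h1 h2)
    (im_self θ ▸ fn_mem_range θ d), fun d hd => ?_⟩
  rw [fn_pm (Subgroup.prod_mono h1 h2 hd), fn_mulHom hc (fn_mem_im ι hd.1) (fn_mem_im ι hd.2),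
    h d.1 hd.1 d.2 hd.2, fn_mul ι (h1 hd.1) (h2 hd.2)]

theorem Rep.cp (r₁ : Rep ι E₁ E₁') (r₂ : Rep ι E₂ E₂') (d : Rep ι D D') (s₁ : E₁'.Sat p)
    (s₂ : E₂'.Sat p) (h : FusionSystem.IsCentralProductOf E₁ E₂ D) : FS.CP p E₁' E₂' D' := by
  have hc : E₁'.S ≤ cz E₂'.S := by
    rw [r₁.S_eq, r₂.S_eq]; exact im_le_cz ι r₁.le r₂.le (central_product_le h).2
  obtain ⟨D₀, h0, Z, θ, hZ, -, -, h1, h2, h3⟩ := h
  have k : ∀ x ∈ T₁, ∀ y ∈ T₂, fn θ (x, y) = x * y := fun x hx y hy => by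
    have k1 : ((x, 1) : Ω × Ω) ∈ T₁.prod T₂ := ⟨hx, one_mem _⟩
    have k2 : ((1, y) : Ω × Ω) ∈ T₁.prod T₂ := ⟨one_mem _, hy⟩
    have k3 := fn_mul θ k1 k2
    rw [fn_of_mem θ k1, fn_of_mem θ k2, h1, h2] at k3
    simpa using k3
  have r₀ := r₁.prod r₂ h0
  obtain ⟨f, e⟩ := (tr_mul d.inj r₁.le r₂.le k r₁.S_eq r₂.S_eq hc).fac r₀ d h3
  have z : (E₁'.prod E₂').Cen ((E₁'.prod E₂').S ⊓ pre (mulHom hc) ⊥) :=
    FS.cen_iff_le.2 (by rw [e, ← r₀.im_center]; exact im_mono _ hZ)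
  have m : ∀ x ∈ E₁'.S ⊓ E₂'.S, (x, x⁻¹) ∈ (E₁'.prod E₂').S ⊓ pre (mulHom hc) ⊥ := fun x hx =>
    ⟨⟨hx.1, E₂'.S.inv_mem hx.2⟩, mem_pre.2 ⟨⟨hx.1, E₂'.S.inv_mem hx.2⟩, by
      rw [fn_mulHom hc hx.1 (E₂'.S.inv_mem hx.2)]; simp⟩⟩
  exact f.cp s₁ s₂ hc (fun _ hx _ hy => fn_mulHom hc hx hy)
    (fun x hx => z.p1.le_center (mem_p1 (m x hx)))
    fun x hx => by simpa using inv_mem (z.p2.le_center (mem_p2 (m x hx)))

theorem Rep.cp_of (r₁ : Rep ι E₁ E₁') (r₂ : Rep ι E₂ E₂') (d : Rep ι D D') (hf : Full D'.S)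
    (c : FS.CP p E₁' E₂' D') : FusionSystem.IsCentralProductOf E₁ E₂ D := by
  obtain ⟨D₁, f, c₁⟩ := FS.exists_cp c.s₁ c.s₂ c.comm c.z₁ c.z₂ (c.S_eq ▸ hf)
  obtain rfl := c.unique c₁
  obtain ⟨D₀, r₀⟩ := r₁.exists_prod r₂
  have hc : T₁ ≤ cz T₂ := by
    rw [← im_le_cz_iff d.inj r₁.le r₂.le, ← r₁.S_eq, ← r₂.S_eq]; exact c.comm
  have k : ∀ x ∈ T₁, ∀ y ∈ T₂, fn (mulHom hc) (x, y) = x * y := fun _ hx _ hy => fn_mulHom hc hx hy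
  have t := tr_mul d.inj r₁.le r₂.le k r₁.S_eq r₂.S_eq c.comm
  have m : ∀ z ∈ pre (mulHom hc) ⊥, z.1 * z.2 = 1 := fun z hz => by
    obtain ⟨a, b⟩ := mem_pre.1 hz
    rwa [k z.1 a.1 z.2 a.2] at b
  refine ⟨D₀, r₁.prod_iff r₂ r₀, pre (mulHom hc) ⊥, mulHom hc, ?_, eq_bot_iff.2 fun z hz => ?_,
    eq_bot_iff.2 fun z hz => ?_, fun x _ => mul_one x, fun x _ => one_mul x,
    (t.fac_iff r₀ d).2 ⟨rfl, f⟩⟩
  · rw [← im_le_im r₀.inj ((pre_le _ _).trans r₀.le), r₀.im_center, t.im_ker r₀.le d.inj,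
      ← r₀.S_eq]
    exact (FS.cen_ker_mul (fun _ hx _ hy => fn_mulHom c.comm hx hy) c.z₁ c.z₂).le_center
  · have h1 : z.2 = 1 := hz.2.2
    exact Prod.ext (by simpa [h1] using m z hz.1) h1
  · have h1 : z.1 = 1 := hz.2.1
    exact Prod.ext h1 (by simpa [h1] using m z hz.1)

theorem Rep.inner_core (r : Rep ι F F') : Rep ι (innerFusionSystem F.core) (FS.inn F'.core) :=
  r.im_core ▸ rep_inner r.inj ((core_le F).trans r.le)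

theorem Rep.gf_of (r : Rep ι F F') (d : Rep ι D D') (hS : IsPGroup p S) (hr : Rich F'.S)
    (h : FS.GF p D' F') : D.IsGeneralizedFittingOf F p := by
  have n := h.norIn hr
  obtain ⟨L', h1, c⟩ := h
  obtain ⟨T, -, L, l⟩ := r.exists_sub' h1.nor.wn.invt.le
  exact ⟨T, L, (r.lay_iff l hS hr).2 h1, r.inner_core.cp_of l d (hr.full.mono n.wn.invt.S_le) c⟩

theorem Rep.gf (r : Rep ι F F') (d : Rep ι D D') (hS : IsPGroup p S) (hr : Rich F'.S)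
    (h : D.IsGeneralizedFittingOf F p) : FS.GF p D' F' := by
  obtain ⟨T, L, h1, c⟩ := h
  obtain ⟨L', l, h2⟩ := r.exists_lay hS hr h1
  exact ⟨L', h2, r.inner_core.cp l d (FS.inn_sat ((r.pg hS).to_le F'.core_le)) h2.nor.wn.satE c⟩

theorem Rep.exists_gf (r : Rep ι F F') (hS : IsPGroup p S) (hf : Full ι.range) (hr : Rich F'.S)
    (h : D.IsGeneralizedFittingOf F p) : T ≤ S ∧ ∃ D', Rep ι D D' ∧ FS.GF p D' F' := by
  have h1 : T ≤ S := by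
    obtain ⟨T, L, h1, c⟩ := h
    rw [(central_product_le c).1]
    exact sup_le (core_le F) (le_of_isSubsystemOf h1.1.1.2.2.1)
  obtain ⟨D', d⟩ := exists_rep r.inj hf D (h1.trans r.le)
  exact ⟨h1, D', d, r.gf d hS hr h⟩

end

end Cfsg.Agent.Fusion
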