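import Cfsg.Agent.Fusion.Wedge
import Cfsg.Agent.Fusion.Solv

/-! Quotients by central subgroups: images and preimages of normal subsystems. -/

set_option autoImplicit false
set_option linter.unusedSectionVars false

namespace Cfsg.Agent.Fusion

universe u v

variable {G : Type u} {G' : Type v} [Group G] [Group G'] [Finite G] [Finite G'] {U₀ : Subgroup G}
  {θ : U₀ →* G'} {p : ℕ} [hp : Fact p.Prime] {P Q R T U V W : Subgroup G}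
  {P' Q' A' T' : Subgroup G'} {a g h x : G} {a' g' h' : G'}

theorem IndM.cop_right (e : IndM θ P g g') (hn : g ∈ nz P) (hc : (orderOf g).Coprime p) :
    ∃ h' ∈ Subgroup.zpowers g', (orderOf h').Coprime p ∧ IndM θ P g h' := by
  have hd : (g, g') ∈ grf θ P ⊤ := ⟨⟨trivial, hn⟩, e⟩
  obtain ⟨b, h1, h2, h3⟩ := exists_p'_elt (C := (⊥ : Subgroup G).prod (⊤ : Subgroup G'))
    (g := (g, g')) hc ⟨by simp, trivial⟩
  have h4 : b ∈ grf θ P ⊤ := (Subgroup.zpowers_le.2 hd) h1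
  have h5 : g = b.1 := inv_mul_eq_one.1 (Subgroup.mem_bot.1 h3.1)
  obtain ⟨n, rfl⟩ := h1
  exact ⟨_, ⟨n, rfl⟩, Nat.Coprime.coprime_dvd_left (orderOf_snd_dvd_orderOf) h2, h5 ▸ h4.2⟩

theorem IndM.cop_left (e : IndM θ P g g') (hn : g ∈ nz P) (hc : (orderOf g').Coprime p) :
    ∃ h ∈ Subgroup.zpowers g, (orderOf h).Coprime p ∧ IndM θ P h g' := by
  have hd : (g, g') ∈ grf θ P ⊤ := ⟨⟨trivial, hn⟩, e⟩
  obtain ⟨b, h1, h2, h3⟩ := exists_p'_elt (C := (⊤ : Subgroup G).prod (⊥ : Subgroup G'))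
    (g := (g, g')) hc ⟨trivial, by simp⟩
  have h4 : b ∈ grf θ P ⊤ := (Subgroup.zpowers_le.2 hd) h1
  have h5 : g' = b.2 := inv_mul_eq_one.1 (Subgroup.mem_bot.1 h3.2)
  obtain ⟨n, rfl⟩ := h1
  exact ⟨_, ⟨n, rfl⟩, Nat.Coprime.coprime_dvd_left (orderOf_fst_dvd_orderOf) h2, h5 ▸ h4.2⟩

theorem IndM.of_right (e : IndM θ P g g') (h : g'⁻¹ * h' ∈ cz (im θ P)) : IndM θ P g h' := by
  simpa using e.mul_cz' h

theorem IndM.one_of_cz (e : IndM θ P g g') (h : g' ∈ cz (im θ P)) : IndM θ P g 1 :=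
  e.of_right (by simpa using h)

theorem IndM.conj (e : IndM θ P g g') (e' : IndM θ Q a a') (h1 : P ≤ Q) (h2 : cj g P ≤ Q) :
    IndM θ (cj a P) (a * g * a⁻¹) (a' * g' * a'⁻¹) :=
  (e'.mono h1).inv.mul (e.mul e' h2) (by simp)

namespace FS

variable {F D E N : FS G} {F' D' E' N' : FS G'}

theorem FN.of_S_eq (h : F.FN P) (hle : D ≤ F) (e : D.S = F.S) : D.FN P :=
  ⟨e ▸ h.1, fun g hg => e ▸ h.2 g (hle _ _ hg)⟩

theorem FC.of_S_eq (h : F.FC P) (hle : D ≤ F) (e : D.S = F.S) : D.FC P :=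
  ⟨e ▸ h.1, fun g hg => e ▸ h.2 g (hle _ _ hg)⟩

/-- The automorphisms inducing an element of `A'`. -/
def pa (θ : U₀ →* G') (F : FS G) (P : Subgroup G) (A' : Subgroup G') : Subgroup G :=
  (grf θ P (F.aut P) ⊓ (⊤ : Subgroup G).prod A').map (MonoidHom.fst G G')

theorem mem_pa : g ∈ pa θ F P A' ↔ g ∈ F.aut P ∧ ∃ g' ∈ A', IndM θ P g g' :=
  ⟨fun ⟨d, ⟨h1, h2⟩, e⟩ => e ▸ ⟨h1.1.1, d.2, h2.2, h1.2⟩, fun ⟨h1, g', h2, h3⟩ =>
    ⟨(g, g'), ⟨⟨⟨h1, F.aut_le_nz P h1⟩, h3⟩, trivial, h2⟩, rfl⟩⟩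

theorem pa_le : pa θ F P A' ≤ F.aut P := fun _ h => (mem_pa.1 h).1

theorem cz_le_pa : cz P ≤ pa θ F P A' := fun _ h =>
  mem_pa.2 ⟨F.cz_le_aut P h, 1, one_mem _, by simpa using (indM_one θ P).mul_cz h⟩

theorem mem_of_pa (hP : P ≤ U₀) (hA : cz (im θ P) ≤ A') (h : g ∈ pa θ F P A')
    (e : IndM θ P g g') : g' ∈ A' := by
  obtain ⟨-, k, h1, h2⟩ := mem_pa.1 h
  exact mem_of_eq (mul_mem h1 (hA (h2.inv_mul_mem e hP))) (by group)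

theorem cj_pa (ha : F.M P a) (e : IndM θ P a a') :
    cj a (pa θ F P A') ≤ pa θ F (cj a P) (cj a' A') := cj_le_iff.2 fun g hg => by
  obtain ⟨h1, g', h2, h3⟩ := mem_pa.1 hg
  exact mem_pa.2 ⟨cj_aut_le ha (conj_mem_cj_of h1), _, conj_mem_cj_of h2,
    h3.conj e le_rfl (cj_of_nz (F.aut_le_nz P h1)).le⟩

/-- A quotient by a central subgroup. -/
structure CQ (θ : U₀ →* G') (F : FS G) (F' : FS G') : Prop extends Quo θ F F' where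
  cen : F.Cen (F.S ⊓ pre θ ⊥)

namespace CQ

theorem mem_stab (q : CQ θ F F') (hg : F.M P g) (hn : g ∈ nz P) (e : IndM θ P g 1) :
    g ∈ F.stab P (P ⊓ (F.S ⊓ pre θ ⊥)) := by
  have h1 : g ∈ cz (P ⊓ (F.S ⊓ pre θ ⊥)) := mem_cz'.2 fun x hx => q.cen.conj_eq hg hx.1 hx.2
  exact ⟨mem_aut_of hg hn, mem_trv.2 ⟨cz_le_nz _ h1, fun x hx =>
    ⟨P.mul_mem (P.inv_mem hx) (conj_mem_of_nz hn hx), (q.indM_one_iff hg).1 e x hx⟩⟩, h1⟩

theorem mem_stab' (q : CQ θ F F') (hZ : F.S ⊓ pre θ ⊥ ≤ P) (hg : F.M P g) (hn : g ∈ nz P)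
    (e : IndM θ P g 1) : g ∈ F.stab P (F.S ⊓ pre θ ⊥) := by
  simpa only [inf_eq_right.2 hZ] using q.mem_stab hg hn e

theorem indM_of_stab (q : CQ θ F F') (hP : P ≤ F.S) (hg : g ∈ F.stab P (F.S ⊓ pre θ ⊥)) :
    IndM θ P g 1 := (q.indM_one_iff (M_of_aut hP hg.1)).2 (mem_trv.1 hg.2.1).2

theorem stab_of_cz (q : CQ θ F F') (hZ : F.S ⊓ pre θ ⊥ ≤ P) (hP : P ≤ F.S) (hx : x ∈ F.S)
    (h : fn θ x ∈ cz (im θ P)) : x ∈ F.stab P (F.S ⊓ pre θ ⊥) :=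
  q.mem_stab' hZ (F.inner hP hx) ((q.fn_mem_nz_iff hx hP hZ).1 (cz_le_nz _ h))
    ((indM_mem (q.leU hP) (q.le hx)).one_of_cz h)

theorem aut_le_cz (q : CQ θ F F') (hZ : F.S ⊓ pre θ ⊥ ≤ P) (hP : P ≤ F.S) :
    F.aut P ≤ cz (F.S ⊓ pre θ ⊥) := fun _ hg => q.cen.mem_cz (M_of_aut hP hg) hZ

theorem stab_le_opm (q : CQ θ F F') (hS : IsPGroup p F.S) (hZ : F.S ⊓ pre θ ⊥ ≤ P)
    (hP : P ≤ F.S) : F.stab P (F.S ⊓ pre θ ⊥) ≤ opm p (F.aut P) (cz P) :=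
  FS.stab_le_opm hS.to_inf_left ((q.aut_le_cz hZ hP).trans (cz_le_nz _))

theorem ker_le_of_cent (q : CQ θ F F') (hc : F.Cent P) : F.S ⊓ pre θ ⊥ ≤ P :=
  q.cen.le_Z.trans hc.center_le

theorem cent (q : CQ θ F F') (hS : IsPGroup p F.S) (hc : F.Cent P) (hr : F.Rad p P) :
    F'.Cent (im θ P) := ⟨q.im_le hc.1, fun g' hg' z hz => by
  obtain ⟨g, hg, e⟩ := q.bwd'' hc.1 hg'
  obtain ⟨x, hx, rfl⟩ := q.lift_mem hz.1
  rw [← q.im_cj hg e] at hz ⊢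
  have h1 := hc.cj hg
  have h2 := q.ker_le_of_cent h1
  refine fn_mem_im θ (h1.mem_of_ai hx ?_)
  rw [← (hr.cj hg).2]
  exact q.stab_le_opm hS h2 h1.1 (q.stab_of_cz h2 h1.1 hx hz.2)⟩

theorem rad (q : CQ θ F F') (hS : IsPGroup p F.S) (hc : F.Cent P) (hr : F.Rad p P) :
    F'.Rad p (im θ P) := by
  have hZ := q.ker_le_of_cent hc
  have hP' := q.im_le hc.1
  refine ⟨hP', le_antisymm (fun g' hg' => ?_) (ai_le_opm hP' (isPGroup_im θ (hS.to_le hc.1)))⟩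
  obtain ⟨g, hg, e⟩ := q.bwd_aut hc.1 hZ (opm_le _ _ hg')
  refine q.mem_ai hc.1 hc.1 (hr.le_ai (X := pa θ F P (opm p (F'.aut (im θ P)) (cz (im θ P))))
    pa_le (fun a ha => mem_nz_of_le ?_) (fun k hk => ?_) (mem_pa.2 ⟨hg, g', hg', e⟩)) e
  · obtain ⟨a', h1, h2⟩ := q.fwd_aut hc.1 ha
    have := cj_pa (A' := opm p (F'.aut (im θ P)) (cz (im θ P))) (M_of_aut hc.1 ha) h2
    rwa [cj_of_nz (F.aut_le_nz P ha), cj_of_nz (le_nz_opm (F'.aut_le_nz_cz _) h1)] at this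
  · obtain ⟨h1, k', h2, h3⟩ := mem_pa.1 hk
    obtain ⟨n, hn⟩ := opm_pmod (F'.aut_le_nz_cz _) k' h2
    have h4 := pow_mem (mem_grf (d := (k, k')).2 ⟨⟨h1, F.aut_le_nz P h1⟩, h3⟩) (p ^ n)
    have h5 := pow_mem h1 (p ^ n)
    obtain ⟨m, hm⟩ := pmod_stab (F := F) (P := P) hS.to_inf_left _ (q.mem_stab' hZ
      (M_of_aut hc.1 h5) (F.aut_le_nz P h5) (IndM.one_of_cz h4.2 hn))
    exact ⟨n + m, by rwa [pow_add, pow_mul]⟩

theorem im_inf_pre' (q : CQ θ F F') (hP : P ≤ F.S) :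
    im θ (P ⊓ (F.S ⊓ pre θ T')) = im θ P ⊓ T' := by
  refine le_antisymm (le_inf (im_mono θ inf_le_left) ((im_mono θ (inf_le_right.trans
    inf_le_right)).trans (im_pre_le θ _))) fun z hz => ?_
  obtain ⟨x, hx, rfl⟩ := (mem_im (q.leU hP)).1 hz.1
  exact fn_mem_im θ ⟨hx, hP hx, mem_pre.2 ⟨q.le (hP hx), hz.2⟩⟩

/-- The image of a normal subsystem is normal. -/
theorem norIn_im (q : CQ θ F F') (h : NorIn p N F) (hr : Rich F.S) (hf : Full F'.S) :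
    ∃ N', Quo θ N N' ∧ NorIn p N' F' := by
  have i := h.wn.invt
  have hF := h.wn.satF
  have hT := i.S_le
  have m := q.toMor.of_le i.le
  obtain ⟨N', f⟩ := exists_fac (θ := θ) N m.le (hf.mono m.S_le) m.sc_ker.wc
  have q' := f.quo h.wn.satE m.sc_ker
  have hle : N' ≤ F' := fun P' g' hg' => by
    obtain ⟨g, hg, e⟩ := q'.bwd hg'
    have := m.M_of hg e
    rwa [q'.im_pre (N'.le_S hg')] at this
  have lft : ∀ a' ∈ F'.aut N'.S, ∃ a ∈ F.aut N.S, IndM θ N.S a a' := fun a' ha' => by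
    rw [q'.S_eq] at ha'
    obtain ⟨a, ha, e⟩ := q.bwd'' hT (M_of_aut (q.im_le hT) ha')
    exact ⟨a, mem_aut_of ha (i.sc.mem_nz ha le_rfl), e⟩
  have hN' := q'.sat h.wn.satE
  refine ⟨N', q', ⟨hN', q.sat hF, hle, q'.S_eq ▸ q.sc_im' hF i.sc, fun P' g' a' hg' ha' => ?_,
    fun P' g' hP' hg' => ?_⟩, hN'.extc_of_cop (S_le hle) fun a' ha' hc => ?_⟩
  · obtain ⟨g, hg, e⟩ := q'.bwd hg'
    obtain ⟨a, ha, e'⟩ := lft a' ha'
    have := q'.M_of (i.conj _ _ _ hg ha) (e.conj e' inf_le_left (N.cj_le hg))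
    rwa [q.im_cj (F.mono (M_of_aut hT ha) inf_le_left) (e'.mono inf_le_left),
      q'.im_pre (N'.le_S hg')] at this
  · rw [← q'.im_pre hP'] at hg' ⊢
    obtain ⟨g, hg, e⟩ := q.bwd'' (inf_le_left.trans hT) hg'
    obtain ⟨a, ha, h1⟩ := i.frat _ _ inf_le_left hg
    obtain ⟨a', h2, e'⟩ := q.fwd_aut hT ha
    refine ⟨a', q'.S_eq ▸ h2, q'.M_of h1 (e.mul e'.inv ?_)⟩
    rw [cj_of_nz (F.aut_le_nz _ ha)]
    exact i.sc.2 _ _ inf_le_left hg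
  · rw [q'.S_eq] at ha' ⊢
    obtain ⟨a₀, h1, e₀⟩ := q'.bwd'' le_rfl (M_of_aut q'.S_le ha')
    obtain ⟨a, h2, h3, e⟩ := e₀.cop_left (mem_nz_of_M_S h1) hc
    have ha : a ∈ N.aut N.S := (Subgroup.zpowers_le.2 (mem_aut_S.2 h1)) h2
    set V' := im θ N.S ⊔ (F'.S ⊓ cz (im θ N.S)) with hV'
    have hV : V' ≤ F'.S := sup_CS_le (q.im_le hT)
    have h4 : N.S ≤ F.S ⊓ pre θ V' := le_inf hT (le_pre_iff.2 ⟨m.le, le_sup_left⟩)
    have h5 := inf_eq_right.2 h4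
    obtain ⟨b, k1, k2, k3⟩ := h.exists_ao' hr (P := F.S ⊓ pre θ V') inf_le_left
      (i.sc.cenT_of_ge h4) (a := a) (by rwa [h5]) h3 (by
        rw [h5]
        intro x hx
        obtain ⟨t', ht', c', hc', e1⟩ := (mem_sup_of_nz ((le_cz_comm.1 inf_le_right).trans
          (cz_le_nz _))).1 (mem_pre.1 hx.2).2
        obtain ⟨t, ht, rfl⟩ := (mem_im m.le).1 ht'
        have k0 : t⁻¹ * x ∈ F.S := mul_mem (inv_mem (hT ht)) hx.1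
        have k1 : t⁻¹ * x ∈ F.stab N.S (N.S ⊓ (F.S ⊓ pre θ ⊥)) :=
          q.mem_stab (F.inner hT k0) (i.sc.S_le_nz k0) ((indM_mem m.le (q.le k0)).one_of_cz (by
            rw [fn_inv_mul θ (m.le ht) (q.le hx.1), ← e1]; simpa using hc'.2))
        have k2 := mem_nz_stab (aut_mono i.le _ ha) (q.cen.nor.sc.aut_le hT (aut_mono i.le _ ha))
        have k3 : (t⁻¹ * x)⁻¹ * (a * (t⁻¹ * x) * a⁻¹) ∈ N.stab N.S (N.S ⊓ (F.S ⊓ pre θ ⊥)) :=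
          ⟨mem_of_eq (mul_mem (conj_mem_of_nz' (i.aut_normal le_rfl k1.1) ha) (inv_mem ha))
            (by group), (mul_mem (inv_mem k1) (conj_mem_of_nz k2 k1)).2⟩
        have k4 := FS.stab_le_opm (p := p) h.wn.satE.pg.to_inf_left
          ((aut_mono i.le _).trans (q.cen.nor.sc.aut_le hT)) k3
        rw [h.wn.satE.rad_S.2] at k4
        have k5 : t⁻¹ * (a * t * a⁻¹) ∈ ai N.S N.S :=
          le_ai_self _ (mul_mem (inv_mem ht) (conj_mem_of_nz (N.aut_le_nz _ ha) ht))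
        exact mem_of_eq (mul_mem (conj_mem_of_nz' (nz_le_nz_ai_self _ (i.sc.S_le_nz k0)) k5) k4)
          (by group))
    rw [h5] at k3
    obtain ⟨b', k4, e'⟩ := q.fwd_aut inf_le_left k1.1
    rw [q.im_pre hV] at k4
    have e1 := e'.mono h4
    have k5 := k1.2.1
    rw [h5] at k5
    refine mem_exb_of k4 (mem_trv.2 ⟨e1.mem_nz m.le (mem_trv.1 k5).1, fun z hz => ?_⟩)
      ((by simpa using e.mul_cz k3 : IndM θ N.S b a').inv_mul_mem e1 m.le)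
    obtain ⟨x, hx, rfl⟩ := (mem_im (q.leU inf_le_left)).1 ((q.im_pre hV).ge hz)
    rw [← e' x hx, ← fn_inv_mul θ (q.le hx.1) (q.le (conj_mem (M_of_aut inf_le_left k1.1) hx))]
    exact fn_mem_im θ ((mem_trv.1 k5).2 x hx)

theorem le_pre_sup (q : CQ θ F F') (hU : U ≤ F.S) :
    U ≤ F.S ⊓ pre θ (im θ U ⊔ (F'.S ⊓ cz (im θ U))) :=
  le_inf hU (le_pre_iff.2 ⟨q.leU hU, le_sup_left⟩)

theorem pre_sup_le (q : CQ θ F F') (hZ : F.S ⊓ pre θ ⊥ ≤ U) (hU : U ≤ F.S) :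
    F.S ⊓ pre θ (im θ U ⊔ (F'.S ⊓ cz (im θ U))) ≤ nz U := fun _ hx =>
  (q.fn_mem_nz_iff hx.1 hU hZ).1 (F'.sup_CS_le_nz _ (mem_pre.1 hx.2).2)

theorem im_sup_pre (q : CQ θ F F') (h1 : U ≤ Q) (hQ : Q ≤ F.S) :
    im θ (Q ⊔ F.S ⊓ pre θ (im θ U ⊔ (F'.S ⊓ cz (im θ U)))) = im θ Q ⊔ (F'.S ⊓ cz (im θ U)) := by
  rw [im_sup θ (q.leU hQ) (q.leU inf_le_left), q.im_pre (sup_CS_le (q.im_le (h1.trans hQ))),
    ← sup_assoc, sup_eq_left.2 (im_mono θ h1)]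

theorem ext_lift (q : CQ θ F F') (hD : D'.Sat p) (hle : D' ≤ F') (e : D'.S = F'.S)
    (hT : F'.SC T') (hU : F'.FN (im θ U)) (hc : T' ⊓ cz (im θ U) ≤ im θ U)
    (hZ : F.S ⊓ pre θ ⊥ ≤ U) (h1 : U ≤ Q) (h2 : Q ≤ F.S ⊓ nz U) (h3 : im θ Q ≤ T')
    (hg : D'.M (im θ Q) g') (hn : g' ∈ nz (im θ U)) :
    ∃ h h', F.M (Q ⊔ F.S ⊓ pre θ (im θ U ⊔ (F'.S ⊓ cz (im θ U)))) h ∧
      IndM θ (Q ⊔ F.S ⊓ pre θ (im θ U ⊔ (F'.S ⊓ cz (im θ U)))) h h' ∧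
      D'.M (im θ Q ⊔ (F'.S ⊓ cz (im θ U))) h' ∧ g'⁻¹ * h' ∈ cz (im θ Q) ∧ h ∈ nz U ∧
      h ∈ nz (F.S ⊓ pre θ (im θ U ⊔ (F'.S ⊓ cz (im θ U)))) := by
  have hQ := h2.trans inf_le_left
  have hUS := h1.trans hQ
  have k0 := hU.of_S_eq hle e
  have k1 := im_mono θ h1
  have k2 := im_le_nz θ (q.leU hQ) (q.leU hUS) (h2.trans inf_le_right)
  obtain ⟨c, k3, k4⟩ := (NF_nor k0.1).ext_CS (hD.NF k0) (hT.of_le ((D'.normK_le _ _).trans hle))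
    ((inf_le_inf_right _ inf_le_right).trans hc) k1
    (le_inf (by rw [normK_S]; exact le_inf (D'.le_S hg) k2) h3)
    (normK_M_of k0.1 le_rfl k2 hn (by rwa [sup_eq_left.2 k1]))
  rw [NF_S_inf_cz D' le_rfl, e] at k4
  have k5 := D'.normK_le _ _ _ _ k4
  obtain ⟨h, k6, k7⟩ := q.bwd'' (sup_le hQ inf_le_left) ((q.im_sup_pre h1 hQ).symm ▸ hle _ _ k5)
  have k8 : g' * c ∈ nz (im θ U) := mul_mem hn (cz_le_nz _ (cz_anti k1 k3))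
  have k9 : U ≤ Q ⊔ F.S ⊓ pre θ (im θ U ⊔ (F'.S ⊓ cz (im θ U))) := h1.trans le_sup_left
  refine ⟨h, _, k6, k7, k5, by simpa using k3, mem_nz_iff.2 (q.cj_eq_of (F.mono k6 k9) (k7.mono k9)
    hZ hUS hZ (cj_of_nz k8)), mem_nz_iff.2 (q.cj_eq_of (F.mono k6 le_sup_right)
    (k7.mono le_sup_right) (Quo.ker_le _ _ _) inf_le_left (Quo.ker_le _ _ _) (cj_of_nz ?_))⟩
  rw [q.im_pre (sup_CS_le hU.1)]
  exact F'.aut_le_nz _ (M_nz_sup_CS (F'.mono (hle _ _ k5) (sup_le_sup_right k1 _)) k8)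

theorem stab_le_ai (q : CQ θ F F') (hF : F.Sat p) (hT : F'.SC T') (hU : F.FN U)
    (hc : T' ⊓ cz (im θ U) ≤ im θ U) (hZ : F.S ⊓ pre θ ⊥ ≤ U) (h1 : U ≤ Q) (h2 : Q ≤ F.S ⊓ nz U)
    (h3 : im θ Q ≤ T') :
    F.stab Q (F.S ⊓ pre θ ⊥) ≤ ai (F.S ⊓ pre θ (im θ U ⊔ (F'.S ⊓ cz (im θ U)))) Q := by
  intro g hg
  have hQ := h2.trans inf_le_left
  obtain ⟨ψ, k1, k2, k3, -⟩ := hF.exists_NF_fn hU h1 h2
  have k4 := F.mono k2 (le_inf h2 (le_nz Q))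
  obtain ⟨ψ', k5, e⟩ := q.fwd k4
  obtain ⟨h, h', k6, k7, -, k8, k9, k10⟩ := q.ext_lift (q.sat hF) le_rfl rfl hT
    (q.fn_im hF hU hZ) hc hZ h1 h2 h3 k5 ((e.mono h1).mem_nz (q.leU hU.1) k1)
  have k11 := F.mono k6 le_sup_left
  have e1 : cj h Q = cj ψ Q := q.cj_eq_of k11 (k7.mono le_sup_left) (hZ.trans h1) (F.cj_le k4)
    (q.ker_le_cj k4 (hZ.trans h1)) (by
      rw [q.im_cj k4 e, ← cj_mul_cz (g := ψ') k8, mul_inv_cancel_left])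
  rw [← e1] at k3
  have l1 : U ≤ cj h Q := (cj_of_nz k9).ge.trans (cj_mono h1)
  have l0 := F.cj_le k11
  have l2 : h * g * h⁻¹ ∈ F.stab (cj h Q) (F.S ⊓ pre θ ⊥) := by
    have := conj_mem_cj_of (g := h) hg
    rwa [cj_stab k11, cj_of_cz (q.cen.mem_cz k11 (hZ.trans h1))] at this
  have l3 := normK_aut_of_le hU.1 le_rfl (by simpa using k3.1) l1 (cz_le_nz U)
  have l4 := (hF.NF hU).opm_le_ai k3 (FS.stab_le_opm (F := F.NF U) hF.pg.to_inf_left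
    (by rw [l3]; exact inf_le_left.trans ((q.aut_le_cz (hZ.trans l1) l0).trans (cz_le_nz _)))
    (⟨by rw [l3]; exact ⟨l2.1, mem_nz_of_trv l2.2.1 hZ l1⟩, l2.2⟩ :
      h * g * h⁻¹ ∈ (F.NF U).stab (cj h Q) (F.S ⊓ pre θ ⊥)))
  obtain ⟨x, x1, x2, c, hc, e2⟩ := mem_ai'.1 l4
  rw [normK_S] at x1
  have x3 : x ∈ F.stab (cj h Q) (F.S ⊓ pre θ ⊥) :=
    mem_of_eq (mul_mem l2 (inv_mem (cz_le_stab (hZ.trans l1) hc))) (by rw [e2]; group)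
  have x4 : fn θ x ∈ cz (im θ (cj h Q)) := by
    simpa using (q.indM_of_stab l0 x3).inv_mul_mem (indM_mem (q.leU l0) (q.le x1.1)) (q.leU l0)
  have x5 : h * g * h⁻¹ ∈ ai (F.S ⊓ pre θ (im θ U ⊔ (F'.S ⊓ cz (im θ U)))) (cj h Q) :=
    mem_ai'.2 ⟨x, ⟨x1.1, mem_pre.2 ⟨q.le x1.1, Subgroup.mem_sup_right
      ⟨q.mem_S x1.1, cz_anti (im_mono θ l1) x4⟩⟩⟩, x2, c, hc, e2⟩
  rw [← cj_of_nz k10, ← cj_ai, mem_cj] at x5
  exact mem_of_eq x5 (by group)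

theorem pre_loc (q : CQ θ F F') (hF : F.Sat p) (h : NorIn p N' F') (hr : Rich F'.S)
    (hZ : F.S ⊓ pre θ ⊥ ≤ U) (hc : F'.CenT N'.S (im θ U)) (hU : F.FN U) :
    ∃ M : FS G, M.Sat p ∧ M.S = F.S ⊓ nz U ∧ M ≤ F.NF U ∧ M.hyp p ≤ F.S ⊓ pre θ N'.S ∧
      ∀ Q g, U ≤ Q → Q ≤ F.S ⊓ pre θ N'.S ⊓ nz U → (orderOf g).Coprime p →
        (g ∈ M.aut Q ↔ g ∈ pa θ F Q (N'.aut (im θ Q)) ∧ g ∈ nz U) := by
  have i := h.wn.invt
  have hF' := h.wn.satF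
  have hD := h.prd_sat hr
  have hU' := q.fn_im hF hU hZ
  have hpi := h.wn.ppi_prd
  set D' := prd p F' N'
  have hle : D' ≤ F' := prd_le
  have hV' := sup_CS_le hU'.1
  have hVn := q.pre_sup_le hZ hU.1
  have hUV := q.le_pre_sup hU.1
  have hi := q.im_pre hV'
  have sa := fun {Q : Subgroup G} => q.stab_le_ai (Q := Q) hF i.sc hU (hc.cz_le i.S_le) hZ
  have el := fun {Q : Subgroup G} {g' : G'} => q.ext_lift (Q := Q) (g' := g') hD hle rfl i.sc hU'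
    (hc.cz_le i.S_le) hZ
  set V' := im θ U ⊔ (F'.S ⊓ cz (im θ U))
  set V := F.S ⊓ pre θ V'
  have hVS : V ≤ (F.NF U).S := by rw [normK_S]; exact le_inf inf_le_left hVn
  set K := pa θ F V (D'.aut V') ⊓ nz U
  have hK : K ≤ nz V := inf_le_left.trans (pa_le.trans (F.aut_le_nz _))
  have hSK : F.S ⊓ nz U ≤ K := fun x hx => by
    have k1 := mem_nz_sup_CS (q.mem_S hx.1) (fn_mem_nz θ (q.le hx.1) (q.leU hU.1) hx.2)
    exact ⟨mem_pa.2 ⟨mem_aut_of (F.inner inf_le_left hx.1) (mem_nz_inf (le_nz _ hx.1)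
      (le_nz_pre (q.le hx.1) k1)), _, mem_aut_of (D'.inner hV' (q.mem_S hx.1)) k1,
      indM_mem (q.leU inf_le_left) (q.le hx.1)⟩, hx.2⟩
  have hMS : ((F.NF U).normK V K).S = F.S ⊓ nz U := by rw [normK_S, normK_S, inf_eq_left.2 hSK]
  have hML := (F.NF U).normK_le V K
  have hcV : F'.Cent V' := (hF'.fc hU').cent_sup
  have m : Mor θ ((F.NF U).normK V K) D' := by
    refine ⟨hMS ▸ q.leU inf_le_left, hMS ▸ q.im_le inf_le_left, fun {Q g} hg => ?_⟩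
    obtain ⟨-, c, k1, k2, k3⟩ := (normK_M hVS hK).1 hg
    have k4 := F.normK_le _ _ _ _ k3
    obtain ⟨g', k5, e⟩ := q.fwd k4
    have k6 := mem_of_pa (q.leU inf_le_left) (hi.symm ▸ D'.cz_le_aut V') k2.1 (e.mono le_sup_right)
    have k7 := hF'.M_of_cent hD hle rfl hcV (hi.ge.trans (im_mono θ le_sup_right)) k5
      (M_of_aut hV' k6)
    exact ⟨g', D'.mono k7 (im_mono θ le_sup_left), by
      simpa using (e.mono le_sup_left).mul_cz (inv_mem k1)⟩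
  refine ⟨_, (hF.NF hU).normK ((hF.NF hU).fk_of_normal (FN.of_normal hVS (by
    rw [normK_S]; exact hSK.trans hK)) (le_inf cz_le_pa ((cz_anti hUV).trans (cz_le_nz U))) hK
    (by rw [normK_S]; exact inf_le_left.trans (hSK.trans (le_nz K)))), hMS, hML,
    le_inf ((hyp_le _ p).trans (hMS.le.trans inf_le_left)) (le_pre_iff.2 ⟨m.leU (hyp_le _ p),
      m.im_hyp_le.trans hpi.2.1⟩), fun Q g h1 h2 h3 => ?_⟩
  have hQ : Q ≤ F.S ⊓ nz U := le_inf (h2.trans (inf_le_left.trans inf_le_left))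
    (h2.trans inf_le_right)
  have hQ' : im θ Q ≤ N'.S := (le_pre_iff.1 (h2.trans (inf_le_left.trans inf_le_right))).2
  have hQU := q.leU (hQ.trans inf_le_left)
  refine ⟨fun hg => ?_, fun ⟨hg, hn⟩ => ?_⟩
  · have k1 := M_of_aut (hMS ▸ hQ) hg
    obtain ⟨g₀, -, e₀⟩ := m.fwd k1
    obtain ⟨g', -, k2, e⟩ := e₀.cop_right (aut_le_nz _ _ hg) h3
    exact ⟨mem_pa.2 ⟨aut_mono (hML.trans (F.normK_le _ _)) _ hg, g', hpi.2.2 _ hQ'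
      (mem_pres (m.mem_aut (hMS ▸ hQ) hg e) k2), e⟩, (NF_nor hU.1).sc.mem_nz (hML _ _ k1) h1⟩
  · obtain ⟨k1, g', k2, e⟩ := mem_pa.1 hg
    obtain ⟨b, b', l1, l2, l3, l4, l5, l6⟩ := el h1 hQ hQ' (hpi.1 _ _ (M_of_aut hQ' k2))
      ((e.mono h1).mem_nz (q.leU hU.1) hn)
    have l7 : b ∈ nz Q := mem_nz_iff.2 (q.cj_eq_of (F.mono l1 le_sup_left) (l2.mono le_sup_left)
      (hZ.trans h1) (hQ.trans inf_le_left) (hZ.trans h1) (cj_of_nz (mem_of_eq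
        (mul_mem (N'.aut_le_nz _ k2) (cz_le_nz _ l4)) (by group))))
    have l8 : b ∈ K := ⟨mem_pa.2 ⟨mem_aut_of (F.mono l1 le_sup_right) l6, b', mem_aut_of
      (D'.mono l3 (sup_le_sup_right (im_mono θ h1) _))
      (hi ▸ (l2.mono le_sup_right).mem_nz (q.leU inf_le_left) l6), l2.mono le_sup_right⟩, l5⟩
    have l9 : b ∈ ((F.NF U).normK V K).aut Q := mem_aut_of (normK_M_of hVS hK (hQ.trans hSK) l8
      (normK_M_of hU.1 le_rfl (sup_le (hQ.trans inf_le_right) hVn) l5 (by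
        rwa [sup_eq_left.2 (h1.trans le_sup_left)]))) l7
    have l10 := mul_mem (inv_mem (aut_mono (hML.trans (F.normK_le _ _)) _ l9)) k1
    have l11 := sa h1 hQ hQ' (q.mem_stab' (hZ.trans h1) (M_of_aut (hQ.trans inf_le_left) l10)
      (F.aut_le_nz _ l10) ((e.mul (l2.mono le_sup_left).inv (by
        rw [cj_of_nz l7, cj_of_nz (F.aut_le_nz _ k1)])).one_of_cz (by simpa using inv_mem l4)))
    exact mem_of_eq (mul_mem l9 (ai_le_aut (hMS ▸ hQ) (hMS ▸ le_inf inf_le_left hVn) l11))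
      (by group)

/-- The preimage of a normal subsystem. -/
theorem exists_pre (q : CQ θ F F') (hF : F.Sat p) (h : NorIn p N' F') (hr : Rich F'.S) :
    ∃ N, NorIn p N F ∧ N.S = F.S ⊓ pre θ N'.S ∧ ∀ g ∈ N.aut N.S, (orderOf g).Coprime p →
      g ∈ pa θ F N.S (N'.aut N'.S) := by
  have i := h.wn.invt
  have hi := q.im_pre i.S_le
  have n : NMp p F (F.S ⊓ pre θ N'.S)
      (fun W => F.S ⊓ pre θ ⊥ ≤ W ∧ W ≤ F.S ∧ F'.CenT N'.S (im θ W))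
      (fun W => pa θ F W (N'.aut (im θ W))) := by
    refine ⟨hF, q.sc_pre i.sc, fun h => le_inf h.2.1 (le_pre_iff.2 ⟨q.leU h.2.1, h.2.2.1⟩),
      fun {W g} hW hg => ?_, fun hW h1 h2 => ⟨hW.1.trans h1, h2.trans inf_le_left,
        hW.2.2.mono (im_mono θ h1) (le_pre_iff.1 (h2.trans inf_le_right)).2⟩,
      ⟨Quo.ker_le _ _ _, inf_le_left, hi.symm ▸ i.sc.cenT_self⟩, fun P _ h2 h3 =>
        ⟨le_inf (q.ker_le_of_cent h2) (Quo.ker_le _ _ _), inf_le_left.trans h2.1, ?_⟩,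
      fun P h1 h2 => ?_, fun _ => pa_le, fun _ => cz_le_pa, fun {W} hW x hx => ?_,
      fun {W a} hW ha => ?_, fun hU hn => q.pre_loc hF h hr hU.1 hU.2.2 hn⟩
    · obtain ⟨g', k1, e⟩ := q.fwd hg
      exact ⟨q.ker_le_cj hg hW.1, F.cj_le hg, q.im_cj hg e ▸ hW.2.2.cj i.sc k1⟩
    · rw [q.im_inf_pre' h2.1]
      exact h.wn.satF.cenT_inf i.sc (q.cent hF.pg h2 h3) (q.rad hF.pg h2 h3)
    · have hP := h1.1.trans inf_le_left
      have hZ : F.S ⊓ pre θ ⊥ ≤ P := (le_inf (Quo.ker_le _ _ _) ((q.cen.le_Z.trans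
        inf_le_right).trans (cz_anti hP))).trans (h1.cz_le inf_le_left)
      by_contra hn
      refine h2 ⟨hZ, hP, (le_pre_iff.1 (h1.1.trans inf_le_right)).2, fun g' hg' z hz => ?_⟩
      obtain ⟨g, hg, e⟩ := q.bwd'' hP hg'
      obtain ⟨x, hx, rfl⟩ := q.lift_mem (i.S_le hz.1)
      rw [← q.im_cj hg e] at hz ⊢
      by_contra hx'
      exact hn ⟨g, hg, x, ⟨hx, mem_pre.2 ⟨q.le hx, hz.1⟩⟩, fun k => hx' (fn_mem_im θ k),
        q.stab_le_opm hF.pg (q.ker_le_cj hg hZ) (F.cj_le hg)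
          (q.stab_of_cz (q.ker_le_cj hg hZ) (F.cj_le hg) hx hz.2)⟩
    · exact mem_pa.2 ⟨mem_aut_of (F.inner hW.2.1 hx.1.1) hx.2, _, mem_aut_of
        (N'.inner hW.2.2.1 (mem_pre.1 hx.1.2).2) (fn_mem_nz θ (q.le hx.1.1) (q.leU hW.2.1) hx.2),
        indM_mem (q.leU hW.2.1) (q.le hx.1.1)⟩
    · obtain ⟨a', k1, e⟩ := q.fwd ha
      rw [q.im_cj ha e, ← i.cj_aut hW.2.2.1 k1]
      exact cj_pa ha e
  obtain ⟨N, h1, h2, h3⟩ := n.exists_normal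
  refine ⟨N, h1, h2, fun g hg hc => ?_⟩
  rw [h2] at hg ⊢
  have := (h3 _ g n.top hc).1 hg
  rwa [hi] at this

end CQ

end FS

end Cfsg.Agent.Fusion
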