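import Cfsg.Agent.Fusion.LM

/-! The centralizer of a normal subsystem. -/

set_option autoImplicit false
set_option linter.unusedSectionVars false

namespace Cfsg.Agent.Fusion

namespace FS

universe u

variable {G : Type u} [Group G] [Finite G] {F E D : FS G} {P Q R T U V W X Y H L N : Subgroup G}
  {a b c g h k x : G} {p : ℕ} [hp : Fact p.Prime]

theorem CF_anti (h : X ≤ Y) (hY : Y ≤ F.S) : F.CF Y ≤ F.CF X := fun P g hg => by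
  obtain ⟨h1, c, hc, h2, h3⟩ := (CF_M hY).1 hg
  exact (CF_M (h.trans hY)).2 ⟨h1.trans (inf_le_inf_left _ (cz_anti h)), c, hc, cz_anti h h2,
    F.mono h3 (sup_le_sup_left h _)⟩

theorem le_cz_of_le_CF (h : E ≤ F.CF X) : E.S ≤ cz X := (S_le h).trans (by simp)

theorem le_cz_of_le_CF' (h : E ≤ F.CF X) : X ≤ cz E.S := le_cz_comm.1 (le_cz_of_le_CF h)

theorem CF_M_of (hX : X ≤ F.S) (hP : P ≤ cz X) (h1 : a⁻¹ * b ∈ cz P) (h2 : b ∈ cz X)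
    (h3 : F.M (P ⊔ X) b) : (F.CF X).M P a :=
  (CF_M hX).2 ⟨le_inf (le_sup_left.trans (F.le_S h3)) hP, _, h1, by simpa using h2, by simpa using h3⟩

theorem Invt.le_of_ao (h : E.Invt F) (hF : F.Sat p) (hS : F.S ≤ D.S)
    (h1 : ∀ P g, E.S ≤ P → F.M P g → D.M P g)
    (h2 : ∀ P g, P ≤ F.S → F.CenT E.S (P ⊓ E.S) → g ∈ F.ao E P → (orderOf g).Coprime p → D.M P g) :
    F ≤ D := hF.alperin_M hS fun P g a1 a2 a3 hg _ =>
  have f := fam_cenT hF h.sc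
  hF.M_of_normal h.sc _ f.conj (fun P hP => f.mono _ _ hP le_sup_left
    (sup_le hP.1 (inf_le_left.trans h.S_le))) (fun P g _ => h1 P g) (fun P hP hn =>
      ⟨ai E.S P ⊔ pres p (F.ao E P), (cz_le_ai _ _).trans le_sup_left,
        sup_le (ai_le_aut hP.1 h.S_le) ((pres_le _).trans ao_le), sup_le (ai_le_aut (hP.1.trans hS)
          (h.S_le.trans hS)) (pres_le_iff.2 fun g hg hc => mem_aut_of (h2 P g hP.1 hP.2 hg hc)
            (ao_le_nz hg)), hF.le_nz_ai_sup_pres h.sc hn ao_le cz_le_ao (h.le_nz_ao hP.1)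
              (h.sc.NT_le_ao hP.1), (inf_le_ai _ _).trans le_sup_left⟩) hS (f.cr P a1 a2 a3) hg

theorem NorIn.ao_unique (h : NorIn p E F) (hr : Rich F.S) (hP : P ≤ F.S)
    (hU : F.CenT E.S (P ⊓ E.S)) (ha : a ∈ F.ao E P) (ha' : (orderOf a).Coprime p)
    (hb : b ∈ F.ao E P) (hb' : (orderOf b).Coprime p) (hc : a⁻¹ * b ∈ cz (P ⊓ E.S)) :
    ∃ z ∈ P ⊓ E.S, z ∈ cz (P ⊓ E.S) ∧ z⁻¹ * (a⁻¹ * b) ∈ cz P :=
  h.pres_ao hr hP hU (mul_mem (inv_mem (mem_pres ha ha')) (mem_pres hb hb')) hc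

theorem sup_inf_eq_of_le (h1 : X ≤ P) : (P ⊓ T ⊔ X) ⊓ T = P ⊓ T :=
  le_antisymm (inf_le_inf_right _ (sup_le inf_le_left h1)) (le_inf le_sup_left inf_le_right)

theorem NorIn.ao_cz (h : NorIn p E F) (hr : Rich F.S) (hP : P ≤ F.S) (hU : F.CenT E.S (P ⊓ E.S))
    (hX : X ≤ P) (hE : E ≤ F.CF X) (hg : g ∈ F.ao E P) (hc : (orderOf g).Coprime p) : g ∈ cz X := by
  have e := sup_inf_eq_of_le (T := E.S) hX
  have h1 : P ⊓ E.S ⊔ X ≤ P := sup_le inf_le_left hX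
  obtain ⟨h0, c, c1, c2, c3⟩ := (CF_M (hX.trans hP)).1 (hE _ _ (M_of_aut inf_le_right hg.2.2))
  have h2 := mul_mem (trv_le_nz _ _ hg.2.1) (cz_le_nz _ c1)
  have h3 : g * c ∈ F.ao E (P ⊓ E.S ⊔ X) := ⟨mem_aut_of c3 (mem_nz_sup h2 (cz_le_nz _ c2)), by
    rw [e]
    exact ⟨mem_trv_sup (le_nz _) ((le_cz_comm.1 (h0.trans inf_le_right)).trans (cz_le_nz _))
      (mem_trv_self h2) (mem_trv_of_cz c2 h2), mul_mem hg.2.2 (E.cz_le_aut _ c1)⟩⟩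
  obtain ⟨b, b1, b2, b3⟩ := exists_cop (g := g * c) hc (nz_le_nz_cz _ (trv_le_nz _ _ hg.2.1))
    (by simpa using c1)
  obtain ⟨z, z1, -, z2⟩ := h.ao_unique hr (h1.trans hP) (e.symm ▸ hU) (mem_ao_of_le hP hg h1
    (mem_nz_of_ao hg le_sup_left h1)) hc (Subgroup.zpowers_le.2 h3 b1) b2 (e.symm ▸ b3)
  exact mem_of_eq (mul_mem (Subgroup.zpowers_le.2 c2 b1) (inv_mem (mul_mem
    (le_cz_of_le_CF hE z1.2) (cz_anti le_sup_right z2)))) (by group)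

theorem NorIn.exists_top (h : NorIn p E F) (ha : a ∈ E.aut E.S) (hc : (orderOf a).Coprime p) :
    ∃ b ∈ F.ao E (E.S ⊔ (F.S ⊓ cz E.S)), (orderOf b).Coprime p ∧ a⁻¹ * b ∈ cz E.S := by
  obtain ⟨b, h1, h2, h3, h4⟩ := exists_cop_of_exb (extc_iff.1 h.extc ha) hc
  refine ⟨b, ⟨h1, ?_⟩, h3, h4⟩
  rw [inf_eq_right.2 (le_sup_left (a := E.S))]
  exact ⟨h2, by simpa using mul_mem ha (E.cz_le_aut _ h4)⟩

theorem SC.cenT_of_ge (hT : F.SC T) (h : T ≤ P) : F.CenT T (P ⊓ T) := by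
  rw [inf_eq_right.2 h]; exact hT.cenT_self

theorem WN.le_CF (h : WN p E F) (hR : F.WC R) (h1 : E.S ≤ cz R)
    (h2 : E.aut E.S ≤ (F.CF R).aut E.S) : E ≤ F.CF R := by
  have h3 : E.S ≤ F.S ⊓ cz R := le_inf h.invt.S_le h1
  refine h.satE.alperin' (by simpa using h3) h2 fun P hP => pres'_le_of_nd (fun g hg => ?_)
    (nd_of_le_left (h.satE.fa hP.fn).2 (ai_le_aut (hP.le.trans (by simpa using h3))
      (by simpa using h3)))
  have h4 := le_cz_comm.1 (hP.le.trans h1)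
  have h5 := E.aut_le_nz P hg
  obtain ⟨c, hc, h6⟩ := h.satF.ext_cz hR (h.invt.le _ _ (M_of_aut hP.le hg)) h4
    (by rwa [cj_of_nz h5])
  have h7 := mul_mem h5 (cz_le_nz _ hc)
  have h8 := hR.mem_nz h6 le_sup_right
  refine (mul_mem_cancel_right (le_nz _ (cz_le_aut _ _ hc))).1 ?_
  rw [normK_aut hR.1 (cz_le_nz R) (hP.le.trans h3)]
  exact mem_nz_sup (mem_nz_inf (le_nz _ (mem_aut_of h6 (mem_nz_sup h7 h8)))
    (mem_nz_inf (nz_le_nz_cz _ h8) (mem_nz_nz h7))) (nz_le_nz_cz _ h7)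

theorem Invt.le_CF_cj (h : E.Invt F) (hg : F.M (X ⊔ E.S) g) (hE : E ≤ F.CF X) :
    E ≤ F.CF (cj g X) := by
  have := CF_cjs (le_sup_left.trans (F.le_S hg)) hg hE
  rwa [h.cjs_eq (mem_aut_of (F.mono hg le_sup_right) (h.sc.mem_nz hg le_sup_right))] at this

theorem NorIn.le_CF_cj (h : NorIn p E F) (hr : Rich F.S) (hg : F.M X g) (hE : E ≤ F.CF X) :
    E ≤ F.CF (cj g X) := by
  have i := h.wn.invt
  have k : ∀ {P g}, E.S ≤ P → F.M P g → ∀ X ≤ P, E ≤ F.CF X ↔ E ≤ F.CF (cj g X) :=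
    fun {P g} h1 h2 X hX => ⟨i.le_CF_cj (F.mono h2 (sup_le hX h1)), fun h3 => by
      simpa using i.le_CF_cj (inv' h2 (sup_le (cj_mono hX) ((cj_of_nz (i.sc.mem_nz h2 h1)).ge.trans
        (cj_mono h1)))) h3⟩
  exact (((i.le_of_ao h.wn.satF (D := F.sub (fun P g => ∀ X ≤ P, E ≤ F.CF X ↔ E ≤ F.CF (cj g X))
    (fun _ hR h X hX => h X (hX.trans hR))
    (fun _ hc h X hX => by rw [cj_mul_cz (cz_anti hX hc)]; exact h X hX)
    (fun hP hs X hX => k i.S_le (F.inner le_rfl hs) X (hX.trans hP))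
    (fun _ _ h h' X hX => by rw [cj_mul]; exact (h X hX).trans (h' _ (cj_mono hX)))
    (fun _ h X hX => by simpa using (h _ (le_cj_iff.1 hX)).symm)) le_rfl
    (fun P g h1 h2 => ⟨h2, k h1 h2⟩) fun P g h1 h2 h3 h4 => ⟨M_of_aut h1 h3.1, fun X hX =>
      ⟨fun h5 => by rwa [cj_of_cz (h.ao_cz hr h1 h2 hX h5 h3 h4)], fun h5 => by
        have := cj_of_cz (inv_mem (h.ao_cz hr h1 h2 ((cj_mono hX).trans
          (cj_of_nz (ao_le_nz h3)).le) h5 h3 h4))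
        rwa [← this, cj_inv_cj] at h5⟩⟩) X g hg).2 X le_rfl).1 hE

/-- The centralizer in `F.S` of a subsystem. -/
def cse (F E : FS G) : Subgroup G := sSup {X | X ≤ F.S ∧ E ≤ F.CF X}

theorem le_cse (hX : X ≤ F.S) (h : E ≤ F.CF X) : X ≤ F.cse E := le_sSup ⟨hX, h⟩

theorem cse_le : F.cse E ≤ F.S ⊓ cz E.S := sSup_le fun _ h => le_inf h.1 (le_cz_of_le_CF' h.2)

theorem cse_le_S : F.cse E ≤ F.S := cse_le.trans inf_le_left

theorem NorIn.le_CF_cse (h : NorIn p E F) (hr : Rich F.S) : E ≤ F.CF (F.cse E) := by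
  have h1 := le_cz_comm.1 ((cse_le (F := F) (E := E)).trans inf_le_right)
  refine h.wn.le_CF ⟨cse_le_S, fun g hg => cj_of_nz (mem_nz_of_le ?_)⟩ h1 (h.wn.satE.aut_S_le
    (fun x hx => NS_le_aut (by simpa using ⟨h.wn.invt.S_le, h1⟩)
      ⟨by simpa using ⟨h.wn.invt.S_le hx, h1 hx⟩, le_nz _ hx⟩) (cz_le_aut _ _) fun a ha hc => ?_)
  · rw [cse, cj_sSup]
    refine sSup_le ?_
    rintro _ ⟨X, hX, rfl⟩
    have := F.mono hg (le_cse hX.1 hX.2)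
    exact le_sSup ⟨F.cj_le this, h.le_CF_cj hr this hX.2⟩
  obtain ⟨b, b1, b2, b3⟩ := h.exists_top ha hc
  have h2 := sup_CS_le h.wn.invt.S_le
  refine mem_aut_of (CF_M_of cse_le_S h1 b3 (Subgroup.zpowers_le.1 (le_cz_comm.1 (sSup_le
    fun X hX => le_cz_comm.1 (Subgroup.zpowers_le.2 (h.ao_cz hr h2 (h.wn.invt.sc.cenT_of_ge
      le_sup_left) (((le_cse hX.1 hX.2).trans cse_le).trans le_sup_right) hX.2 b1 b2)))))
    (F.mono (M_of_aut h2 b1.1) (sup_le_sup_left cse_le _))) (E.aut_le_nz _ ha)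

theorem NorIn.le_cse_iff (h : NorIn p E F) (hr : Rich F.S) (hX : X ≤ F.S) :
    X ≤ F.cse E ↔ E ≤ F.CF X :=
  ⟨fun h1 => (h.le_CF_cse hr).trans (CF_anti h1 cse_le_S), le_cse hX⟩

theorem NorIn.sc_cse (h : NorIn p E F) (hr : Rich F.S) : F.SC (F.cse E) :=
  ⟨cse_le_S, fun _ _ h1 hg => le_cse (F.cj_le hg)
    (h.le_CF_cj hr hg ((h.le_cse_iff hr (F.le_S hg)).1 h1))⟩

theorem NorIn.le_CF_sup (h : NorIn p E F) (hr : Rich F.S) (hX : X ≤ F.S) (hY : Y ≤ F.S)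
    (h1 : E ≤ F.CF X) (h2 : E ≤ F.CF Y) : E ≤ F.CF (X ⊔ Y) :=
  (h.le_cse_iff hr (sup_le hX hY)).1 (sup_le (le_cse hX h1) (le_cse hY h2))

theorem NorIn.exists_cz_foc (h : NorIn p E F) (hr : Rich F.S) (hU : F.CenT E.S U)
    (ha : a ∈ E.aut U) (hc : (orderOf a).Coprime p) :
    ∃ b, a⁻¹ * b ∈ cz U ∧ b ∈ cz (F.CF U).foc ∧ F.M (U ⊔ (F.CF U).foc) b := by
  have i := h.wn.invt
  have hf : ∀ U, (F.CF U).foc ≤ F.S ⊓ cz U := fun U => (foc_le _).trans (by simp)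
  wlog hn : F.FC U generalizing U a
  · obtain ⟨g, h1, h2⟩ := h.wn.satF.exists_FN (hU.1.trans i.S_le)
    replace h1 := F.mono h1 (le_inf (sup_CS_le (hU.1.trans i.S_le)) (F.sup_CS_le_nz U))
    have h3 := F.mono h1 le_sup_left
    obtain ⟨b, b1, b2, b3⟩ := this (hU.cj i.sc h3) (i.cj_aut hU.1 h3 ▸ conj_mem_cj_of ha)
      (by rwa [orderOf_conj']) (h.wn.satF.fc h2)
    have h4 := foc_mono (CF_cjs (hU.1.trans i.S_le) (by simpa using h1) le_rfl)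
    rw [cjs_foc] at h4
    have h5 := F.mono h1 (sup_le_sup_left (hf U) _)
    have h6 : b ∈ nz (cj g (U ⊔ (F.CF U).foc)) := by
      rw [cj_sup]
      refine mem_nz_sup ?_ (cz_le_nz _ (cz_anti h4 b2))
      exact mem_of_eq (mul_mem (conj_mem_nz_cj (g := g) (E.aut_le_nz U ha)) (cz_le_nz _ b1))
        (by group)
    exact ⟨g⁻¹ * b * g, mem_of_eq (conj_inv_mem_cz b1) (by group), conj_inv_mem_cz (cz_anti h4 b2),
      mul_assoc g⁻¹ b g ▸ mul' (mul' h5 b3 (by rw [cj_sup]; exact sup_le_sup_left h4 _)) (F.inv h5)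
        (by rw [cj_mul, cj_of_nz h6])⟩
  obtain ⟨b, b1, b2, b3, b4⟩ := exists_cop_of_exb (h.aut_le_exb hr hU ha) hc
  have e := sup_CS_inf (F := F) hU.1 (hU.cz_le i.S_le)
  have s := sup_CS_le hn.1
  have b5 : b ∈ F.ao E (U ⊔ (F.S ⊓ cz U)) :=
    ⟨b1, by rw [e]; exact ⟨b2, by simpa using mul_mem ha (E.cz_le_aut _ b4)⟩⟩
  have k : ∀ Y g, Y ≤ F.S ⊓ cz U → g ∈ F.aut (Y ⊔ U) → g ∈ cz U → ∀ y ∈ Y,
      y⁻¹ * (g * y * g⁻¹) ∈ cz (Subgroup.zpowers b) := fun Y g h1 h2 h3 y hy => by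
    have h4 : Y ⊔ U ≤ U ⊔ (F.S ⊓ cz U) := sup_le (h1.trans le_sup_right) le_sup_left
    have e' : (Y ⊔ U) ⊓ E.S = U :=
      le_antisymm ((inf_le_inf_right _ h4).trans e.le) (le_inf le_sup_right hU.1)
    have h5 := mem_pres (mem_ao_of_le s b5 h4 (mem_nz_of_trv b2 le_sup_right h4)) b3
    obtain ⟨z, z1, -, z2⟩ := h.pres_ao hr (h4.trans s) (e'.symm ▸ hU) (g := g⁻¹ * b * g * b⁻¹)
      (mul_mem (conj_mem_of_nz' (nz_le_nz_pres _ (i.le_nz_ao (h4.trans s) h2)) h5) (inv_mem h5))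
      (e'.symm ▸ mem_of_eq (mul_mem (inv_mem h3) (conj_mem_cz (trv_le_nz _ _ b2) h3)) (by group))
    rw [e'] at z1
    have h6 := (mem_trv.1 b2).2 y (h4 (Subgroup.mem_sup_left hy))
    have h7 : y⁻¹ * (g * y * g⁻¹) ∈ cz U := mul_mem (inv_mem (h1 hy).2)
      (conj_mem_cz (cz_le_nz U h3) (h1 hy).2)
    have h8 : g⁻¹ * b * g * b⁻¹ ∈ cz Y := by
      simpa using mul_mem (le_cz_comm.1 (h1.trans inf_le_right) z1) (cz_anti le_sup_left z2)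
    have h9 : g⁻¹ * b * g * b⁻¹ ∈ cz U := mem_of_eq (mul_mem (inv_mem h3)
      (conj_mem_cz (trv_le_nz _ _ b2) h3)) (by group)
    have e1 := conj_eq_of_cz h8 hy
    have e2 := conj_eq_of_cz h9 h6
    have e3 := conj_eq_of_cz h3 h6
    have e4 := conj_eq_of_cz h7 h6
    generalize hu : y⁻¹ * (b * y * b⁻¹) = u at e2 e3 e4
    generalize hd : g⁻¹ * b * g * b⁻¹ = d at e1 e2
    rw [mem_cz_zpowers]
    calc b * (y⁻¹ * (g * y * g⁻¹))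
        = u⁻¹ * y⁻¹ * g * ((d * y * d⁻¹) * (d * u * d⁻¹)) * g⁻¹ * b := by rw [← hu, ← hd]; group
      _ = u⁻¹ * ((y⁻¹ * (g * y * g⁻¹)) * (g * u * g⁻¹) * (y⁻¹ * (g * y * g⁻¹))⁻¹) *
          (y⁻¹ * (g * y * g⁻¹)) * b := by rw [e1, e2]; group
      _ = _ := by rw [e3, e4]; group
  refine ⟨b, b4, Subgroup.zpowers_le.1 (le_cz_comm.1 ((h.wn.satF.CF hn).foc_le_of_p'
    (commutator_le_iff'.2 fun x hx y hy => ?_) fun P g hP hg _ x hx => ?_)),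
    F.mono (M_of_aut s b1) (sup_le_sup_left (hf U) _)⟩
  · rw [normK_S] at hx hy
    exact k _ y le_rfl (NS_le_aut (sup_le inf_le_left hn.1) ⟨hy.1, le_nz _
      (Subgroup.mem_sup_left hy)⟩) hy.2 x hx
  · obtain ⟨h1, c, c1, c2, c3⟩ := (CF_M hn.1).1 (M_of_aut (hP.elim le_of_eq Ess.le) hg)
    exact conj_mul_cz c1 hx ▸ k P _ h1 (mem_aut_of c3 (mem_nz_sup (mul_mem (aut_le_nz _ _ hg)
      (cz_le_nz _ c1)) (cz_le_nz _ c2))) c2 x hx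

theorem Sat.cent_of (hF : F.Sat p) (hP : P = F.S ∨ F.Ess p P) : F.Cent P :=
  hP.elim (fun e => e ▸ F.cent_S) Ess.cent

theorem Sat.rad_of (hF : F.Sat p) (hP : P = F.S ∨ F.Ess p P) : F.Rad p P :=
  hP.elim (fun e => e ▸ hF.rad_S) fun h => h.rad hF.pg

theorem NorIn.foc_CF_le (h : NorIn p E F) (hr : Rich F.S) : (F.CF E.S).foc ≤ F.cse E := by
  have h1 : (F.CF E.S).foc ≤ F.S ⊓ cz E.S := (foc_le _).trans (by simp)
  have h2 := le_cz_comm.1 (h1.trans inf_le_right)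
  refine le_cse (h1.trans inf_le_left) (h.wn.satE.alperin_p' (by simpa using ⟨h.wn.invt.S_le, h2⟩)
    fun P g hP hg hc => ?_)
  have h3 := h.wn.satE.cent_of hP
  obtain ⟨b, b1, b2, b3⟩ := h.exists_cz_foc hr (h.wn.invt.cenT_iff.2 h3) hg hc
  have h4 := foc_mono (CF_anti (F := F) h3.1 h.wn.invt.S_le)
  exact CF_M_of (h1.trans inf_le_left) (h3.1.trans h2) b1 (cz_anti h4 b2)
    (F.mono b3 (sup_le_sup_left h4 _))

theorem NorIn.exists_CE (h : NorIn p E F) (hr : Rich F.S) :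
    ∃ D, D.S = F.cse E ∧ NorIn p D F ∧ D.PPI (F.CF E.S) p := by
  have hT := h.wn.invt.sc
  obtain ⟨D, h1, h2, h3⟩ := (h.wn.satF.CF (h.wn.satF.fc hT.fn)).exists_ppi
    ((hyp_le_foc _ p).trans (h.foc_CF_le hr)) (by simpa using cse_le)
  exact ⟨D, h1, h.wn.satF.norIn_of_ppi_CF hT h2 h3 (h1 ▸ h.sc_cse hr) (h1 ▸ h.foc_CF_le hr), h3⟩

theorem NorIn.trans (h1 : NorIn p E D) (h2 : NorIn p D F) (i : E.Invt F) (hr : Rich F.S) :
    NorIn p E F := by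
  refine ⟨⟨h1.wn.satE, h2.wn.satF, i⟩, h1.wn.satE.extc_of_cop i.S_le fun a ha hc => ?_⟩
  obtain ⟨b, b1, b2, b3⟩ := h1.exists_top ha hc
  have j := h2.wn.invt
  have l1 := h1.wn.invt.S_le
  have e : (E.S ⊔ (F.S ⊓ cz E.S)) ⊓ D.S = E.S ⊔ (D.S ⊓ cz E.S) := by
    rw [sup_inf_of_nz (fun x hx => mem_nz_inf (le_nz _ (i.S_le hx))
      (nz_le_nz_cz _ (le_nz _ hx))) l1, inf_right_comm, inf_eq_right.2 j.S_le]
  have e' : (E.S ⊔ (D.S ⊓ cz E.S)) ⊓ E.S = E.S := inf_eq_right.2 le_sup_left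
  have s := sup_CS_le l1
  have n : ∀ x ∈ F.S, x ∈ F.aut (E.S ⊔ (D.S ⊓ cz E.S)) := fun x hx => NS_le_aut (s.trans j.S_le)
    ⟨hx, mem_nz_sup (i.sc.S_le_nz hx) (mem_nz_inf (j.sc.S_le_nz hx) (nz_le_nz_cz _ (i.sc.S_le_nz hx)))⟩
  have n' := nz_le_nz_ai_self _ (ao_le_nz b1)
  have k : b ∈ trv (E.S ⊔ (F.S ⊓ cz E.S)) (ai (E.S ⊔ (D.S ⊓ cz E.S)) (E.S ⊔ (D.S ⊓ cz E.S))) := by
    refine mem_trv_sup ((le_sup_left.trans (le_ai_self _)).trans (le_nz _))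
      (fun x hx => nz_le_nz_ai_self _ (F.aut_le_nz _ (n x hx.1)))
      (trv_anti (le_sup_left.trans (le_ai_self _)) _ (mem_trv_self n'))
      (mem_trv.2 ⟨n', fun x hx => ?_⟩)
    have h3 : x ∈ nz (D.ao E (E.S ⊔ (D.S ⊓ cz E.S))) := mem_nz_inf (j.aut_normal s (n x hx.1)) (by
      rw [e']
      exact mem_nz_inf (mem_nz_trv (F.aut_le_nz _ (n x hx.1)) (cz_le_nz _ hx.2))
        (i.aut_normal le_rfl (F.cz_le_aut _ hx.2)))
    have h4 := mem_pres b1 b2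
    obtain ⟨z, z1, -, z2⟩ := h1.pres_ao (hr.mono j.S_le) s (h1.wn.invt.sc.cenT_of_ge le_sup_left)
      (g := x⁻¹ * (b * x * b⁻¹)) (mem_of_eq (mul_mem (conj_mem_of_nz' (nz_le_nz_pres _ h3) h4)
        (inv_mem h4)) (by group)) (by
          rw [e']
          exact (cz _).mul_mem ((cz _).inv_mem hx.2) (conj_mem_cz (e' ▸ trv_le_nz _ _ b1.2.1) hx.2))
    simpa using mul_mem (le_ai_self _ z1.1) (cz_le_ai _ _ z2)
  obtain ⟨g, g1, g2, g3⟩ := h2.exists_ao' hr (sup_CS_le i.S_le) (e.symm ▸ j.cenT_iff.2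
    (h1.wn.satF.fc h1.wn.invt.sc.fn).cent_sup) (e.symm ▸ b1.1) b2 (e.symm ▸ (mem_trv.1 k).2)
  rw [e] at g3
  have g4 := g1.2.1
  rw [e] at g4
  have g5 := mul_mem b1.2.1 (cz_le_trv le_rfl inf_le_left g3)
  rw [e', mul_inv_cancel_left] at g5
  exact mem_exb_of g1.1 (trv_trans g2 g4 g5 (h1.wn.satF.pg_le s) (D.sup_CS_le_nz _))
    (mem_of_eq (mul_mem b3 (cz_anti le_sup_left g3)) (by group))

theorem NorIn.trans' (h1 : NorIn p E D) (h2 : NorIn p D F) (hr : Rich F.S)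
    (hc : ∀ a ∈ F.aut D.S, E.cjs a ≤ E) : NorIn p E F :=
  h1.trans h2 (h1.wn.invt.trans h2.wn.invt hc) hr

theorem NorIn.ext_sc (h : NorIn p E F) (hr : Rich F.S) (hR : F.SC R) (h1 : R ⊓ E.S ≤ E.center)
    (hU : U = E.S ∨ E.Ess p U) (ha : a ∈ E.aut U) (hc : (orderOf a).Coprime p) :
    ∃ b, a⁻¹ * b ∈ cz U ∧ b ∈ cz R ∧ F.M (U ⊔ R) b := by
  have i := h.wn.invt
  have u1 := h.wn.satE.cent_of hU
  have u2 : E.center ≤ U := E.cen_center.le_Z.trans u1.center_le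
  have u3 := u1.1.trans i.S_le
  have e : (U ⊔ R) ⊓ E.S = U := by
    rw [sup_inf_of_nz (u3.trans hR.S_le_nz) u1.1, sup_eq_left.2 (h1.trans u2)]
  have z1 := (h.wn.satF.nor_center_of_invt i).sc
  have r1 : R ≤ trv U E.center := fun y hy => mem_trv.2 ⟨z1.S_le_nz (hR.1 hy), fun x hx => h1
    ⟨mem_of_eq (mul_mem (conj_mem_of_nz' (hR.S_le_nz (u3 hx)) hy) (inv_mem hy)) (by group),
      E.S.mul_mem (E.S.inv_mem (u1.1 hx)) (conj_mem_of_nz (i.sc.S_le_nz (hR.1 hy)) (u1.1 hx))⟩⟩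
  have r2 : R ≤ nz U := fun y hy => mem_nz_of_trv (r1 hy) u2 le_rfl
  have a1 : ∀ a ∈ E.aut U, a ∈ cz E.center := fun a ha => E.cen_center.mem_cz (M_of_aut u1.1 ha) u2
  have n' := nz_le_nz_ai_self _ (E.aut_le_nz U ha)
  have k : a ∈ trv (U ⊔ R) (ai U U) := by
    refine mem_trv_sup ((le_ai_self _).trans (le_nz _))
      (r2.trans (nz_le_nz_ai_self _)) (trv_anti (le_ai_self _) _ (mem_trv_self n'))
      (mem_trv.2 ⟨n', fun y hy => (h.wn.satE.rad_of hU).2.le (stab_le_opm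
        (h.wn.satE.pg_le E.center_le) (fun a ha => cz_le_nz _ (a1 a ha)) ⟨?_, ?_, ?_⟩)⟩)
    · exact mem_of_eq (mul_mem (conj_mem_of_nz' (i.aut_normal u1.1 (NS_le_aut u3 ⟨hR.1 hy, r2 hy⟩))
        ha) (inv_mem ha)) (by group)
    · exact (trv _ _).mul_mem ((trv _ _).inv_mem (r1 hy)) (conj_mem_of_nz (mem_nz_trv
        (E.aut_le_nz U ha) (cz_le_nz _ (a1 a ha))) (r1 hy))
    · exact mem_of_eq (mul_mem (conj_mem_cz' (z1.S_le_nz (hR.1 hy)) (a1 a ha)) (inv_mem (a1 a ha)))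
        (by group)
  obtain ⟨b, b1, b2, b3⟩ := h.exists_ao' hr (sup_le u3 hR.1) (e.symm ▸ i.cenT_iff.2 u1)
    (e.symm ▸ ha) hc (e.symm ▸ (mem_trv.1 k).2)
  have b4 := M_of_aut (sup_le u3 hR.1) b1.1
  have b5 := b1.2
  rw [e] at b5 b3
  have b6 := trv_trans b2 (mem_trv_of_le (mem_trv_inf' (hR.mem_nz b4 le_sup_right)
    (trv_anti le_sup_right _ b5.1)) ((inf_le_inf_left _ u1.1).trans h1) (cz_le_nz _ (a1 b b5.2)))
    ((trv_bot _).ge (a1 b b5.2)) (h.wn.satE.pg_le E.center_le) (by simp)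
  exact ⟨b, b3, (trv_bot R).le b6, b4⟩

theorem NorIn.le_CF_of_cz (h : NorIn p E F) (hr : Rich F.S) (hR : F.SC R)
    (h1 : R ⊓ E.S ≤ E.center) (h2 : E.S ≤ cz R) : E ≤ F.CF R :=
  h.wn.satE.alperin_p' (by simpa using ⟨h.wn.invt.S_le, h2⟩) fun P g hP hg hc => by
    obtain ⟨b, b1, b2, b3⟩ := h.ext_sc hr hR h1 hP hg hc
    exact CF_M_of hR.1 ((h.wn.satE.cent_of hP).1.trans h2) b1 b2 b3

theorem NorIn.le_CF_of_foc (h : NorIn p E F) (hr : Rich F.S) (hR : F.SC R)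
    (h1 : R ⊓ E.S ≤ E.center) (h2 : E.foc = E.S) : E ≤ F.CF R := by
  have i := h.wn.invt
  refine h.le_CF_of_cz hr hR h1 (h2 ▸ h.wn.satE.foc_le_of_p' ?_ fun P g hP hg hc x hx => ?_)
  · have h3 : ⁅R, E.S⁆ ≤ cz E.S := ((le_inf (comm_le_left (i.S_le.trans hR.S_le_nz))
      (comm_le_right (hR.1.trans i.sc.S_le_nz))).trans h1).trans
        (E.cen_center.le_Z.trans inf_le_right)
    exact comm_eq_bot_iff.1 (Subgroup.commutator_commutator_eq_bot_of_rotate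
      (comm_eq_bot_iff.2 (Subgroup.commutator_comm R _ ▸ h3)) (comm_eq_bot_iff.2 h3))
  · obtain ⟨b, b1, b2, -⟩ := h.ext_sc hr hR h1 hP hg hc
    rw [← inv_mul_mem_cz.1 b1 x hx]
    exact mem_of_eq (mul_mem (conj_mem_cz' (hR.S_le_nz (i.S_le ((h.wn.satE.cent_of hP).1 hx))) b2)
      (inv_mem b2)) (by group)

theorem NorIn.CF (h : NorIn p E F) (hr : Rich F.S) (hQ : F.FC Q) (h1 : E ≤ F.CF Q) :
    NorIn p E (F.CF Q) := by
  have hD := h.wn.satF.CF hQ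
  have i := h.wn.invt
  refine ⟨⟨h.wn.satE, hD, i.of_le hD h1 (F.normK_le _ _)⟩,
    h.wn.satE.extc_of_cop (S_le h1) fun a ha hc => ?_⟩
  obtain ⟨b, b1, b2, b3⟩ := h.exists_top ha hc
  have s := sup_CS_le i.S_le
  have h2 := (le_inf hQ.1 (le_cz_of_le_CF' h1)).trans (le_sup_right (a := E.S))
  have h3 : E.S ⊔ ((F.CF Q).S ⊓ cz E.S) ≤ E.S ⊔ (F.S ⊓ cz E.S) :=
    sup_le_sup_left (inf_le_inf_right _ (S_le (F.normK_le _ _))) _
  have h4 := b1.2.1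
  rw [inf_eq_right.2 (le_sup_left (a := E.S))] at h4
  exact mem_exb_of (mem_aut_of (normK_M_of hQ.1 (cz_le_nz Q) ((sup_CS_le (S_le h1)).trans (by simp))
    (h.ao_cz hr s (i.sc.cenT_of_ge le_sup_left) h2 h1 b1 b2) (F.mono (M_of_aut s b1.1)
      (sup_le h3 h2))) (mem_nz_of_trv h4 le_sup_left h3)) (trv_anti h3 _ h4) b3

end FS

end Cfsg.Agent.Fusion
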