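import Cfsg.Agent.Fusion.CS

/-! Maps generated by a normal subsystem. -/

set_option autoImplicit false
set_option linter.unusedSectionVars false

namespace Cfsg.Agent.Fusion

namespace FS

universe u

variable {G : Type u} [Group G] [Finite G] {F E D : FS G} {P Q R T U V W X Y H L N : Subgroup G}
  {a b c g h k s x : G} {p : ℕ} [hp : Fact p.Prime]

/-- The maps of `F` generated by `E.S` and the `p'`-elements of the groups `ao`. -/
inductive KM (p : ℕ) (F E : FS G) : Subgroup G → G → Prop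
  | base {P : Subgroup G} {g : G} : P ≤ F.S → F.CenT E.S (P ⊓ E.S) → g ∈ F.ao E P →
      (orderOf g).Coprime p → KM p F E P g
  | inner {P : Subgroup G} {t : G} : P ≤ F.S → t ∈ E.S → KM p F E P t
  | mono {P R : Subgroup G} {g : G} : KM p F E P g → R ≤ P → KM p F E R g
  | mul_cz {P : Subgroup G} {g c : G} : KM p F E P g → c ∈ cz P → KM p F E P (g * c)
  | mul {P : Subgroup G} {g h : G} : KM p F E P g → KM p F E (cj g P) h → KM p F E P (h * g)
  | inv {P : Subgroup G} {g : G} : KM p F E P g → KM p F E (cj g P) g⁻¹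

namespace KM

theorem one (hP : P ≤ F.S) : KM p F E P 1 := inner hP (one_mem _)

theorem mul' (h1 : KM p F E P g) (h2 : KM p F E Q h) (e : cj g P ≤ Q) : KM p F E P (h * g) :=
  h1.mul (h2.mono e)

theorem M (hk : KM p F E P g) (hT : E.S ≤ F.S) : F.M P g := by
  induction hk with
  | base h1 _ h3 _ => exact M_of_aut h1 h3.1
  | inner h1 h2 => exact F.inner h1 (hT h2)
  | mono _ h ih => exact F.mono ih h
  | mul_cz _ h ih => exact F.mul_cz ih h
  | mul _ _ ih ih' => exact F.mul ih ih'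
  | inv _ ih => exact F.inv ih

theorem triv (hk : KM p F E P g) (hT : F.SC E.S) : ∀ x ∈ P, x⁻¹ * (g * x * g⁻¹) ∈ E.S := by
  induction hk with
  | base _ _ h3 _ => exact fun x hx => ((mem_trv.1 h3.2.1).2 x hx).2
  | inner h1 h2 => exact fun x hx => mem_of_eq (mul_mem (conj_mem_of_nz' (hT.S_le_nz (h1 hx)) h2)
      (inv_mem h2)) (by group)
  | mono _ h ih => exact fun x hx => ih x (h hx)
  | mul_cz _ h ih => exact fun x hx => by rw [conj_mul_cz h hx]; exact ih x hx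
  | mul _ _ ih ih' =>
    exact fun x hx => mem_of_eq (mul_mem (ih x hx) (ih' _ (conj_mem_cj_of hx))) (by group)
  | inv _ ih => exact fun x hx => mem_of_eq (inv_mem (ih _ (mem_cj.1 hx))) (by group)

theorem EM (hk : KM p F E P g) (hT : F.SC E.S) : E.M (P ⊓ E.S) g := by
  induction hk with
  | base _ _ h3 _ => exact M_of_aut inf_le_right h3.2.2
  | inner _ h2 => exact E.inner inf_le_right h2
  | mono _ h ih => exact E.mono ih (inf_le_inf_right _ h)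
  | mul_cz _ h ih => exact E.mul_cz ih (cz_anti inf_le_left h)
  | mul h _ ih ih' => exact FS.mul' ih ih' (hT.cj_inf (h.M hT.1)).le
  | inv h ih => exact FS.inv' ih (hT.cj_inf (h.M hT.1)).ge

theorem EM' (hk : KM p F E P g) (hT : F.SC E.S) (h : P ≤ E.S) : E.M P g := by
  simpa only [inf_eq_left.2 h] using hk.EM hT

theorem cj_inf (hk : KM p F E P g) (hT : F.SC E.S) (h : E.S ≤ R) : cj g (P ⊓ R) = cj g P ⊓ R := by
  ext y
  rw [Subgroup.mem_inf, mem_cj, mem_cj, Subgroup.mem_inf]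
  refine and_congr_right fun hy => ?_
  have := h (hk.triv hT _ hy)
  exact ⟨fun h => mem_of_eq (mul_mem h this) (by group),
    fun h => mem_of_eq (mul_mem h (inv_mem this)) (by group)⟩

theorem cj_le (hk : KM p F E P g) (hT : F.SC E.S) (h : E.S ≤ R) (hP : P ≤ R) : cj g P ≤ R := by
  have := hk.cj_inf hT h
  rw [inf_eq_left.2 hP] at this
  exact this.le.trans inf_le_right

theorem sup_eq (hk : KM p F E P g) (hT : F.SC E.S) : cj g P ⊔ E.S = P ⊔ E.S :=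
  le_antisymm (sup_le (hk.cj_le hT le_sup_right le_sup_left) le_sup_right)
    (sup_le (by simpa using hk.inv.cj_le hT le_sup_right le_sup_left) le_sup_right)

theorem mem_ao (hk : KM p F E P g) (hT : F.SC E.S) (hn : g ∈ nz P) : g ∈ F.ao E P :=
  have h1 := mem_aut_of (hk.M hT.1) hn
  have h2 := hT.aut_le (F.le_S (hk.M hT.1)) h1
  ⟨h1, mem_trv.2 ⟨h2, fun x hx => ⟨P.mul_mem (P.inv_mem hx) (conj_mem_of_nz hn hx),
    hk.triv hT x hx⟩⟩, mem_aut_of (hk.EM hT) h2⟩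

theorem ind (hk : KM p F E P g) (hT : F.SC E.S) (hR : E.S ≤ R) {Φ : Subgroup G → G → Prop}
    (h1 : ∀ P g, P ≤ R → P ≤ F.S → F.CenT E.S (P ⊓ E.S) → g ∈ F.ao E P → (orderOf g).Coprime p →
      Φ P g) (h2 : ∀ P t, P ≤ R → P ≤ F.S → t ∈ E.S → Φ P t)
    (h3 : ∀ P Q g, Φ P g → Q ≤ P → Φ Q g) (h4 : ∀ P g c, Φ P g → c ∈ cz P → Φ P (g * c))
    (h5 : ∀ P g h, Φ P g → Φ (cj g P) h → Φ P (h * g)) (h6 : ∀ P g, Φ P g → Φ (cj g P) g⁻¹) :
    Φ (P ⊓ R) g := by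
  induction hk with
  | base a1 a2 a3 a4 =>
    exact h1 _ _ inf_le_right (inf_le_left.trans a1) (by rwa [inf_assoc, inf_eq_right.2 hR])
      (mem_ao_of_le a1 a3 inf_le_left (mem_nz_of_ao a3 (inf_le_inf_left _ hR) inf_le_left)) a4
  | inner a1 a2 => exact h2 _ _ inf_le_right (inf_le_left.trans a1) a2
  | mono _ h ih => exact h3 _ _ _ ih (inf_le_inf_right _ h)
  | mul_cz _ h ih => exact h4 _ _ _ ih (cz_anti inf_le_left h)
  | mul h _ ih ih' => exact h5 _ _ _ ih (h.cj_inf hT hR ▸ ih')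
  | inv h ih => exact h.cj_inf hT hR ▸ h6 _ _ ih

theorem conj (hk : KM p F E P g) (i : E.Invt F) (ha : F.M R a) (hR : E.S ≤ R) (hP : P ≤ R) :
    KM p F E (cj a P) (a * g * a⁻¹) := by
  have := hk.ind i.sc hR (Φ := fun P g => KM p F E (cj a P) (a * g * a⁻¹))
    (fun P g h1 _ h3 h4 h5 => have h6 := F.mono ha h1
      base (F.cj_le h6) (i.sc.cj_inf h6 ▸ h3.cj i.sc (F.mono h6 inf_le_left))
        (i.cj_ao h6 ▸ conj_mem_cj_of h4) (by rwa [orderOf_conj']))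
    (fun P t h1 _ h3 => inner (F.cj_le (F.mono ha h1)) (conj_mem_of_nz (i.sc.mem_nz ha hR) h3))
    (fun _ _ _ h1 h2 => h1.mono (cj_mono h2))
    (fun _ g c h1 h2 => show a * g * a⁻¹ * (a * c * a⁻¹) = a * (g * c) * a⁻¹ by group ▸
      h1.mul_cz (conj_mem_cz_cj h2))
    (fun _ g h h1 h2 => show a * h * a⁻¹ * (a * g * a⁻¹) = a * (h * g) * a⁻¹ by group ▸
      h1.mul' h2 (by simp [← cj_mul]))
    (fun _ g h1 => show (a * g * a⁻¹)⁻¹ = a * g⁻¹ * a⁻¹ by group ▸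
      h1.inv.mono (by simp [← cj_mul]))
  rwa [inf_eq_left.2 hP] at this

theorem M_sub (hk : KM p F E P g) (h : NorIn p E F) (hr : Rich F.S) (h' : NorIn p E D)
    (hle : D ≤ F) (hP : P ≤ D.S) : D.M P g := by
  have i := h'.wn.invt
  have := hk.ind h.wn.invt.sc i.S_le (Φ := D.M) (fun P g h1 h2 h3 h4 h5 => by
      obtain ⟨b, b1, b2, b3⟩ := h'.exists_ao' (hr.mono (S_le hle)) h1 (h3.of_le hle) h4.2.2 h5
        fun x hx => le_ai_self _ ((mem_trv.1 h4.2.1).2 x hx)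
      obtain ⟨z, z1, -, z2⟩ := h.ao_unique hr h2 h3 h4 h5 (ao_mono hle b1) b2 b3
      exact congr' (mul_S h1 (inv_mem (i.S_le z1.2)) (by
        rw [cj_of_mem (inv_mem z1.1)]; exact M_of_aut h1 b1.1)) (mem_of_eq (conj_mem_cz
          (le_nz _ z1.1) (inv_mem z2)) (by group)))
    (fun _ _ h1 _ h3 => D.inner h1 (i.S_le h3)) (fun _ _ _ => D.mono) (fun _ _ _ => D.mul_cz)
    (fun _ _ _ => D.mul) fun _ _ => D.inv
  rwa [inf_eq_left.2 hP] at this

end KM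

theorem Invt.exists_km (i : E.Invt F) (hF : F.Sat p) (hg : F.M P g) :
    ∃ k, KM p F E P k ∧ F.M (P ⊔ E.S) (g * k⁻¹) :=
  (i.le_of_ao hF (D := F.sub (fun P g => ∃ k, KM p F E P k ∧ F.M (P ⊔ E.S) (g * k⁻¹))
    (fun _ hR ⟨k, h1, h2⟩ => ⟨k, h1.mono hR, F.mono h2 (sup_le_sup_right hR _)⟩)
    (fun {_ g c} _ hc ⟨k, h1, h2⟩ => ⟨_, h1.mul_cz hc,
      show g * k⁻¹ = g * c * (k * c)⁻¹ by group ▸ h2⟩)
    (fun hP hs => ⟨1, KM.one hP, by simpa using F.inner (sup_le hP i.S_le) hs⟩)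
    (fun {P g h} _ _ ⟨k, h1, h2⟩ ⟨l, h3, h4⟩ => by
      have e : cj (g * k⁻¹) (P ⊔ E.S) = cj g P ⊔ E.S := by
        rw [← h1.sup_eq i.sc, cj_sup, cj_of_nz (i.sc.mem_nz h2 le_sup_right), ← cj_mul]; simp
      exact ⟨_, h1.mul' (h3.conj i (F.inv h2) (e ▸ le_sup_right) (e ▸ le_sup_left))
        (by simp [← cj_mul]), show h * l⁻¹ * (g * k⁻¹) = h * g * ((g * k⁻¹)⁻¹ * l * (g * k⁻¹)⁻¹⁻¹ * k)⁻¹
          by group ▸ mul' h2 h4 e.le⟩)
    (fun {P g} _ ⟨k, h1, h2⟩ => by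
      have e : cj (g * k⁻¹) (P ⊔ E.S) = cj g P ⊔ E.S := by
        rw [← h1.sup_eq i.sc, cj_sup, cj_of_nz (i.sc.mem_nz h2 le_sup_right), ← cj_mul]; simp
      exact ⟨_, (h1.inv.conj i h2 le_sup_right (h1.cj_le i.sc le_sup_right le_sup_left)).mono
        (by simp [← cj_mul]), show (g * k⁻¹)⁻¹ = g⁻¹ * (g * k⁻¹ * k⁻¹ * (g * k⁻¹)⁻¹)⁻¹ * k * k⁻¹
          by group ▸ by simpa using inv' h2 e.ge⟩)) le_rfl
    (fun P g h1 h2 => ⟨h2, 1, KM.one (F.le_S h2), by simpa [sup_eq_left.2 h1] using h2⟩)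
    (fun P g h1 h2 h3 h4 => ⟨M_of_aut h1 h3.1, g, KM.base h1 h2 h3 h4, by
      simpa using M_one (sup_le h1 i.S_le)⟩) P g hg).2

theorem KM.strong (hk : KM p F E P g) (i : E.Invt F) (hF : F.Sat p) (ha : F.M Q a) (h1 : P ≤ Q)
    (h2 : cj g P ≤ Q) : KM p F E (cj a P) (a * g * a⁻¹) := by
  obtain ⟨k, k1, k2⟩ := i.exists_km hF ha
  have := (((k1.mono h1).inv.mul' hk (by simp)).mul' k1 (by simpa [cj_mul] using h2)).conj i k2
    le_sup_right ((k1.mono h1).cj_le i.sc le_sup_right (h1.trans le_sup_left))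
  simpa [← cj_mul, mul_assoc] using this

/-- The automorphisms among the generated maps. -/
def ka (p : ℕ) [Fact p.Prime] (F E : FS G) (P : Subgroup G) : Subgroup G where
  carrier := {g | g ∈ nz P ∧ (KM p F E P g ∨ g ∈ cz P)}
  one_mem' := ⟨one_mem _, Or.inr (one_mem _)⟩
  mul_mem' := by
    rintro a b ⟨ha, ha' | ha'⟩ ⟨hb, hb' | hb'⟩
    · exact ⟨mul_mem ha hb, Or.inl (hb'.mul' ha' (cj_of_nz hb).le)⟩
    · exact ⟨mul_mem ha hb, Or.inl (ha'.mul_cz hb')⟩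
    · exact ⟨mul_mem ha hb, Or.inl (show b * (b⁻¹ * a * b) = a * b by group ▸
        hb'.mul_cz (conj_mem_cz' hb ha'))⟩
    · exact ⟨mul_mem ha hb, Or.inr (mul_mem ha' hb')⟩
  inv_mem' := by
    rintro a ⟨ha, ha' | ha'⟩
    · exact ⟨inv_mem ha, Or.inl (ha'.inv.mono (cj_of_nz ha).ge)⟩
    · exact ⟨inv_mem ha, Or.inr (inv_mem ha')⟩

theorem KM.mem_ka (hk : KM p F E P g) (hn : g ∈ nz P) : g ∈ ka p F E P := ⟨hn, Or.inl hk⟩

theorem km_of_ka (hP : P ≤ F.S) (h : g ∈ ka p F E P) : KM p F E P g :=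
  h.2.elim id fun h => by simpa using (KM.one hP).mul_cz h

theorem ka_le_nz : ka p F E P ≤ nz P := fun _ h => h.1

theorem cz_le_ka : cz P ≤ ka p F E P := fun _ h => ⟨cz_le_nz P h, Or.inr h⟩

theorem ka_le_ao (hT : F.SC E.S) : ka p F E P ≤ F.ao E P := fun _ h =>
  h.2.elim (fun k => k.mem_ao hT h.1) fun k => cz_le_ao k

theorem NT_le_ka (hP : P ≤ F.S) : E.S ⊓ nz P ≤ ka p F E P := fun _ h => (KM.inner hP h.1).mem_ka h.2

theorem Invt.le_nz_ka (i : E.Invt F) (hF : F.Sat p) (hP : P ≤ F.S) :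
    F.aut P ≤ nz (ka p F E P) := fun a ha => mem_nz_of_forall fun g hg => by
  have h1 := F.aut_le_nz P ha
  have := (km_of_ka hP hg).strong i hF (M_of_aut hP ha) le_rfl (cj_of_nz hg.1).le
  rw [cj_of_nz h1] at this
  exact this.mem_ka (mul_mem (mul_mem h1 hg.1) (inv_mem h1))

end FS

end Cfsg.Agent.Fusion
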