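import Cfsg.Agent.Fusion.Model2

/-! Fusion systems over groups of Heisenberg type with a nontrivial normal subgroup are
constrained. -/

set_option autoImplicit false
set_option linter.unusedSectionVars false

namespace Cfsg.Agent.Fusion

variable {G : Type*} [Group G] {p : ℕ}

/-- Heisenberg type: class at most two, abelian centralizers, large classes. -/
structure Hs (S : Subgroup G) : Prop where
  h1 : ∀ x ∈ S, ∀ y ∈ S, x⁻¹ * (y * x * y⁻¹) ∈ cz S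
  h2 : ∀ x ∈ S, x ∉ cz S → ∀ y ∈ S, ∀ z ∈ S, x * y = y * x → x * z = z * x → y * z = z * y
  h3 : ∀ x ∈ S, x ∉ cz S → ∀ w ∈ S, w ∈ cz S → ∃ t ∈ S, t * x * t⁻¹ = x * w

theorem Hs.map {L : Type*} [Group L] {S : Subgroup G} (h : Hs S) {f : G →* L}
    (hf : Function.Injective f) : Hs (S.map f) := by
  have hz : ∀ x, f x ∈ cz (S.map f) ↔ x ∈ cz S := by
    intro x
    simp only [mem_cz]
    constructor
    · intro k y hy
      apply hf
      simpa using k (f y) ⟨y, hy, rfl⟩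
    · rintro k _ ⟨y, hy, rfl⟩
      rw [← map_mul, k y hy, map_mul]
  refine ⟨?_, ?_, ?_⟩
  · rintro _ ⟨x, hx, rfl⟩ _ ⟨y, hy, rfl⟩
    simpa using (hz _).2 (h.h1 x hx y hy)
  · rintro _ ⟨x, hx, rfl⟩ hn _ ⟨y, hy, rfl⟩ _ ⟨z, hz', rfl⟩ e1 e2
    rw [← map_mul, ← map_mul] at e1 e2 ⊢
    rw [h.h2 x hx (fun k => hn ((hz _).2 k)) y hy z hz' (hf e1) (hf e2)]
  · rintro _ ⟨x, hx, rfl⟩ hn _ ⟨w, hw, rfl⟩ hw'
    obtain ⟨t, ht, e⟩ := h.h3 x hx (fun k => hn ((hz _).2 k)) w hw ((hz _).1 hw')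
    exact ⟨f t, ⟨t, ht, rfl⟩, by simpa using congrArg f e⟩

/-- A good conjugate acting quadratically on `E`. -/
structure HsG (p : ℕ) (A E Q T : Subgroup G) : Prop where
  le : T ≤ A
  cm : ∀ t ∈ T, ∀ e ∈ E, e⁻¹ * (t * e * t⁻¹) ∈ E ⊓ cz T
  sj : ∀ x ∈ E, x ∉ cz T → ∀ w ∈ E ⊓ cz T, ∃ t ∈ T, t * x * t⁻¹ = x * w
  fx : ∀ t ∈ T, t ∉ cz E → ∀ y ∈ E, y * t = t * y → y ∈ cz T
  nd : ¬ p ∣ (T ⊔ cz E).relIndex A
  q : Q ≤ cz T

theorem HsG.cj {A E Q T : Subgroup G} (h : HsG p A E Q T) (hE : A ≤ nz E) (hQ : A ≤ nz Q)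
    {a : G} (ha : a ∈ A) : HsG p A E Q (cj a T) := by
  have hE' := cj_of_nz (hE ha)
  have hA : Fusion.cj a A = A := cj_of_mem ha
  refine ⟨?_, ?_, ?_, ?_, ?_, ?_⟩
  · rw [← hA]; exact cj_mono h.le
  · intro t ht e he
    rw [← hE', ← cj_cz, ← cj_inf, mem_cj]
    have := h.cm _ (mem_cj.1 ht) _ (conj_mem_of_nz' (hE ha) he)
    exact mem_of_eq this (by group)
  · intro x hx hn w hw
    rw [← hE', ← cj_cz, ← cj_inf, mem_cj] at hw
    rw [← cj_cz, mem_cj] at hn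
    obtain ⟨t, ht, e⟩ := h.sj _ (conj_mem_of_nz' (hE ha) hx) hn _ hw
    refine ⟨_, conj_mem_cj_of ht, ?_⟩
    calc a * t * a⁻¹ * x * (a * t * a⁻¹)⁻¹ = a * (t * (a⁻¹ * x * a) * t⁻¹) * a⁻¹ := by group
      _ = x * w := by rw [e]; group
  · intro t ht hn y hy e
    rw [← cj_cz, mem_cj]
    refine h.fx _ (mem_cj.1 ht) (fun k => hn ?_) _ (conj_mem_of_nz' (hE ha) hy) ?_
    · exact mem_of_eq (conj_mem_cz (hE ha) k) (by group)
    · calc a⁻¹ * y * a * (a⁻¹ * t * a) = a⁻¹ * (y * t) * a := by group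
        _ = _ := by rw [e]; group
  · have := h.nd
    rwa [← relIndex_cj a, cj_sup, cj_cz, hE', hA] at this
  · rw [← cj_cz, ← cj_of_nz (hQ ha)]; exact cj_mono h.q

variable [hp : Fact p.Prime] [Finite G]

theorem HsG.cent_of_nz {A E Q T : Subgroup G} (h : HsG p A E Q T) (hE : A ≤ nz E)
    (hC : cz E ≤ A) (hpE : IsPGroup p E) {t : G} (ht : t ∈ A) {k : ℕ} (hk : t ^ p ^ k = 1)
    (hn : t ∈ nz (E ⊓ cz T)) : t ∈ cz (E ⊓ cz T) := by
  set Z := E ⊓ cz T with hZ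
  set X := A ⊓ trv E Z ⊓ cz Z with hX
  have hXp : PMod p X (cz E) :=
    pmod_cz_of_triv (hpE.to_le (inf_le_left : Z ≤ E)) (fun g hg => hg.1.2.2)
      (PMod.of_le inf_le_right)
  have hY : T ⊔ cz E ≤ X := by
    refine sup_le (fun s hs => ?_) (fun c hc => ⟨⟨hC hc, cz_le_trv le_rfl inf_le_left hc⟩,
      cz_anti inf_le_left hc⟩)
    have hs' : s ∈ cz Z := le_cz_comm.1 (inf_le_right : Z ≤ cz T) hs
    exact ⟨⟨h.le hs, cz_le_nz _ hs', h.cm s hs⟩, hs'⟩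
  have htX : t ∈ nz X :=
    mem_nz_inf (mem_nz_inf (le_nz _ ht) (mem_nz_trv (hE ht) hn)) (nz_le_nz_cz _ hn)
  have hAC : A ≤ nz (cz E) := hE.trans (nz_le_nz_cz _)
  have hz : Subgroup.zpowers t ≤ A := by simpa using ht
  have hXA : X ≤ A := inf_le_left.trans inf_le_left
  have h2 : PMod p (Subgroup.zpowers t ⊔ X) (cz E) :=
    PMod.sup (PMod.of_pg (isPGroup_zpowers hk) _) hXp (by simpa using htX) (hz.trans hAC)
      (hXA.trans hAC)
  have h3 : Subgroup.zpowers t ⊔ X ≤ T ⊔ cz E :=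
    le_of_pmod_of_nz (sup_le h.le hC) h.nd le_sup_right ((sup_le hz hXA).trans hAC)
      (sup_le hz hXA) h2 ((hY.trans le_sup_right).trans (le_nz _))
  exact (hY (h3 (Subgroup.mem_sup_left (Subgroup.mem_zpowers t)))).2

theorem HsG.eq_bot {A E Q T : Subgroup G} (h : HsG p A E Q T) (hE : A ≤ nz E) (hQ : A ≤ nz Q)
    (hQE : Q ≤ E) (hC : cz E ≤ A) (hpE : IsPGroup p E) (hpT : IsPGroup p T)
    (hne : ¬ A ≤ nz (E ⊓ cz T)) : Q = ⊥ := by
  classical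
  have hcj : ∀ a ∈ A, ∀ T : Subgroup G, E ⊓ cz (Fusion.cj a T) = Fusion.cj a (E ⊓ cz T) := by
    intro a ha T
    rw [cj_inf, cj_cz, cj_of_nz (hE ha)]
  have ex : ∃ n, ∃ a ∈ A, ∃ b ∈ A, E ⊓ cz (Fusion.cj a T) ≠ E ⊓ cz (Fusion.cj b T) ∧
      Nat.card (Fusion.cj a T ⊔ Fusion.cj b T : Subgroup G) = n := by
    obtain ⟨a, ha, hn⟩ := SetLike.not_le_iff_exists.1 hne
    refine ⟨_, a, ha, 1, one_mem _, ?_, rfl⟩
    rw [hcj a ha, cj_one]
    exact fun e => hn (mem_nz_iff.2 e)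
  obtain ⟨a, ha, b, hb, hab, hn⟩ := Nat.find_spec ex
  have h1 := h.cj hE hQ ha
  have h2 := h.cj hE hQ hb
  obtain ⟨z, hz, hz1⟩ : ∃ z ∈ E ⊓ cz (Fusion.cj b T), z ∉ E ⊓ cz (Fusion.cj a T) := by
    by_contra hh
    push Not at hh
    refine hab (eq_of_le_of_card_le hh ?_).symm
    rw [hcj a ha, hcj b hb, card_cj, card_cj]
  have hz1' : z ∉ cz (Fusion.cj a T) := fun k => hz1 ⟨hz.1, k⟩
  rw [eq_bot_iff]
  intro w hw
  rw [Subgroup.mem_bot]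
  by_contra hw1
  obtain ⟨t, ht, e⟩ := h1.sj z hz.1 hz1' w ⟨hQE hw, h1.q hw⟩
  have htA := h1.le ht
  have htC : t ∉ cz E := by
    intro k
    rw [conj_eq_of_cz k hz.1] at e
    exact hw1 (by simpa using e)
  have hzw : z * w ∈ E ⊓ cz (Fusion.cj b T) := mul_mem hz ⟨hQE hw, h2.q hw⟩
  have hnz : t ∈ nz (E ⊓ cz (Fusion.cj b T)) := by
    by_contra hh
    have hd : E ⊓ cz (Fusion.cj (t * b) T) ≠ E ⊓ cz (Fusion.cj b T) := by
      rw [cj_mul, hcj t htA]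
      exact fun k => hh (mem_nz_iff.2 k)
    have hle : Fusion.cj (t * b) T ⊔ Fusion.cj b T ≤ Fusion.cj a T ⊔ Fusion.cj b T := by
      refine sup_le ?_ le_sup_right
      rw [cj_mul, cj_le_iff]
      intro x hx
      exact mul_mem (mul_mem (Subgroup.mem_sup_left ht) (Subgroup.mem_sup_right hx))
        (inv_mem (Subgroup.mem_sup_left ht))
    have hmin := Nat.find_min' ex ⟨t * b, mul_mem htA hb, b, hb, hd, rfl⟩
    have heq := eq_of_le_of_card_le hle (hn ▸ hmin)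
    have h3 : z * w ∈ cz (Fusion.cj (t * b) T ⊔ Fusion.cj b T) := by
      rw [cz_sup]
      refine ⟨?_, hzw.2⟩
      rw [cj_mul, ← cj_cz, ← e]
      exact conj_mem_cj_of hz.2
    rw [heq, cz_sup] at h3
    exact hz1' (mem_of_eq (mul_mem h3.1 (inv_mem (h1.q hw))) (by group))
  obtain ⟨k, hk⟩ := isPGroup_iff.1 (isPGroup_cj a hpT) t ht
  have := h2.cent_of_nz hE hC hpE htA hk hnz
  exact hz1' (h1.fx t ht htC z hz.1 (mem_cz.1 this z hz))

namespace FS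

variable {F : FS G} {E : Subgroup G}

theorem Ess.not_chain (hF : F.Sat p) (hE : F.Ess p E) {Z : Subgroup G} (hZ : Z ≤ E)
    (hn : F.aut E ≤ nz Z) (hS : F.S ≤ nz E) (h1 : F.S ≤ cz Z)
    (h2 : ∀ s ∈ F.S, ∀ x ∈ E, x⁻¹ * (s * x * s⁻¹) ∈ Z) : False := by
  set X := F.aut E ⊓ trv E Z ⊓ cz Z with hX
  have hXp : PMod p X (cz E) :=
    pmod_cz_of_triv (hF.pg_le (hZ.trans hE.le)) (fun g hg => hg.1.2.2) (PMod.of_le inf_le_right)
  refine (hE.lt hF).not_ge fun s hs => ?_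
  refine (hE.rad hF.pg).mem hE.cent (X := X) (inf_le_left.trans inf_le_left) (fun a ha => ?_) hXp
    ⟨⟨aiS_le_aut hE.le (mem_ai_of_mem hs (hS hs)), cz_le_nz _ (h1 hs), h2 s hs⟩, h1 hs⟩ hs
  exact mem_nz_inf (mem_nz_inf (le_nz _ ha) (mem_nz_trv (F.aut_le_nz E ha) (hn ha)))
    (nz_le_nz_cz _ (hn ha))

theorem Sat.con_of_hs (hF : F.Sat p) (h : Hs F.S) (hc : F.core ≠ ⊥) : F.Con p := by
  by_cases hex : ∃ E, F.Ess p E
  swap
  · push Not at hex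
    exact ⟨hF, F.S, hF.nor_S hex, F.cent_S⟩
  have hZ : ∀ E, F.Ess p E → ∀ s ∈ F.S, ∀ x ∈ E, x⁻¹ * (s * x * s⁻¹) ∈ E ⊓ cz F.S := by
    intro E hE s hs x hx
    have k := h.h1 x (hE.le hx) s hs
    have k2 : x⁻¹ * (s * x * s⁻¹) ∈ F.S :=
      mul_mem (inv_mem (hE.le hx)) (mul_mem (mul_mem hs (hE.le hx)) (inv_mem hs))
    exact ⟨hE.cent.center_le ⟨k2, k⟩, k⟩
  have hN : ∀ E, F.Ess p E → F.S ≤ nz E := by
    intro E hE
    refine le_nz_iff.2 fun s hs x hx => ?_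
    exact mem_of_eq (mul_mem hx (hZ E hE s hs x hx).1) (by group)
  have hab : ∀ E, F.Ess p E → E ≤ cz E := by
    intro E hE
    by_contra hh
    have e : E ⊓ cz E ≤ cz F.S := by
      intro x hx
      by_contra k
      refine hh fun y hy => mem_cz.2 fun z hz => ?_
      exact h.h2 x (hE.le hx.1) k z (hE.le hz) y (hE.le hy) (mem_cz.1 hx.2 z hz).symm
        (mem_cz.1 hx.2 y hy).symm
    refine hE.not_chain hF (Z := E ⊓ cz E) inf_le_left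
      (fun a ha => mem_nz_inf (F.aut_le_nz E ha) (F.aut_le_nz_cz E ha)) (hN E hE)
      (le_cz_comm.1 e) fun s hs x hx => ?_
    exact ⟨(hZ E hE s hs x hx).1, cz_anti hE.le (hZ E hE s hs x hx).2⟩
  have hcs : ∀ E, F.Ess p E → ∀ y ∈ E, y ∉ cz F.S → ∀ t ∈ F.S, y * t = t * y → t ∈ E := by
    intro E hE y hy hn t ht e
    refine hE.cent.cz_le ⟨ht, mem_cz.2 fun z hz => ?_⟩
    exact h.h2 y (hE.le hy) hn z (hE.le hz) t ht (mem_cz.1 (hab E hE hz) y hy) e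
  have hQ : ∀ E, F.Ess p E → F.core ≤ E := fun E hE =>
    F.nor_core.le_of_rad hF.pg hE.cent (hE.rad hF.pg)
  obtain ⟨E, hE⟩ := hex
  by_cases hq : F.core ≤ cz F.S
  · refine (hc (HsG.eq_bot (p := p) (A := F.aut E) (E := E) (T := F.S) ⟨?_, hZ E hE, ?_, ?_, ?_, hq⟩
      (F.aut_le_nz E) (F.nor_core.sc.wc.aut_le hE.le (hQ E hE)) (hQ E hE) (F.cz_le_aut E)
      (hF.pg_le hE.le) hF.pg fun k => ?_)).elim
    · exact fun s hs => aiS_le_aut hE.le (mem_ai_of_mem hs (hN E hE hs))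
    · exact fun x hx hn w hw => h.h3 x (hE.le hx) hn w (hE.le hw.1) hw.2
    · intro t ht hn y hy e
      by_contra k
      exact hn (hab E hE (hcs E hE y hy k t ht e))
    · have := (hF.fa hE.fn).2
      rwa [ai_of_le_nz (hN E hE)] at this
    · exact hE.not_chain hF inf_le_left k (hN E hE) (le_cz_comm.1 inf_le_right) (hZ E hE)
  obtain ⟨y, hy, hn⟩ := SetLike.not_le_iff_exists.1 hq
  have he : ∀ P, F.Ess p P → P = F.S ⊓ cz F.core := by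
    intro P hP
    refine le_antisymm (le_inf hP.le ((hab P hP).trans (cz_anti (hQ P hP)))) fun t ht => ?_
    exact hcs P hP y (hQ P hP hy) hn t ht.1 (mem_cz.1 ht.2 y hy)
  refine ⟨hF, E, hF.nor_of_ess fun P hP => ?_, hE.cent⟩
  rcases hP with rfl | hP
  · refine ⟨hE.le, fun a ha => ?_⟩
    rw [he E hE]
    exact mem_nz_inf (F.aut_le_nz _ ha)
      (nz_le_nz_cz _ (F.nor_core.sc.wc.aut_le le_rfl F.core_le ha))
  · rw [he P hP, ← he E hE]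
    exact ⟨le_rfl, F.aut_le_nz _⟩

end FS

end Cfsg.Agent.Fusion
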