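import Cfsg.Agent.Fusion.NM
import Cfsg.Agent.Fusion.PSt

/-! Local models of a normal subsystem. -/

set_option autoImplicit false
set_option linter.unusedSectionVars false

namespace Cfsg.Agent.Fusion

namespace FS

section
variable {G : Type*} [Group G] [Finite G] {F E D : FS G} {P Q R T U V W X H L N : Subgroup G}
  {a b c g h k x : G} {p : ℕ} [hp : Fact p.Prime]

/-- The automorphisms of `P` trivial modulo `E.S` and restricting to maps of `E`. -/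
def ao (F E : FS G) (P : Subgroup G) : Subgroup G :=
  F.aut P ⊓ (trv P (P ⊓ E.S) ⊓ E.aut (P ⊓ E.S))

theorem ao_le : F.ao E P ≤ F.aut P := inf_le_left

theorem ao_le_nz : F.ao E P ≤ nz P := ao_le.trans (F.aut_le_nz P)

theorem stab_le_ao : F.stab P (P ⊓ E.S) ≤ F.ao E P :=
  inf_le_inf_left _ (inf_le_inf_left _ (E.cz_le_aut _))

theorem cz_le_ao : cz P ≤ F.ao E P := (cz_le_stab inf_le_left).trans stab_le_ao

theorem Invt.cj_ao (h : E.Invt F) (ha : F.M P a) : cj a (F.ao E P) = F.ao E (cj a P) := by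
  rw [ao, ao, cj_inf, cj_inf, FS.cj_aut ha, cj_trv, h.cj_aut inf_le_right (F.mono ha inf_le_left),
    h.sc.cj_inf ha]

theorem Invt.le_nz_ao (h : E.Invt F) (hP : P ≤ F.S) : F.aut P ≤ nz (F.ao E P) := fun a ha =>
  mem_nz_iff.2 (by rw [h.cj_ao (M_of_aut hP ha), cj_of_nz (F.aut_le_nz P ha)])

theorem mem_ao_of_le (hP : P ≤ F.S) (hg : g ∈ F.ao E P) (h : Q ≤ P) (hn : g ∈ nz Q) :
    g ∈ F.ao E Q := by
  have e : Q ⊓ (P ⊓ E.S) = Q ⊓ E.S := by rw [← inf_assoc, inf_eq_left.2 h]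
  have h1 := e ▸ mem_trv_inf' hn (trv_anti h _ hg.2.1)
  exact ⟨aut_restrict hP hg.1 h hn, h1, aut_restrict inf_le_right hg.2.2 (inf_le_inf_right _ h)
    (trv_le_nz _ _ h1)⟩

theorem mem_nz_of_ao (hg : g ∈ F.ao E P) (h1 : P ⊓ E.S ≤ Q) (h : Q ≤ P) : g ∈ nz Q :=
  mem_nz_of_trv hg.2.1 h1 h

theorem SC.NT_le_ao (hT : F.SC E.S) (hP : P ≤ F.S) : E.S ⊓ nz P ≤ F.ao E P := fun _ hx =>
  ⟨NS_le_aut hP ⟨hT.1 hx.1, hx.2⟩, hT.NT_le_trv hP hx,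
    NS_le_aut inf_le_right ⟨hx.1, mem_nz_inf hx.2 (le_nz _ hx.1)⟩⟩

theorem ao_of_le (h : E ≤ F) (hP : P ≤ E.S) : F.ao E P = E.aut P := by
  rw [ao, inf_eq_left.2 hP]
  exact le_antisymm (inf_le_right.trans inf_le_right) fun g hg =>
    ⟨aut_mono h P hg, mem_trv_self (E.aut_le_nz P hg), hg⟩

theorem ao_mono (h : D ≤ F) : D.ao E P ≤ F.ao E P := inf_le_inf_right _ (aut_mono h P)

theorem sup_CS_inf (hU : U ≤ T) (h : T ⊓ cz U ≤ U) : (U ⊔ (F.S ⊓ cz U)) ⊓ T = U := by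
  rw [sup_comm, sup_inf_of_nz' (inf_le_right.trans (cz_le_nz U)) hU]
  exact sup_eq_right.2 ((inf_le_inf_right _ inf_le_right).trans ((inf_comm _ _).le.trans h))

theorem cj_exb (hg : F.M (U ⊔ (F.S ⊓ cz U)) g) : F.exb (cj g U) ≤ cj g (F.exb U) := by
  have h1 : cj g (U ⊔ (F.S ⊓ cz U)) ≤ cj g U ⊔ (F.S ⊓ cz (cj g U)) := by
    rw [cj_sup]; exact sup_le_sup_left (cj_inf_cz_le (F.mono hg le_sup_right) inf_le_right) _
  rw [exb, exb, cj_sup g (_ ⊓ _), cj_cz, cj_inf, cj_aut hg, cj_trv]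
  exact sup_le_sup_right (fun b hb => ⟨aut_restrict (sup_CS_le (F.cj_le (F.mono hg le_sup_left)))
    hb.1 h1 (mem_nz_of_trv hb.2 (cj_mono le_sup_left) h1), trv_anti h1 _ hb.2⟩) _

theorem Sat.le_nz_exb (hF : F.Sat p) (hU : F.FC U) : F.aut U ≤ nz (F.exb U) := fun g hg => by
  obtain ⟨c, hc, h1⟩ := (hF.rec_of_fc hU).extend_cz (M_of_aut hU.1 hg) (cj_of_nz (F.aut_le_nz U hg))
  have h2 := mul_mem (F.aut_le_nz U hg) (cz_le_nz U hc)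
  have h3 := cj_exb h1
  rw [cj_of_nz h2] at h3
  exact (mul_mem_cancel_right (le_nz _ (cz_le_exb hc))).1 (mem_nz_iff.2
    (eq_of_le_of_card_le h3 (card_cj _ _).le).symm)

theorem SC.CS_le_trv (hT : F.SC T) (h1 : T ≤ nz U) (h2 : T ⊓ cz U ≤ U) : F.S ⊓ cz U ≤ trv T U :=
  fun c hc => mem_trv.2 ⟨cz_le_nz U hc.2, fun t ht => h2 ⟨T.mul_mem (T.inv_mem ht)
    (conj_mem_of_nz (hT.S_le_nz hc.1) ht), mem_of_eq ((cz U).mul_mem (conj_mem_cz' (h1 ht) hc.2)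
      ((cz U).inv_mem hc.2)) (by group)⟩⟩

theorem cj_stab (hg : F.M P g) : cj g (F.stab P U) = F.stab (cj g P) (cj g U) := by
  rw [stab, stab, cj_inf, cj_inf, cj_aut hg, cj_trv, cj_cz]

theorem Nor.ext_CS (hU : F.Nor U) (hF : F.Sat p) (hT : F.SC T) (h1 : T ⊓ cz U ≤ U) (h2 : U ≤ P)
    (h3 : P ≤ T) (hg : F.M P g) : ∃ c ∈ cz P, F.M (P ⊔ (F.S ⊓ cz U)) (g * c) := by
  have h4 := hT.CS_le_trv (hT.1.trans hU.sc.S_le_nz) h1
  have h5 : ∀ {P}, U ≤ P → P ≤ T → F.S ⊓ cz U ≤ F.S ⊓ nz P := fun a b =>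
    le_inf inf_le_left fun _ hx => mem_nz_of_trv (h4 hx) a b
  have h6 : ∀ {P g}, U ≤ P → F.M P g → U ≤ cj g P := fun a b =>
    (cj_of_nz (hU.sc.mem_nz b a)).ge.trans (cj_mono a)
  obtain ⟨k, k1, k2⟩ := hF.exists_FN (F.cj_le hg)
  have k3 := mul' hg k1 (le_NS (F.cj_le hg))
  rw [← cj_mul] at k2
  obtain ⟨c, hc, k4⟩ := (hF.rc k2).extend k3 rfl (inf_le_left (b := cz U)) ((cj_mono (g := k * g)
    (show F.S ⊓ cz U ≤ F.stab P U from le_inf ((h5 h2 h3).trans (NS_le_aut (h3.trans hT.1)))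
      (le_inf (h4.trans (trv_anti h3 _)) inf_le_right))).trans (by
        rw [cj_stab k3, cj_of_nz (hU.sc.mem_nz k3 h2)]
        exact (stab_le_opm (hF.pg_le hU.1) (hU.sc.wc.aut_le k2.1 (h6 h2 k3))).trans
          (hF.opm_le_ai k2)))
  have k5 := h5 (h6 h2 hg) (hT.2 _ _ h3 hg)
  refine ⟨c, hc, of_mul_left (h := k) (by rwa [← mul_assoc]) k1 ?_⟩
  rw [← cj_le_cj (g := k), ← cj_mul, ← mul_assoc, cj_sup, cj_mul_cz hc, cj_mul,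
    cj_of_nz (hU.sc_cz.mem_nz k4 le_sup_right)]
  exact sup_le (cj_mono (le_NS (F.cj_le hg)))
    ((cj_of_nz (hU.sc_cz.mem_nz k1 k5)).ge.trans (cj_mono k5))

theorem Nor.S_le_nz_sup (hU : F.Nor U) : F.S ≤ nz (U ⊔ (F.S ⊓ cz U)) :=
  fun _ hx => mem_nz_sup_CS hx (hU.sc.S_le_nz hx)

theorem Nor.M_NF_sup (hU : F.Nor U) (h2 : U ≤ P) (hg : F.M (P ⊔ (F.S ⊓ cz U)) g) :
    (F.NF (U ⊔ (F.S ⊓ cz U))).M P g :=
  normK_M_of (sup_CS_le hU.1) le_rfl ((le_sup_left.trans (F.le_S hg)).trans hU.S_le_nz_sup)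
    (F.aut_le_nz _ (M_nz_sup_CS (F.mono hg (sup_le_sup_right h2 _))
      (hU.sc.mem_nz hg (h2.trans le_sup_left)))) (by rwa [← sup_assoc, sup_eq_left.2 h2])

theorem Nor.M_NF_sup' (hU : F.Nor U) (hF : F.Sat p) (hT : F.SC T) (h1 : T ⊓ cz U ≤ U) (h2 : U ≤ P)
    (h3 : P ≤ T) (hg : F.M P g) : (F.NF (U ⊔ (F.S ⊓ cz U))).M P g := by
  obtain ⟨c, hc, h4⟩ := hU.ext_CS hF hT h1 h2 h3 hg
  simpa using FS.mul_cz _ (hU.M_NF_sup h2 h4) (inv_mem hc)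

theorem NorIn.NF_sup (h : NorIn p E F) (hU : F.Nor U) (h1 : U ≤ E.S) (h2 : E.S ⊓ cz U ≤ U) :
    NorIn p E (F.NF (U ⊔ (F.S ⊓ cz U))) := by
  have hF := h.wn.satF
  have hT := h.wn.invt.sc
  have hD := hF.NF (FN.of_normal (sup_CS_le hU.1) hU.S_le_nz_sup)
  refine ⟨⟨h.wn.satE, hD, h.wn.invt.of_le hD (fun P g hg => ?_) (F.normK_le _ _)⟩,
    extc_iff.2 fun a ha => ?_⟩
  · obtain ⟨c, hc, h3, -⟩ := (hU.sub hF.pg h.wn.satE h.wn.invt.le h1).2 P g hg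
    simpa using FS.mul_cz _ (FS.mono _ (hU.M_NF_sup' hF hT h2 le_sup_right (E.le_S h3)
      (h.wn.invt.le _ _ h3)) le_sup_left) (inv_mem hc)
  obtain ⟨c, hc, h3, h4⟩ := mem_exb.1 (extc_iff.1 h.extc ha)
  have h5 := hF.sc_sup_cz hT
  obtain ⟨d, hd, h6⟩ := hF.ext_chain h5.fn h1 le_sup_left (hT.wc.aut_le h5.1 le_sup_left)
    (hU.sc.wc.aut_le h5.1 (h1.trans le_sup_left)) h3 h4 (R := F.S ⊓ cz U)
    (le_inf inf_le_left (inf_le_left.trans h5.S_le_nz))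
    (le_inf (hT.CS_le_trv (hT.1.trans hU.sc.S_le_nz) h2) inf_le_right)
  rw [mem_exb, NF_S_of_normal hU.S_le_nz_sup]
  exact ⟨c, hc, mem_aut_of (by
    simpa using FS.mul_cz _ (hU.M_NF_sup (h1.trans le_sup_left) h6) (inv_mem hd))
      (F.aut_le_nz _ h3), h4⟩

theorem Invt.NF (h : E.Invt F) (hF : F.Sat p) (hX : F.FN X) (h1 : X ≤ E.S) :
    (E.NF X).Invt (F.NF X) := by
  refine (hF.NF hX).invt_of_strong (normK_mono h.le h1 le_rfl) (by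
    simpa only [normK_S, inf_right_comm F.S, inf_eq_right.2 h.S_le] using
      h.sc.of_le (F.normK_le X (nz X))) fun P Q g a hg ha h2 h3 h4 => ?_
  obtain ⟨a1, c, hc, a2, a3⟩ := (NF_M h1).1 hg
  obtain ⟨b1, d, hd, b2, b3⟩ := (NF_M hX.1).1 ha
  have h5 := h.strong a3 b3 (sup_le (h2.trans (FS.S_le (E.normK_le _ _))) h1)
    (sup_le_sup_right h3 _) (by rw [cj_sup, cj_mul_cz hc, cj_of_nz a2]; exact sup_le_sup_right h4 _)
  rw [cj_sup, cj_of_nz b2, cj_mul_cz (cz_anti h3 hd)] at h5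
  exact congr' (normK_M_of h1 le_rfl ((FS.cj_le _ (FS.mono _ ha h3)).trans
    (by simp)) (mul_mem (mul_mem b2 a2) (inv_mem b2)) h5) (mem_of_eq (conj_mem_cz_cj (g := a)
      (mul_mem (mul_mem (cz_anti h3 hd) (inv_mem hc)) (conj_inv_mem_cz (inv_mem (cz_anti h4 hd)))))
        (by group))

theorem NF_S_inf_cz (F : FS G) (h : X ≤ W) : (F.NF X).S ⊓ cz W = F.S ⊓ cz W := by
  rw [normK_S, inf_assoc, inf_eq_right.2 ((cz_anti h).trans (cz_le_nz X))]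

theorem mem_exb_NF (hX : X ≤ W) (hW : W ≤ F.S ⊓ nz X) (ha : a ∈ F.exb W) (hn : a ∈ nz X) :
    a ∈ (F.NF X).exb W := by
  obtain ⟨c, hc, h3, h4⟩ := mem_exb.1 ha
  rw [mem_exb, NF_S_inf_cz F hX, NF, normK_aut_of_le (hX.trans (hW.trans inf_le_left)) le_rfl
    (sup_le hW (inf_le_inf_left _ ((cz_anti hX).trans (cz_le_nz X)))) (hX.trans le_sup_left)
    (cz_le_nz X)]
  exact ⟨c, hc, ⟨h3, mul_mem hn (cz_le_nz X (cz_anti hX hc))⟩, h4⟩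

theorem WN.norIn_NF (h : WN p E F) (hX : F.FN X) (h1 : X ≤ E.S)
    (h2 : E.aut (E.S ⊓ nz X) ≤ F.exb (E.S ⊓ nz X)) : NorIn p (E.NF X) (F.NF X) :=
  ⟨⟨h.satE.NF (h.satF.fn_of_sc h.invt.le h.invt.sc h1 hX), h.satF.NF hX, h.invt.NF h.satF hX h1⟩,
    extc_iff.2 fun a ha => by
      rw [normK_S] at ha ⊢
      rw [NF, normK_aut_of_le h1 le_rfl le_rfl (le_NS h1) (cz_le_nz X)] at ha
      exact mem_exb_NF (le_NS h1) (inf_le_inf_right _ h.invt.S_le) (h2 ha.1) ha.2⟩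

/-- Models of the local systems at `U`. -/
structure LM (p : ℕ) (F E : FS G) (U L H : Subgroup G) : Prop where
  sc : F.SC E.S
  cen : F.CenT E.S U
  mL : IsMod p ((F.NF U).NF (U ⊔ (F.S ⊓ cz U))) L
  le : H ≤ L
  nor : L ≤ nz H
  mH : IsMod p (E.NF U) H

theorem NF_NF_S (F : FS G) (U : Subgroup G) :
    ((F.NF U).NF (U ⊔ (F.S ⊓ cz U))).S = F.S ⊓ nz U := by
  rw [normK_S, normK_S, inf_eq_left.2 fun x hx => mem_nz_sup_CS hx.1 hx.2]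

theorem sup_CS_le_NF (hU : U ≤ F.S) : U ⊔ (F.S ⊓ cz U) ≤ (F.NF U).S :=
  by rw [normK_S]; exact le_inf (sup_CS_le hU) (F.sup_CS_le_nz U)

namespace LM

theorem US (l : LM p F E U L H) : U ≤ F.S := l.cen.1.trans l.sc.1

theorem NS_le (l : LM p F E U L H) : F.S ⊓ nz U ≤ L := NF_NF_S F U ▸ l.mL.le

theorem NT_le (l : LM p F E U L H) : E.S ⊓ nz U ≤ H := by simpa using l.mH.le

theorem le_nz_V (l : LM p F E U L H) : L ≤ nz (U ⊔ (F.S ⊓ cz U)) :=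
  l.mL.le_nz_of_nor (NF_nor (sup_CS_le_NF l.US))

theorem le_nz_U (l : LM p F E U L H) : L ≤ nz U := fun g hg => by
  have h1 := l.le_nz_V hg
  have h2 := (sup_CS_le_NF l.US).trans (by rw [NF_NF_S, normK_S] :
    (F.NF U).S ≤ ((F.NF U).NF (U ⊔ (F.S ⊓ cz U))).S)
  exact (NF_nor l.US).sc.mem_nz (normK_le _ _ _ _ _ (l.mL.M_of h2 (by rwa [cj_of_nz h1]) hg))
    le_sup_left

theorem M_of (l : LM p F E U L H) (h1 : P ≤ F.S ⊓ nz U) (h2 : cj g P ≤ F.S) (hg : g ∈ L) :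
    F.M P g := normK_le _ _ _ _ _ (normK_le _ _ _ _ _ (l.mL.M_of (by rwa [NF_NF_S]) (by
  rw [NF_NF_S]
  exact le_inf h2 ((cj_mono (h1.trans inf_le_right)).trans (mem_nz_nz_of (l.le_nz_U hg)).le)) hg))

theorem mem_aut (l : LM p F E U L H) (h1 : P ≤ F.S ⊓ nz U) (hg : g ∈ L) (h2 : g ∈ nz P) :
    g ∈ F.aut P := mem_aut_of (l.M_of h1 ((cj_of_nz h2).le.trans (h1.trans inf_le_left)) hg) h2

theorem cz_le (l : LM p F E U L H) : H ⊓ cz U ≤ U :=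
  l.mH.cz_le (NF_nor l.cen.1) (by rw [NF_S_inf_cz E le_rfl]; exact l.cen.cz_le l.sc.1)

theorem ai_le (l : LM p F E U L H) (h1 : U ≤ W) (h2 : W ≤ H) : H ⊓ ai W W ≤ W := fun x hx => by
  obtain ⟨w, hw, -, c, hc, rfl⟩ := mem_ai'.1 hx.2
  exact mul_mem hw (h1 (l.cz_le ⟨(mul_mem_cancel_left (h2 hw)).1 hx.1, cz_anti h1 hc⟩))

theorem aut_eq (l : LM p F E U L H) (h1 : U ≤ W) (h2 : W ≤ E.S ⊓ nz U) :
    E.aut W ⊓ nz U = ai H W := by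
  rw [← l.mH.aut_eq (by rwa [normK_S]), normK_aut_of_le l.cen.1 le_rfl h2 h1 (cz_le_nz U)]

theorem mem_ao (l : LM p F E U L H) (h1 : U ≤ P) (h2 : P ≤ F.S ⊓ nz U) (hg : g ∈ H)
    (h3 : g ∈ nz (P ⊓ E.S)) (h4 : ∀ x ∈ P, x⁻¹ * (g * x * g⁻¹) ∈ ai (P ⊓ E.S) (P ⊓ E.S)) :
    g ∈ F.ao E P := by
  have h5 : P ⊓ E.S ≤ E.S ⊓ nz U := le_inf inf_le_right (inf_le_left.trans (h2.trans inf_le_right))
  have h6 := le_inf h1 l.cen.1
  have h7 : g ∈ trv P (P ⊓ E.S) := mem_trv.2 ⟨h3, fun x hx => l.ai_le h6 (h5.trans l.NT_le)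
    ⟨mem_of_eq (mul_mem (conj_mem_of_nz' (l.nor (l.NS_le (h2 hx))) hg) (inv_mem hg)) (by group),
      h4 x hx⟩⟩
  exact ⟨l.mem_aut h2 (l.le hg) (mem_nz_of_trv h7 inf_le_left le_rfl), h7,
    ((l.aut_eq h6 h5).ge (mem_ai_of_mem hg h3)).1⟩

theorem aut_le_exb (l : LM p F E U L H) : E.aut U ≤ F.exb U := by
  have e := sup_CS_inf (F := F) l.cen.1 (l.cen.cz_le l.sc.1)
  rw [← inf_eq_left.2 (E.aut_le_nz U), l.aut_eq le_rfl (le_NS l.cen.1), ai_eq]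
  refine sup_le (fun g hg => ?_) cz_le_exb
  have := l.mem_ao le_sup_left (le_inf (sup_CS_le l.US) (F.sup_CS_le_nz U)) hg.1 (e.symm ▸ hg.2)
    fun x hx => by
      rw [e]
      have h1 : x ∈ ai U U := (S_inf_ai_self l.US).ge.trans inf_le_right hx
      exact mul_mem (inv_mem h1) (conj_mem_of_nz (nz_le_nz_ai_self U hg.2) h1)
  exact Subgroup.mem_sup_left ⟨this.1, by simpa only [e] using this.2.1⟩

theorem exists_ao (l : LM p F E U L H) (h1 : U ≤ P) (h2 : P ≤ F.S ⊓ nz U)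
    (ha : a ∈ E.aut (P ⊓ E.S)) (hn : a ∈ nz U)
    (h4 : ∀ x ∈ P, x⁻¹ * (a * x * a⁻¹) ∈ ai (P ⊓ E.S) (P ⊓ E.S)) :
    ∃ g ∈ H, g ∈ F.ao E P ∧ a⁻¹ * g ∈ cz (P ⊓ E.S) := by
  obtain ⟨h5, c, hc, h6⟩ := mem_ai.1 ((l.aut_eq (le_inf h1 l.cen.1) (le_inf inf_le_right
    (inf_le_left.trans (h2.trans inf_le_right)))).le ⟨ha, hn⟩)
  refine ⟨_, h6, l.mem_ao h1 h2 h6 (mul_mem h5 (cz_le_nz _ hc)) fun x hx => ?_, by simpa using hc⟩
  have h7 : x ∈ nz (P ⊓ E.S) := (l.sc.le_NS (h2.trans inf_le_left) hx).2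
  exact mem_of_eq (mul_mem (h4 x hx) (cz_le_ai _ _ (conj_mem_cz h5 (mul_mem (conj_mem_cz' h7 hc)
    (inv_mem hc))))) (by group)

end LM

end

universe u

variable {G : Type u} [Group G] [Finite G] {F E D : FS G} {P Q R T U V W X H L N : Subgroup G}
  {a b c g h k x : G} {p : ℕ} [hp : Fact p.Prime]

theorem exists_LM_of (h : NorIn p (E.NF U) (F.NF U)) (hF : F.Sat p) (hr : Rich F.S)
    (hT : F.SC E.S) (hU : F.CenT E.S U) (hn : F.FN U) : ∃ L H, LM p F E U L H := by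
  have h1 := h.NF_sup (NF_nor hn.1) (by rw [normK_S]; exact le_NS hU.1)
    (by rw [NF_S_inf_cz E le_rfl]; exact hU.cz_le hT.1)
  rw [NF_S_inf_cz F le_rfl] at h1
  obtain ⟨L, h2⟩ := h.wn.satF.exists_model_NF hr (S_le (F.normK_le _ _))
    (FN.of_normal (sup_CS_le_NF hn.1) (by rw [normK_S]; exact fun x hx => mem_nz_sup_CS hx.1 hx.2))
    ((hF.fc hn).cent_sup.of_le (F.normK_le _ _) (sup_CS_le_NF hn.1))
  obtain ⟨H, h3, h4, h5⟩ := h2.exists_normal h1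
  exact ⟨L, H, hT, hU, h2, h3, h4, h5⟩

theorem NorIn.aut_le_exb (h : NorIn p E F) (hr : Rich F.S) (hU : F.CenT E.S U) :
    E.aut U ≤ F.exb U := by
  refine down_induction (S := E.S) (Φ := fun U => F.CenT E.S U → E.aut U ≤ F.exb U)
    (fun U hU ih hc => ?_) U hU.1 hU
  have i := h.wn.invt
  obtain ⟨g, h1, h2⟩ := h.wn.satF.exists_FN (hU.trans i.S_le)
  have h3 := F.mono h1 (le_NS (hU.trans i.S_le))
  have h4 := hc.cj i.sc h3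
  rw [← cj_le_cj (g := g), i.cj_aut hU h3]
  refine le_trans ?_ (cj_exb (F.mono h1 (le_inf (sup_CS_le (hU.trans i.S_le)) (F.sup_CS_le_nz U))))
  rcases h4.1.eq_or_lt with e | hlt
  · exact e ▸ extc_iff.1 h.extc
  have h5 := h.wn.satE.lt_NS hlt
  obtain ⟨L, H, l⟩ := exists_LM_of (h.wn.norIn_NF h2 h4.1 (ih _ inf_le_left
    (card_cj g U ▸ card_lt_of_lt h5) (h4.mono h5.le inf_le_left))) h.wn.satF hr i.sc h4 h2
  exact l.aut_le_exb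

theorem NorIn.NF (h : NorIn p E F) (hr : Rich F.S) (hX : F.FN X) (h1 : X ≤ E.S) :
    NorIn p (E.NF X) (F.NF X) := by
  refine h.wn.norIn_NF hX h1 (h.aut_le_exb hr (h.wn.invt.cenT_iff.2 ?_))
  exact (h.wn.satE.fc (h.wn.satF.fn_of_sc h.wn.invt.le h.wn.invt.sc h1 hX)).cent_sup.mono
    (le_inf (sup_CS_le h1) (E.sup_CS_le_nz X)) inf_le_left

theorem NorIn.exists_LM (h : NorIn p E F) (hr : Rich F.S) (hU : F.CenT E.S U) (hn : F.FN U) :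
    ∃ L H, LM p F E U L H := exists_LM_of (h.NF hr hn hU.1) h.wn.satF hr h.wn.invt.sc hU hn

theorem NorIn.exists_ao (h : NorIn p E F) (hr : Rich F.S) (hP : P ≤ F.S)
    (hU : F.CenT E.S (P ⊓ E.S)) (ha : a ∈ E.aut (P ⊓ E.S))
    (h4 : ∀ x ∈ P, x⁻¹ * (a * x * a⁻¹) ∈ ai (P ⊓ E.S) (P ⊓ E.S)) :
    ∃ g ∈ F.ao E P, a⁻¹ * g ∈ cz (P ⊓ E.S) := by
  have i := h.wn.invt
  obtain ⟨k, h1, h2, h3⟩ := h.wn.satF.exists_fn_inf i.sc hP
  have e := i.sc.cj_inf h2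
  obtain ⟨L, H, l⟩ := h.exists_LM hr (e ▸ hU.cj i.sc (F.mono h2 inf_le_left)) h3
  have h5 : k * a * k⁻¹ ∈ E.aut (cj k P ⊓ E.S) := by
    rw [← e, ← i.cj_aut inf_le_right (F.mono h2 inf_le_left)]; exact conj_mem_cj_of ha
  obtain ⟨g, -, g1, g2⟩ := l.exists_ao inf_le_left (i.sc.le_NS (F.cj_le h2)) h5 (E.aut_le_nz _ h5)
    fun x hx => by
      rw [← e, ← cj_ai, mem_cj]
      exact mem_of_eq (h4 _ (mem_cj.1 hx)) (by group)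
  rw [← i.cj_ao h2, mem_cj] at g1
  exact ⟨_, g1, mem_of_eq (conj_inv_mem_cz (e ▸ g2)) (by group)⟩

theorem NorIn.exists_ao' (h : NorIn p E F) (hr : Rich F.S) (hP : P ≤ F.S)
    (hU : F.CenT E.S (P ⊓ E.S)) (ha : a ∈ E.aut (P ⊓ E.S)) (hc : (orderOf a).Coprime p)
    (h4 : ∀ x ∈ P, x⁻¹ * (a * x * a⁻¹) ∈ ai (P ⊓ E.S) (P ⊓ E.S)) :
    ∃ g ∈ F.ao E P, (orderOf g).Coprime p ∧ a⁻¹ * g ∈ cz (P ⊓ E.S) := by
  obtain ⟨g, h1, h2⟩ := h.exists_ao hr hP hU ha h4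
  obtain ⟨b, h3, h5⟩ := exists_cop hc (nz_le_nz_cz _ (E.aut_le_nz _ ha)) h2
  exact ⟨b, Subgroup.zpowers_le.2 h1 h3, h5⟩

theorem NorIn.pres_ao (h : NorIn p E F) (hr : Rich F.S) (hP : P ≤ F.S)
    (hU : F.CenT E.S (P ⊓ E.S)) (hg : g ∈ pres p (F.ao E P)) (hc : g ∈ cz (P ⊓ E.S)) :
    ∃ z ∈ P ⊓ E.S, z ∈ cz (P ⊓ E.S) ∧ z⁻¹ * g ∈ cz P := by
  have i := h.wn.invt
  obtain ⟨k, -, h2, h3⟩ := h.wn.satF.exists_fn_inf i.sc hP
  have sN := h.wn.satF.NF h3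
  obtain ⟨j, j1, j2⟩ := (F.NF _).exists_FN (P := cj k P)
    (by rw [normK_S]; exact i.sc.le_NS (F.cj_le h2))
  have j3 := F.normK_le _ _ _ _ j1
  have e : cj j (cj k P) ⊓ E.S = cj k P ⊓ E.S := by
    rw [← i.sc.cj_inf j3, cj_of_nz ((NF_nor h3.1).sc.mem_nz j1 inf_le_left)]
  have j4 := F.mul h2 j3
  rw [← e] at h3 j2 sN
  rw [← cj_mul] at h3 j2 sN
  generalize j * k = k at *
  have e := i.sc.cj_inf j4
  have hU' := e ▸ hU.cj i.sc (F.mono j4 inf_le_left)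
  suffices ∀ g ∈ pres p (F.ao E (cj k P)), g ∈ cz (cj k P ⊓ E.S) →
      ∃ z ∈ cj k P ⊓ E.S, z ∈ cz (cj k P ⊓ E.S) ∧ z⁻¹ * g ∈ cz (cj k P) by
    obtain ⟨z, z1, z2, z3⟩ := this (k * g * k⁻¹) (by
      rw [← i.cj_ao j4, ← cj_pres]; exact conj_mem_cj_of hg) (e ▸ conj_mem_cz_cj hc)
    exact ⟨_, mem_cj.1 (e ▸ z1), conj_inv_mem_cz (e ▸ z2), mem_of_eq (conj_inv_mem_cz z3) (by group)⟩
  replace hP := F.cj_le j4
  generalize cj k P = P at *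
  obtain ⟨L, H, l⟩ := h.exists_LM hr hU' h3
  have h4 := i.sc.le_NS hP
  have h5 : F.stab P (P ⊓ E.S) ≤ ai (F.S ⊓ nz (P ⊓ E.S)) P := by
    have := sN.opm_le_ai j2
    rw [normK_aut_of_le h3.1 le_rfl h4 inf_le_left (cz_le_nz _), inf_eq_left.2 (i.sc.aut_le hP),
      normK_S] at this
    exact (i.sc.stab_le_opm h.wn.satF.pg hP).trans this
  have h6 : F.ao E P ≤ ai (H ⊔ (F.S ⊓ nz (P ⊓ E.S))) P := fun a ha => by
    obtain ⟨b, b1, b2, b3⟩ := l.exists_ao inf_le_left h4 ha.2.2 (trv_le_nz _ _ ha.2.1)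
      fun x hx => le_ai_self _ ((mem_trv.1 ha.2.1).2 x hx)
    have b4 := mul_mem (inv_mem ha) b2
    exact mem_of_eq (mul_mem (mem_ai_of_mem (Subgroup.mem_sup_left b1) (ao_le_nz b2))
      (inv_mem (ai_mono le_sup_right _ (h5 ⟨b4.1, b4.2.1, b3⟩)))) (by group)
  intro g hg hc
  obtain ⟨z, z1, -, c, z2, rfl⟩ := mem_ai'.1 (pres_le_of_pmod ((pmod_ai_ai (pmod_sup_left
    (h.wn.satF.pg_le inf_le_left) (l.NS_le.trans l.nor))).mono h6 le_rfl) hg)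
  have z3 := (mul_mem_cancel_right (cz_anti inf_le_left z2)).1 hc
  exact ⟨z, l.cz_le ⟨z1, z3⟩, z3, by simpa using z2⟩

end FS

end Cfsg.Agent.Fusion
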