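import Cfsg.Agent.Fusion.PQI2
import Cfsg.Agent.Fusion.GrpF

/-! Basic tools for normal subsystems. -/

set_option autoImplicit false
set_option linter.unusedSectionVars false

namespace Cfsg.Agent.Fusion

section
variable {G : Type*} [Group G] {p : ℕ} {P Q R U X Y Z : Subgroup G} {g : G}

theorem trv_anti (h : X ≤ Y) (Z : Subgroup G) : trv Y Z ≤ trv X Z :=
  fun _ hg => mem_trv.2 ⟨(mem_trv.1 hg).1, fun x hx => (mem_trv.1 hg).2 x (h hx)⟩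

theorem trv_le_nz (X Z : Subgroup G) : trv X Z ≤ nz Z := fun _ hg => (mem_trv.1 hg).1

theorem mem_trv_of_le (hg : g ∈ trv X Y) (h : Y ≤ Z) (hn : g ∈ nz Z) : g ∈ trv X Z :=
  mem_trv.2 ⟨hn, fun x hx => h ((mem_trv.1 hg).2 x hx)⟩

theorem mem_trv_self (h : g ∈ nz Z) : g ∈ trv Z Z :=
  mem_trv.2 ⟨h, fun _ hx => mul_mem (inv_mem hx) (conj_mem_of_nz h hx)⟩

theorem mem_trv_of_cz (h : g ∈ cz X) (hn : g ∈ nz Z) : g ∈ trv X Z :=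
  mem_trv.2 ⟨hn, fun x hx => by rw [conj_eq_of_cz h hx, inv_mul_cancel]; exact one_mem _⟩

theorem mem_trv_sup (hX : X ≤ nz Z) (hY : Y ≤ nz Z) (h1 : g ∈ trv X Z) (h2 : g ∈ trv Y Z) :
    g ∈ trv (X ⊔ Y) Z := by
  have h := Subgroup.zpowers_le.2 (trv_le_nz _ _ h1)
  refine Subgroup.zpowers_le.1 ((le_trv_iff h).2 ?_)
  rw [Subgroup.commutator_comm]
  refine comm_sup_le hX hY ?_ ?_ <;> rw [Subgroup.commutator_comm]
  exacts [(le_trv_iff h).1 (Subgroup.zpowers_le.2 h1), (le_trv_iff h).1 (Subgroup.zpowers_le.2 h2)]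

theorem mem_trv_inf (h1 : g ∈ trv X Y) (h2 : g ∈ trv X Z) : g ∈ trv X (Y ⊓ Z) :=
  mem_trv.2 ⟨mem_nz_inf (trv_le_nz _ _ h1) (trv_le_nz _ _ h2),
    fun x hx => ⟨(mem_trv.1 h1).2 x hx, (mem_trv.1 h2).2 x hx⟩⟩

theorem mem_trv_inf' (h1 : g ∈ nz X) (h2 : g ∈ trv X Z) : g ∈ trv X (X ⊓ Z) :=
  mem_trv_inf (mem_trv_self h1) h2

theorem le_trv_of_nz (h : X ≤ nz Z) : Z ≤ trv X Z := fun z hz =>
  mem_trv.2 ⟨le_nz Z hz, fun x hx => mem_of_eq (mul_mem (conj_mem_of_nz' (h hx) hz) (inv_mem hz))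
    (by group)⟩

theorem comm_mem_of_nz {c : G} (h : c ∈ nz X) (hg : g ∈ X) : g * c * g⁻¹ * c⁻¹ ∈ X :=
  mem_of_eq (mul_mem hg (conj_mem_of_nz h (inv_mem hg))) (by group)

theorem comm_mem_of_nz' {c : G} (h : g ∈ nz X) (hc : c ∈ X) : g * c * g⁻¹ * c⁻¹ ∈ X :=
  mul_mem (conj_mem_of_nz h hc) (inv_mem hc)

variable [Finite G]

theorem mem_nz_of_trv (hg : g ∈ trv P U) (h1 : U ≤ Q) (h2 : Q ≤ P) : g ∈ nz Q :=
  mem_nz_of_forall fun x hx => mem_of_eq (mul_mem hx (h1 ((mem_trv.1 hg).2 x (h2 hx)))) (by group)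

variable [hp : Fact p.Prime]

theorem trv_trans (hc : (orderOf g).Coprime p) (h1 : g ∈ trv P Q) (h2 : g ∈ trv Q R)
    (hQ : IsPGroup p Q) (hn : Q ≤ nz R) : g ∈ trv P R :=
  mem_trv.2 ⟨trv_le_nz _ _ h2, fun x hx => FS.mem_of_coprime_step hQ hn hc ((mem_trv.1 h1).2 x hx)
    fun i u hu => (mem_trv.1 (pow_mem h2 i)).2 u hu⟩

theorem PMod.mem_of_cop (h : PMod p X Y) (hg : g ∈ X) (hc : (orderOf g).Coprime p) : g ∈ Y :=
  pres_le_of_pmod h (mem_pres hg hc)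

theorem pmod_ai_ai {H K : Subgroup G} (h : PMod p K H) : PMod p (ai K P) (ai H P) := fun x hx => by
  obtain ⟨k, h1, h2, c, hc, rfl⟩ := mem_ai'.1 hx
  obtain ⟨j, hj⟩ := h k h1
  obtain ⟨d, h3, h4⟩ := mul_pow_eq_of_nz (nz_le_nz_cz P h2) hc (p ^ j)
  exact ⟨j, h4 ▸ mul_mem (mem_ai_of_mem hj (pow_mem h2 _)) (cz_le_ai _ _ h3)⟩

theorem pmod_sup_left {H K : Subgroup G} (hK : IsPGroup p K) (h : K ≤ nz H) : PMod p (H ⊔ K) H :=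
  sup_comm K H ▸ (PMod.of_pg hK H).sup_self h

theorem exists_cop_of_ai {H : Subgroup G} (hg : g ∈ ai H P) (hc : (orderOf g).Coprime p) :
    ∃ h ∈ H, h ∈ nz P ∧ (orderOf h).Coprime p ∧ g⁻¹ * h ∈ cz P := by
  obtain ⟨k, h1, h2, c, h3, rfl⟩ := mem_ai'.1 hg
  obtain ⟨b, h4, h5, h6⟩ := exists_cop (g := k) hc (nz_le_nz_cz P (ai_le_nz _ _ hg))
    (by simpa using h3)
  exact ⟨b, Subgroup.zpowers_le.2 h1 h4, Subgroup.zpowers_le.2 h2 h4, h5, h6⟩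

end

namespace FS

variable {G : Type*} [Group G] [Finite G] {F E D : FS G} {P Q R T U V W A B C K Y S : Subgroup G}
  {a b c g h k x : G} {p : ℕ} [hp : Fact p.Prime]

theorem Sat.opm_le_ai (hF : F.Sat p) (hP : F.FN P) : opm p (F.aut P) (cz P) ≤ ai F.S P :=
  opm_le_of_nd (aiS_le_aut hP.1) (hF.fa hP).2 (cz_le_ai _ _) (F.aut_le_nz_cz _)

theorem stab_le_opm (hU : IsPGroup p U) (h : F.aut P ≤ nz U) :
    F.stab P U ≤ opm p (F.aut P) (cz P) :=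
  le_opm stab_le (fun _ hg => mem_nz_stab hg (h hg)) (pmod_stab hU)

theorem Sat.ext_chain (hF : F.Sat p) (hY : F.FN Y) (hU : U ≤ Q) (hQ : Q ≤ Y)
    (h1 : F.aut Y ≤ nz Q) (h2 : F.aut Y ≤ nz U) (hg : g ∈ F.aut Y) (h3 : g ∈ trv Y Q)
    (hR : R ≤ F.S ⊓ nz Y) (h4 : R ≤ trv Q U ⊓ cz U) : ∃ c ∈ cz Y, F.M (Y ⊔ R) (g * c) := by
  have n : ∀ a ∈ F.aut Y, a ∈ nz (trv Q U ⊓ cz U) := fun a ha =>
    mem_nz_inf (mem_nz_trv (h1 ha) (h2 ha)) (nz_le_nz_cz U (h2 ha))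
  have n' : ∀ a ∈ F.aut Y, a ∈ nz (trv Y Q) := fun a ha => mem_nz_trv (F.aut_le_nz Y ha) (h1 ha)
  have pQ := hF.pg_le (hQ.trans hY.1)
  have h5 : F.aut Y ⊓ (trv Y Q ⊓ (trv Q U ⊓ cz U)) ≤ ai F.S Y := (le_opm inf_le_left
    (fun a ha => mem_nz_inf (le_nz _ ha) (mem_nz_inf (n' a ha) (n a ha)))
    (pmod_cz_of_triv pQ (fun _ hg => (mem_trv.1 hg.2.1).2) (pmod_cz_of_triv (pQ.to_le hU)
      (fun _ hg => (mem_trv.1 hg.2.2.1).2) (PMod.of_le fun _ hg => hg.2.2.2)))).trans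
        (hF.opm_le_ai hY)
  refine (hF.rc hY).extend (M_of_aut hY.1 hg) (cj_of_nz (F.aut_le_nz Y hg)) (hR.trans inf_le_left)
    (cj_le_iff.2 fun x hx => ?_)
  have h6 := NS_le_aut hY.1 (hR hx)
  exact mem_of_eq (mul_mem (h5 ⟨comm_mem_of_nz (le_nz _ h6) hg, comm_mem_of_nz (n' x h6) h3,
    comm_mem_of_nz' (n g hg) (h4 hx)⟩) (inf_le_ai _ _ (hR hx))) (by group)

theorem Sat.ext_cz (hF : F.Sat p) (hT : F.WC T) (hg : F.M P g) (h1 : T ≤ cz P)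
    (h2 : T ≤ cz (cj g P)) : ∃ c ∈ cz P, F.M (P ⊔ T) (g * c) := by
  obtain ⟨k, k1, k2⟩ := hF.exists_FN (F.cj_le hg)
  obtain ⟨c, hc, h3⟩ := (hF.rc k2).extend_cz (mul' hg k1 (le_NS (F.cj_le hg))) (cj_mul _ _ _)
  replace h3 := F.mono h3 (sup_le_sup_left (le_inf hT.1 h1) _)
  have h4 := le_inf hT.1 (h2.trans (cz_le_nz _))
  refine ⟨c, hc, of_mul_left (h := k) (by rwa [← mul_assoc]) k1 ?_⟩
  rw [← cj_le_cj (g := k), ← cj_mul, ← mul_assoc, cj_sup, cj_mul_cz hc, cj_mul,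
    cj_of_nz (hT.mem_nz h3 le_sup_right)]
  exact sup_le (cj_mono (le_NS (F.cj_le hg))) ((cj_of_nz (hT.mem_nz k1 h4)).ge.trans (cj_mono h4))

theorem Sat.restrict (hF : F.Sat p) (hA : F.SC A) (h : F.S ≤ A ⊔ cz A) : (F.restrict A).Sat p := by
  refine ⟨hF.pg.to_le inf_le_left, fun P hP => ?_⟩
  obtain ⟨g, h1, h2⟩ := F.exists_FN (hP.trans inf_le_left)
  have h3 := hA.2 _ _ (hP.trans inf_le_right) h1
  refine ⟨g, ⟨h1, hP.trans inf_le_right, h3⟩, ?_⟩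
  generalize cj g P = P at h2 h3
  refine ⟨⟨le_inf h2.1 h3, nd_of_le_right (nd_of_le_left (hF.fa h2).2 ?_) (aiS_le_aut
    (F := F.restrict A) (le_inf h2.1 h3)) (aut_mono (E := F.restrict A) (fun _ _ h => h.1) _)⟩, le_inf h2.1 h3,
    fun Q k hk e => ?_⟩
  · refine ai_eq F.S P ▸ sup_le (fun s hs => ?_) (cz_le_ai _ _)
    obtain ⟨a, ha, c, hc, rfl⟩ := (mem_sup_of_nz ((le_nz A).trans (nz_le_nz_cz A))).1 (h hs.1)
    have h4 := cz_anti h3 hc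
    exact mul_mem (mem_ai_of_mem ⟨hA.1 ha, ha⟩ ((mul_mem_cancel_right (cz_le_nz P h4)).1 hs.2))
      (cz_le_ai _ _ h4)
  · obtain ⟨c, hc, h4⟩ := (hF.rc h2).2 Q k hk.1 e
    have h5 : (F.restrict A).ext Q k ≤ A := ext_le_S.trans inf_le_right
    replace h4 := F.mono h4 (inf_le_inf inf_le_left (ai_mono (cj_mono inf_le_left) _) :
      (F.restrict A).ext Q k ≤ F.ext Q k)
    exact ⟨c, hc, h4, h5, hA.2 _ _ h5 h4⟩

theorem SC.invt_restrict (hA : F.SC A) : (F.restrict A).Invt F := by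
  have e : (F.restrict A).S = A := inf_eq_right.2 hA.1
  refine ⟨fun _ _ h => h.1, e.symm ▸ hA, fun P g a hg ha => ?_, fun P g hP hg =>
    ⟨1, one_mem _, by simpa using ⟨hg, e ▸ hP, hA.2 _ _ (e ▸ hP) hg⟩⟩⟩
  rw [e] at ha
  have h1 := cjs_le_iff.1 (cjs_le_of_M (E := F.restrict A) (fun _ _ h => h.1)
    (e.symm ▸ M_of_aut hA.1 ha)) _ _ hg
  have h2 := (cj_mono hg.2.1).trans (cj_of_nz (F.aut_le_nz _ ha)).le
  exact ⟨h1, h2, hA.2 _ _ h2 h1⟩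

/-- The automorphisms of `U` extending to `U C_S(U)` trivially modulo `U`. -/
def exb (F : FS G) (U : Subgroup G) : Subgroup G :=
  (F.aut (U ⊔ (F.S ⊓ cz U)) ⊓ trv (U ⊔ (F.S ⊓ cz U)) U) ⊔ cz U

theorem mem_exb : a ∈ F.exb U ↔ ∃ c ∈ cz U, a * c ∈ F.aut (U ⊔ (F.S ⊓ cz U)) ∧
    a * c ∈ trv (U ⊔ (F.S ⊓ cz U)) U := by
  rw [exb, mem_sup_of_nz (inf_le_right.trans ((trv_le_nz _ _).trans (nz_le_nz_cz U)))]
  exact ⟨fun ⟨b, hb, c, hc, e⟩ => ⟨c⁻¹, inv_mem hc, by rw [← e, mul_inv_cancel_right]; exact hb⟩,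
    fun ⟨c, hc, h⟩ => ⟨_, h, c⁻¹, inv_mem hc, mul_inv_cancel_right _ _⟩⟩

theorem mem_exb_of (h1 : b ∈ F.aut (U ⊔ (F.S ⊓ cz U))) (h2 : b ∈ trv (U ⊔ (F.S ⊓ cz U)) U)
    (h3 : a⁻¹ * b ∈ cz U) : a ∈ F.exb U := mem_exb.2 ⟨_, h3, by simpa using And.intro h1 h2⟩

theorem cz_le_exb : cz U ≤ F.exb U := le_sup_right

theorem sup_CS_le_nz (F : FS G) (U : Subgroup G) : U ⊔ (F.S ⊓ cz U) ≤ nz U :=
  sup_le (le_nz U) (inf_le_right.trans (cz_le_nz U))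

theorem sup_CS_le (hU : U ≤ F.S) : U ⊔ (F.S ⊓ cz U) ≤ F.S := sup_le hU inf_le_left

theorem mem_nz_sup_CS (h1 : x ∈ F.S) (h2 : x ∈ nz U) : x ∈ nz (U ⊔ (F.S ⊓ cz U)) :=
  mem_nz_sup h2 (mem_nz_inf (le_nz _ h1) (nz_le_nz_cz U h2))

theorem M_nz_sup_CS (h1 : F.M (U ⊔ (F.S ⊓ cz U)) g) (h2 : g ∈ nz U) :
    g ∈ F.aut (U ⊔ (F.S ⊓ cz U)) :=
  mem_aut_of h1 (mem_nz_sup h2 (mem_nz_CS (F.mono h1 le_sup_right) h2))

theorem le_exb (hU : U ≤ F.S) : U ≤ F.exb U := fun _ hx => Subgroup.mem_sup_left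
  ⟨mem_aut_of (F.inner (sup_CS_le hU) (hU hx)) (le_nz _ (Subgroup.mem_sup_left hx)),
    le_trv_of_nz (F.sup_CS_le_nz U) hx⟩

theorem extc_iff : ExtC E F ↔ E.aut E.S ≤ F.exb E.S := by
  refine forall₂_congr fun a ha => ?_
  rw [mem_exb]
  refine exists_congr fun c => and_congr_right fun hc => and_congr_right fun h => ?_
  have hn := mul_mem (E.aut_le_nz _ ha) (cz_le_nz _ hc)
  exact ⟨fun h1 => mem_trv_sup (le_nz _) (inf_le_right.trans (cz_le_nz _)) (mem_trv_self hn)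
    (mem_trv.2 ⟨hn, fun x hx => (h1 x hx).1⟩), fun h1 x hx => ⟨(mem_trv.1 h1).2 x
      (Subgroup.mem_sup_right hx), (cz _).mul_mem ((cz _).inv_mem hx.2) (conj_mem_cz hn hx.2)⟩⟩

theorem Sat.extc_of_cop (hE : E.Sat p) (hS : E.S ≤ F.S)
    (h : ∀ a ∈ E.aut E.S, (orderOf a).Coprime p → a ∈ F.exb E.S) : ExtC E F :=
  extc_iff.2 (hE.aut_S_le (le_exb hS) cz_le_exb h)

theorem exists_cop_of_exb (ha : a ∈ F.exb U) (hc : (orderOf a).Coprime p) :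
    ∃ b ∈ F.aut (U ⊔ (F.S ⊓ cz U)), b ∈ trv (U ⊔ (F.S ⊓ cz U)) U ∧ (orderOf b).Coprime p ∧
      a⁻¹ * b ∈ cz U := by
  obtain ⟨c, h1, h2, h3⟩ := mem_exb.1 ha
  obtain ⟨b, h4, h5, h6⟩ := exists_cop (g := a * c) hc (nz_le_nz_cz U
    ((mul_mem_cancel_right (cz_le_nz U h1)).1 (trv_le_nz _ _ h3))) (by simpa using h1)
  exact ⟨b, Subgroup.zpowers_le.2 h2 h4, Subgroup.zpowers_le.2 h3 h4, h5, h6⟩

theorem Sat.norIn_of_ppi_CF (hF : F.Sat p) (hT : F.SC T) (hD : D.Sat p) (h : D.PPI (F.CF T) p)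
    (hC : F.SC D.S) (hf : (F.CF T).foc ≤ D.S) : NorIn p D F := by
  have h1 : D.S ≤ F.S ⊓ cz T := by simpa using S_le h.1
  have h2 : T ≤ cz D.S := le_cz_comm.1 (h1.trans inf_le_right)
  have hle := h.1.trans (F.normK_le _ _)
  refine ⟨⟨hD, hF, hle, hC, fun P g a hg ha => ?_, fun P g hP hg => ?_⟩,
    hD.extc_of_cop hC.1 fun a ha hc => ?_⟩
  · obtain ⟨c, hc, h3⟩ := hF.ext_cz hT.wc (M_of_aut hC.1 ha) h2
      (by rwa [cj_of_nz (F.aut_le_nz _ ha)])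
    have h4 := CF_cjs hT.1 (sup_comm D.S T ▸ h3) h.1
    rw [cj_of_nz (hT.mem_nz h3 le_sup_right), cjs_congr (a := a) (by simpa using hc)] at h4
    exact cjs_le_iff.1 (h.le_of (hD.cjs a) h4 (cj_of_nz (F.aut_le_nz _ ha)).le) _ _ hg
  · obtain ⟨c, hc, h3⟩ := hF.ext_cz hT.wc hg (h2.trans (cz_anti hP))
      (h2.trans (cz_anti (hC.2 _ _ hP hg)))
    have h4 := hT.mem_nz h3 le_sup_right
    obtain ⟨d, hd, h5⟩ := (hF.rc hT.fn).extend_cz (F.mono h3 le_sup_right) (cj_of_nz h4)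
    have h6 := M_nz_sup_CS h5 (mul_mem h4 (cz_le_nz _ hd))
    have h7 : (F.CF T).M P d⁻¹ := normK_M_of hT.1 (cz_le_nz T) (hP.trans (h1.trans inf_le_right))
      (inv_mem hd) (by
        simpa [mul_assoc] using mul' h3 (M_of_aut (sup_CS_le hT.1) (inv_mem h6)) (by
          rw [cj_sup, cj_mul_cz hc, cj_of_nz h4]
          exact sup_le (((hC.2 _ _ hP hg).trans h1).trans le_sup_right) le_sup_left))
    obtain ⟨s, hs, h8⟩ := h.frat (hF.CF (hF.fc hT.fn)) hD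
      ((S_le (F.normK_le _ _)).trans hC.S_le_nz) h7
    rw [inf_eq_left.2 hP] at h8
    refine ⟨g * c * d * s, mul_mem (aut_restrict (sup_CS_le hT.1) h6 (h1.trans le_sup_right)
      (hC.mem_nz h5 (h1.trans le_sup_right))) (NS_le_aut hC.1 ⟨S_le (F.normK_le _ _) hs,
        hC.S_le_nz (S_le (F.normK_le _ _) hs)⟩), ?_⟩
    simpa [mul_assoc] using D.mul_cz h8 (inv_mem hc)
  · obtain ⟨-, c, c1, c2, c3⟩ := (CF_M hT.1).1 (h.1 _ _ (mem_aut_S.1 ha))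
    have h3 := hF.sc_sup hC hT
    have n1 := hC.mem_nz c3 le_sup_left
    have h4 : F.S ⊓ cz D.S ≤ F.S ⊓ nz (D.S ⊔ T) := le_inf inf_le_left (inf_le_left.trans h3.S_le_nz)
    obtain ⟨d, hd, h5⟩ := (hF.rc h3.fn).extend c3 (cj_of_nz (h3.mem_nz c3 le_rfl))
      (inf_le_left (b := cz D.S)) (cj_le_iff.2 fun x hx => mem_of_eq (mul_mem (cz_le_ai _ _
        ((cz_sup D.S T).ge ⟨comm_mem_of_nz' (nz_le_nz_cz _ n1) hx.2,
          comm_mem_of_nz (nz_le_nz_cz _ (hT.S_le_nz hx.1)) c2⟩)) (inf_le_ai _ _ (h4 hx))) (by group))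
    rw [cz_sup] at hd
    replace h5 := F.mono h5 (sup_le_sup_right le_sup_left _)
    have h6 := M_nz_sup_CS h5 (mul_mem n1 (cz_le_nz _ hd.1))
    obtain ⟨b, b1, b2, b3⟩ := exists_cop (g := a * c * d) hc (nz_le_nz_cz _ (D.aut_le_nz _ ha))
      (by simpa [mul_assoc] using mul_mem c1 hd.1)
    have b4 := Subgroup.zpowers_le.2 h6 b1
    have b5 := Subgroup.zpowers_le.2 (mul_mem c2 hd.2) b1
    have b6 := F.aut_le_nz _ b4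
    have s1 := sup_CS_le hC.1
    have s2 : T ≤ D.S ⊔ (F.S ⊓ cz D.S) := (le_inf hT.1 h2).trans le_sup_right
    refine mem_exb_of b4 (trv_trans b2 (Q := (D.S ⊔ (F.S ⊓ cz D.S)) ⊓ cz T) (mem_trv_inf' b6
      (mem_trv.2 ⟨le_nz _ b5, fun x hx => mem_of_eq (mul_mem (conj_mem_cz' (hT.S_le_nz (s1 hx)) b5)
        (inv_mem b5)) (by group)⟩)) (mem_trv.2 ⟨hC.mem_nz (M_of_aut s1 b4) le_sup_left,
          fun x hx => hf (mem_foc (normK_M_of hT.1 (cz_le_nz T) inf_le_right b5 (F.mono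
            (M_of_aut s1 b4) (sup_le inf_le_left s2))) hx)⟩) (hF.pg_le (inf_le_left.trans s1))
      ((inf_le_left.trans s1).trans hC.S_le_nz)) b3

theorem Nor.norIn_CF (hQ : F.Nor Q) (hF : F.Sat p) : NorIn p (F.CF Q) F :=
  hF.norIn_of_ppi_CF hQ.sc (hF.CF (hF.fc hQ.sc.fn)) (PPI.refl _) (by simpa using hQ.sc_cz) (foc_le _)

theorem CF_NF (hQ : Q ≤ F.S) (h : Q ≤ R) (hR : R ≤ F.S ⊓ nz Q) : (F.NF Q).CF R = F.CF R := by
  have h1 : R ≤ (F.NF Q).S := by simpa using hR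
  refine le_antisymm (normK_mono (F.normK_le _ _) h1 (cz_le_nz R)) (le_normK h1 (cz_le_nz R)
    (by simp) fun P g hg => ?_)
  obtain ⟨h2, c, hc, h3, h4⟩ := (CF_M (hR.trans inf_le_left)).1 hg
  exact ⟨c, hc, h3, normK_M_of hQ le_rfl (sup_le (h2.trans (inf_le_right.trans
    ((cz_anti h).trans (cz_le_nz Q)))) (hR.trans inf_le_right)) (cz_le_nz Q (cz_anti h h3))
      (by rwa [sup_assoc, sup_eq_left.2 h])⟩

theorem Sat.norIn_CF_NF (hF : F.Sat p) (hQ : F.FN Q) : NorIn p (F.CF Q) (F.NF Q) :=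
  CF_NF hQ.1 le_rfl (le_NS hQ.1) ▸ (NF_nor hQ.1).norIn_CF (hF.NF hQ)

end FS

end Cfsg.Agent.Fusion
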