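import Cfsg.Agent.Fusion.NB

/-! Normal subsystems of constrained systems come from normal subgroups of the model. -/

set_option autoImplicit false
set_option linter.unusedSectionVars false

namespace Cfsg.Agent.Fusion

namespace FS

variable {G : Type*} [Group G] [Finite G] {F E D : FS G} {P Q R T U V W H N : Subgroup G}
  {a b c g h k x : G} {p : ℕ} [hp : Fact p.Prime]

theorem SC.S_inf_aut_le (hT : F.SC E.S) (hS : IsPGroup p F.S) (hU : E.FA p U) :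
    F.S ⊓ E.aut U ≤ ai E.S U :=
  le_of_pmod_of_le_nz (aiS_le_aut hU.1) hU.2 inf_le_right (PMod.of_pg (hS.to_le inf_le_left) _)
    fun _ hx => mem_nz_ai (hT.S_le_nz hx.1) (E.aut_le_nz U hx.2)

theorem S_inf_ai_self (hU : U ≤ F.S) : F.S ⊓ ai U U = U ⊔ (F.S ⊓ cz U) := by
  rw [ai_self, inf_comm, sup_inf_of_nz ((le_nz U).trans (nz_le_nz_cz U)) hU, inf_comm]

theorem IsMod.triv_le (h : IsMod p F H) (hR : R ≤ F.core) (hn : H ≤ nz R) :
    H ⊓ (trv F.core R ⊓ cz R) ≤ F.core := by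
  have pQ := h.sat.pg_le F.core_le
  refine (le_opm_bot (p := p) inf_le_left (fun a ha => mem_nz_inf (le_nz _ ha) (mem_nz_inf
    (mem_nz_trv (h.le_nz_core ha) (hn ha)) (nz_le_nz_cz _ (hn ha)))) (pmod_bot.1 ?_)).trans
      h.core_eq.ge
  exact (pmod_cz_of_triv (K := H ⊓ (trv F.core R ⊓ cz R)) (pQ.to_le hR)
    (fun _ hg => (mem_trv.1 hg.2.1).2)
    (PMod.of_le fun _ hg => hg.2.2)).inf.trans (PMod.of_pg (pQ.to_le
      ((inf_le_inf_right _ inf_le_left).trans h.cz_core)) _)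

theorem IsMod.le_trv (h : IsMod p F H) (hT : F.SC T) : T ≤ trv F.core (F.core ⊓ T) := fun _ hx =>
  mem_trv_inf' (h.le_nz_core (h.le (hT.1 hx))) (le_trv_of_nz (F.core_le.trans hT.S_le_nz) hx)

theorem IsMod.cz_inf_le (h : IsMod p F H) (hT : F.SC T) : T ⊓ cz (F.core ⊓ T) ≤ F.core ⊓ T :=
  le_inf ((le_inf (inf_le_left.trans (hT.1.trans h.le)) (inf_le_inf_right _ (h.le_trv hT))).trans
    (h.triv_le inf_le_left (h.le_nz_of_sc hT))) inf_le_left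

theorem IsMod.exists_normal (h : IsMod p F H) (hE : NorIn p E F) :
    ∃ N, N ≤ H ∧ H ≤ nz N ∧ IsMod p E N := by
  have i := hE.wn.invt
  have sE := hE.wn.satE
  have hT := i.sc
  have f1 := h.le_nz_of_sc hT
  have f2 := h.triv_le inf_le_left f1
  have f3 := h.cz_inf_le hT
  have f4 := h.le_trv hT
  have hQ := h.le_nz_core
  have hQS := F.core_le
  generalize F.core = Q at *
  have hR : Q ⊓ E.S ≤ E.S := inf_le_right
  have hRQ : Q ⊓ E.S ≤ Q := inf_le_left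
  have e0 : ∀ g, g ∈ nz Q → g ∈ trv Q E.S → g ∈ trv Q (Q ⊓ E.S) := fun g => mem_trv_inf'
  generalize Q ⊓ E.S = R at *
  have hTH := hT.1.trans h.le
  have f5 : H ≤ nz (H ⊓ (E.aut R ⊓ trv Q R)) := fun a ha => mem_nz_inf (le_nz _ ha) (mem_nz_inf
    (i.aut_normal hR ((h.aut_eq (hR.trans hT.1)).ge (mem_ai_of_mem ha (f1 ha))))
    (mem_nz_trv (hQ ha) (f1 ha)))
  have f6 : E.S ≤ H ⊓ (E.aut R ⊓ trv Q R) :=
    le_inf hTH (le_inf (fun x hx => NS_le_aut hR ⟨hx, f1 (hTH hx)⟩) f4)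
  have f7 : ∀ a ∈ E.aut E.S, (orderOf a).Coprime p →
      ∃ g ∈ pres p (H ⊓ (E.aut R ⊓ trv Q R)), a⁻¹ * g ∈ cz E.S := fun a ha hc => by
    obtain ⟨b, b1, b2, b3, b4⟩ := exists_cop_of_exb (extc_iff.1 hE.extc ha) hc
    obtain ⟨g, g1, g2, g3, g4⟩ := exists_cop_of_ai (h.aut_eq (sup_CS_le hT.1) ▸ b1) b3
    have g5 : a⁻¹ * g ∈ cz E.S :=
      mem_of_eq (mul_mem b4 (cz_anti le_sup_left g4)) (by group)
    have g6 : g ∈ E.aut E.S := by simpa using mul_mem ha (E.cz_le_aut _ g5)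
    refine ⟨g, mem_pres ⟨g1, aut_restrict le_rfl g6 hR (f1 g1), e0 g (hQ g1) (trv_trans g3
      (mem_trv.2 ⟨g2, fun q hq => (S_inf_ai_self hT.1).le ⟨?_, hT.S_inf_aut_le h.sat.pg
        (sE.fa E.FN_S) ⟨?_, ?_⟩⟩⟩)
      (by simpa using mul_mem b2 (cz_le_trv le_rfl le_sup_left g4))
      (h.sat.pg_le (sup_CS_le hT.1)) (F.sup_CS_le_nz _))⟩ g3, g5⟩
    iterate 2 exact hQS (mul_mem (inv_mem hq) (conj_mem_of_nz (hQ g1) hq))
    exact mem_of_eq (mul_mem (conj_mem_of_nz' (i.aut_normal le_rfl (NS_le_aut hT.1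
      ⟨hQS hq, hT.S_le_nz (hQS hq)⟩)) g6) (inv_mem g6)) (by group)
  have f8 : ∀ s ∈ F.S ⊓ (H ⊓ (E.aut R ⊓ trv Q R)), ∃ t ∈ E.S, ∃ q ∈ Q, s = t * q := fun s hs => by
    obtain ⟨t, t1, -, c, hc, rfl⟩ := mem_ai'.1 (hT.S_inf_aut_le h.sat.pg
      (sE.fa (FN.of_normal hR (hTH.trans f1))) ⟨hs.1, hs.2.2.1⟩)
    have := (mul_mem_cancel_left (f6 t1)).1 hs.2
    exact ⟨t, t1, c, f2 ⟨this.1, this.2.2, hc⟩, rfl⟩
  have k1 : H ⊓ (E.aut R ⊓ trv Q R) ≤ H := inf_le_left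
  have k2 : H ⊓ (E.aut R ⊓ trv Q R) ≤ E.aut R := inf_le_right.trans inf_le_left
  have k3 : H ⊓ (E.aut R ⊓ trv Q R) ≤ trv Q R := inf_le_right.trans inf_le_right
  generalize H ⊓ (E.aut R ⊓ trv Q R) = K at *
  have s1 := h.syl.inf_of_nz k1 (h.le.trans f5)
  have s2 : F.S ⊓ pres p K ≤ E.S := by
    refine (le_inf (inf_le_inf_left _ (pres_le K)) inf_le_right).trans ((hyp_ofGroup s1).ge.trans
      ((hyp_le_foc _ _).trans (foc_le_iff.2 fun P g hg x hx => ?_)))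
    obtain ⟨h1, h2, c, hc, h3⟩ := (ofGroup_M inf_le_right).1 hg
    have h4 := h2 (conj_mem_cj_of hx)
    rw [← conj_mul_cz hc hx] at h4 ⊢
    generalize g * c = g at h3 h4
    obtain ⟨t, t1, q, q1, rfl⟩ := f8 x (h1 hx)
    have h5 : g * t * g⁻¹ ∈ E.S := hT.conj_mem (h.M_of (Subgroup.zpowers_le.2 (hT.1 t1))
      (by rw [cj_zpowers]; exact Subgroup.zpowers_le.2 (mem_of_eq (mul_mem h4.1 (inv_mem (hQS
        (conj_mem_of_nz (hQ (k1 h3)) q1)))) (by group))) (k1 h3)) (Subgroup.mem_zpowers t) t1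
    exact mem_of_eq (mul_mem (conj_mem_of_nz' (hT.S_le_nz (hQS q1)) (mul_mem (inv_mem t1) h5))
      (hR ((mem_trv.1 (k3 h3)).2 q q1))) (by group)
  have n1 : ∀ g ∈ H, g ∈ nz E.S → g ∈ nz (E.S ⊔ pres p K) := fun g h1 h2 =>
    mem_nz_sup h2 (nz_le_nz_pres K (f5 h1))
  have n2 : H ≤ nz (E.S ⊔ pres p K) := fun g hg => by
    obtain ⟨n, h1, h2⟩ := s1.frattini (f5 hg)
    have h3 := mul_mem (k1 h1) hg
    exact (mul_mem_cancel_left ((le_sup_pres s1.nd).trans (sup_le (fun x hx => n1 x (k1 hx.2)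
      (hT.S_le_nz hx.1)) (le_sup_right.trans (le_nz _))) h1)).1 (n1 _ h3 (hT.mem_nz (h.M_of
        inf_le_left ((cj_of_nz h2).le.trans inf_le_left) h3) (le_inf hT.1 f6)))
  have n3 : E.S ⊔ pres p K ≤ K := sup_le f6 (pres_le K)
  have e1 : F.S ⊓ (E.S ⊔ pres p K) = E.S := by
    rw [inf_comm, sup_inf_of_nz (f6.trans ((le_nz K).trans (nz_le_nz_pres K))) hT.1, inf_comm,
      sup_eq_left.2 s2]
  have m := h.normal (n3.trans k1) n2
  have j := (norIn_ofGroup h.syl (n3.trans k1) n2).wn.invt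
  rw [e1] at m j
  rw [← h.eq] at j
  have l1 : E ≤ ofGroup E.S (E.S ⊔ pres p K) := sE.alperin' le_rfl (sE.aut_S_le
    (fun x hx => NS_le_aut le_rfl ⟨hx, le_nz _ hx⟩) (cz_le_aut _ _) fun a ha hc => by
      obtain ⟨g, g1, g2⟩ := f7 a ha hc
      rw [ofGroup_aut le_sup_left le_rfl]
      exact mem_ai.2 ⟨E.aut_le_nz _ ha, _, g2, by simpa using Subgroup.mem_sup_right g1⟩)
    fun P hP => j.pres'_le sE i.le le_rfl hP.le
  refine ⟨_, n3.trans k1, n2, le_antisymm l1 (fun P g hg => ?_) ▸ m⟩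
  obtain ⟨h1, h2, c, hc, h3⟩ := m.M_iff.1 hg
  have h4 := f1 (k1 (n3 h3))
  have h5 := m.sat.M_of_cent sE l1 rfl (cent_of_fc (m.sat.fc (FN.of_normal hR (hTH.trans f1))) f3)
    le_sup_right (m.M_of (sup_le h1 hR) (by
      rw [cj_sup, cj_mul_cz hc, cj_of_nz h4]; exact sup_le h2 hR) h3) (M_of_aut hR (k2 (n3 h3)))
  simpa using E.mul_cz (E.mono h5 le_sup_left) (inv_mem hc)

theorem IsMod.normal_eq (h : IsMod p F H) (h1 : N ≤ H) (h2 : H ≤ nz N) (h3 : Syl p E.S N)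
    (h4 : E = ofGroup E.S N) (h5 : E.S ≤ F.S) :
    N = E.S ⊔ pres p (H ⊓ (E.aut (F.core ⊓ E.S) ⊓ trv F.core (F.core ⊓ E.S))) := by
  have e : E.S = F.S ⊓ N := h3.eq_of_le (le_inf h5 h3.le) inf_le_right (h.syl.pg.to_le inf_le_left)
  have hT : F.SC E.S := by rw [h.eq, e]; exact ofGroup_sc_inf h.le h2
  have f1 := h.le_nz_of_sc hT
  have f2 : E.aut (F.core ⊓ E.S) = ai N (F.core ⊓ E.S) := by
    nth_rewrite 1 [h4]; exact ofGroup_aut h3.le inf_le_right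
  have f3 : N ≤ H ⊓ (E.aut (F.core ⊓ E.S) ⊓ trv F.core (F.core ⊓ E.S)) := fun n hn =>
    ⟨h1 hn, f2.ge (mem_ai_of_mem hn (f1 (h1 hn))), mem_trv.2 ⟨f1 (h1 hn), fun q hq => by
      have := mul_mem (inv_mem hq) (conj_mem_of_nz (h.le_nz_core (h1 hn)) hq)
      exact ⟨this, e.ge ⟨F.core_le this, mem_of_eq (mul_mem (conj_mem_of_nz' (h2 (h.le
        (F.core_le hq))) hn) (inv_mem hn)) (by group)⟩⟩⟩⟩
  refine le_antisymm ((le_sup_pres h3.nd).trans (sup_le_sup_left (pres_mono f3) _))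
    (sup_le h3.le (pres_le_of_pmod ((pmod_sup_left (h.sat.pg_le F.core_le)
      (F.core_le.trans (h.le.trans h2))).mono (fun k hk => ?_) le_rfl)))
  obtain ⟨n, n1, -, c, hc, rfl⟩ := mem_ai'.1 (f2.le hk.2.1)
  have := (mul_mem_cancel_left (f3 n1)).1 hk
  exact mul_mem (Subgroup.mem_sup_left n1) (Subgroup.mem_sup_right
    (h.triv_le inf_le_left f1 ⟨this.1, this.2.2, hc⟩))

end FS

end Cfsg.Agent.Fusion
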