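import Cfsg.Agent.Fusion.Prd2

/-! Normal subsystems from local data. -/

set_option autoImplicit false
set_option linter.unusedSectionVars false

namespace Cfsg.Agent.Fusion

namespace FS

variable {G : Type*} [Group G] [Finite G] {F E D A : FS G} {P Q R T U V W X Y H L N : Subgroup G}
  {a b c g h k s x σ : G} {p : ℕ} [hp : Fact p.Prime] {C : Subgroup G → Prop}
  {B : Subgroup G → Subgroup G}

theorem exb_mono (h : D ≤ F) (e : D.S = F.S) (U : Subgroup G) : D.exb U ≤ F.exb U := by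
  rw [exb, exb, e]
  exact sup_le_sup_right (inf_le_inf_right _ (aut_mono h _)) _

/-- Local data for a normal subsystem over `T`. -/
structure NMp (p : ℕ) (F : FS G) (T : Subgroup G) (C : Subgroup G → Prop)
    (B : Subgroup G → Subgroup G) : Prop where
  sat : F.Sat p
  sc : F.SC T
  le : ∀ {W}, C W → W ≤ T
  conj : ∀ {W g}, C W → F.M W g → C (cj g W)
  mono : ∀ {W V}, C W → W ≤ V → V ≤ T → C V
  top : C T
  cr : ∀ P, F.FN P → F.Cent P → F.Rad p P → C (P ⊓ T)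
  nc : ∀ P, F.CenT T P → ¬ C P → ∃ g, F.M P g ∧ ∃ x ∈ T, x ∉ cj g P ∧
    x ∈ opm p (F.aut (cj g P)) (cz (cj g P))
  B_le : ∀ {W}, C W → B W ≤ F.aut W
  cz_le : ∀ {W}, C W → cz W ≤ B W
  NT_le : ∀ {W}, C W → T ⊓ nz W ≤ B W
  B_cj : ∀ {W a}, C W → F.M W a → cj a (B W) ≤ B (cj a W)
  loc : ∀ {U}, C U → F.FN U → ∃ M : FS G, M.Sat p ∧ M.S = F.S ⊓ nz U ∧ M ≤ F.NF U ∧ M.hyp p ≤ T ∧
    ∀ Q g, U ≤ Q → Q ≤ T ⊓ nz U → (orderOf g).Coprime p → (g ∈ M.aut Q ↔ g ∈ B Q ∧ g ∈ nz U)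

/-- The generated system. -/
def nsys (p : ℕ) (T : Subgroup G) (C : Subgroup G → Prop) (B : Subgroup G → Subgroup G) : FS G :=
  gen T fun W g => C W ∧ g ∈ B W ∧ (orderOf g).Coprime p

/-- The local generated system. -/
def nloc (p : ℕ) (T : Subgroup G) (B : Subgroup G → Subgroup G) (W : Subgroup G) : FS G :=
  gen (T ⊓ nz W) fun Q g => W ≤ Q ∧ g ∈ nz W ∧ g ∈ B Q ∧ (orderOf g).Coprime p

namespace NMp

theorem B_nz (n : NMp p F T C B) (hW : C W) : B W ≤ nz W := (n.B_le hW).trans (F.aut_le_nz W)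

theorem M_of (n : NMp p F T C B) (hW : C W) (hg : g ∈ B W) (hc : (orderOf g).Coprime p) :
    (nsys p T C B).M W g :=
  gen_M_of ⟨hW, hg, hc⟩ (n.le hW) ((cj_of_nz (n.B_nz hW hg)).le.trans (n.le hW))

theorem sys_le (n : NMp p F T C B) : nsys p T C B ≤ F :=
  gen_le n.sc.1 fun _ _ h h1 _ => M_of_aut (h1.trans n.sc.1) (n.B_le h.1 h.2.1)

theorem invt (n : NMp p F T C B) : (nsys p T C B).Invt F :=
  n.sat.invt_of_family (H := C) n.sys_le n.sc (fun a ha => have h1 := M_of_aut n.sc.1 ha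
    cjs_gen_le (cj_of_nz (F.aut_le_nz _ ha)).le fun _ _ h h2 _ => n.M_of (n.conj h.1 (F.mono h1 h2))
      (n.B_cj h.1 (F.mono h1 h2) (conj_mem_cj_of h.2.1)) (by rw [orderOf_conj']; exact h.2.2))
    (fun _ => n.le) (fun _ _ => n.conj) (fun _ _ => n.mono) n.cr fun U h1 h2 =>
    ⟨ai T U ⊔ pres p (B U), (cz_le_ai _ _).trans le_sup_left, sup_le (ai_le_aut (n.le h1) le_rfl)
      (pres_le_iff.2 fun _ hg hc => mem_aut_of (n.M_of h1 hg hc) (n.B_nz h1 hg)),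
      n.sat.le_nz_ai_sup_pres n.sc h2 (n.B_le h1) (n.cz_le h1) (fun a ha => mem_nz_of_le (by
        simpa only [cj_of_nz (F.aut_le_nz U ha)] using n.B_cj h1 (M_of_aut h2.1 ha))) (n.NT_le h1),
      (inf_le_ai _ _).trans le_sup_left⟩

theorem loc_M (n : NMp p F T C B) (hW : C W) (h1 : W ≤ Q) (h2 : Q ≤ T ⊓ nz W) (h3 : g ∈ nz W)
    (h4 : g ∈ B Q) (h5 : (orderOf g).Coprime p) : (nloc p T B W).M Q g :=
  gen_M_of ⟨h1, h3, h4, h5⟩ h2
    ((cj_of_nz (n.B_nz (n.mono hW h1 (h2.trans inf_le_left)) h4)).le.trans h2)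

theorem loc_M_cj (n : NMp p F T C B) (hW : C W) (hσ : F.M Q σ) (h1 : W ≤ Q) (h2 : Q ≤ T ⊓ nz W)
    (h3 : g ∈ nz W) (h4 : g ∈ B Q) (h5 : (orderOf g).Coprime p) :
    (nloc p T B (cj σ W)).M (cj σ Q) (σ * g * σ⁻¹) :=
  n.loc_M (n.conj hW (F.mono hσ h1)) (cj_mono h1) (le_inf (n.sc.2 _ _ (h2.trans inf_le_left) hσ)
    ((cj_inf_nz_le hσ (h2.trans inf_le_right)).trans inf_le_right)) (conj_mem_nz_cj h3)
    (n.B_cj (n.mono hW h1 (h2.trans inf_le_left)) hσ (conj_mem_cj_of h4)) (by rwa [orderOf_conj'])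

theorem loc_le (n : NMp p F T C B) (hW : C W) : nloc p T B W ≤ nsys p T C B :=
  gen_le inf_le_left fun _ _ h h1 _ => n.M_of (n.mono hW h.1 (h1.trans inf_le_left)) h.2.2.1 h.2.2.2

theorem loc_le_NF (n : NMp p F T C B) (hW : C W) : nloc p T B W ≤ F.NF W :=
  gen_le (by rw [normK_S]; exact inf_le_inf_right _ n.sc.1) fun _ _ h h1 _ =>
    normK_M_of ((n.le hW).trans n.sc.1) le_rfl (h1.trans inf_le_right) h.2.1 (by
      rw [sup_eq_left.2 h.1]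
      exact M_of_aut (h1.trans (inf_le_left.trans n.sc.1))
        (n.B_le (n.mono hW h.1 (h1.trans inf_le_left)) h.2.2.1))

theorem loc_sat (n : NMp p F T C B) (hW : C W) (hm : (nsys p T C B).Mx W) :
    (nloc p T B W).Sat p ∧ ∀ g ∈ (nloc p T B W).aut W, (orderOf g).Coprime p → g ∈ B W := by
  have w := (n.le hW).trans n.sc.1
  obtain ⟨φ, h1, h2⟩ := n.sat.exists_FN w
  replace h1 := F.mono h1 (inf_le_inf_right _ n.sc.1)
  have w1 : W ≤ T ⊓ nz W := le_inf (n.le hW) (le_nz W)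
  have u := n.conj hW (F.mono h1 w1)
  have r : cj φ (T ⊓ nz W) = T ⊓ nz (cj φ W) := by
    refine le_antisymm (le_inf (n.sc.2 _ _ inf_le_left h1)
      ((cj_inf_nz_le h1 inf_le_right).trans inf_le_right)) ?_
    obtain ⟨a, a1, a2⟩ := n.invt.frat _ _ inf_le_left h1
    have k3 := cj_mono (g := a) (hm _ a2)
    rw [cj_inf, cj_of_nz (F.aut_le_nz _ a1), cj_nz] at k3
    simpa [← cj_mul, nsys] using k3
  obtain ⟨M, m1, m2, m3, m4, m5⟩ := n.loc u h2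
  obtain ⟨L, l1, l2, l3⟩ := m1.exists_ppi (T := T ⊓ nz (cj φ W))
    (le_inf m4 ((hyp_le _ _).trans (m2.le.trans inf_le_right))) (m2 ▸ inf_le_inf_right _ n.sc.1)
  have u1 : cj φ W ≤ L.S := l1 ▸ le_inf (n.le u) (le_nz _)
  have e : cjs φ (nloc p T B W) = L := by
    refine le_antisymm (cjs_gen_le (S := T ⊓ nz W) (r.trans l1.symm).le fun Q g q q5 q6 => ?_)
      (l2.alperin_p' (l1.trans r.symm).le fun P g hP hg hc => ?_)
    · have q7 : cj φ Q ≤ T ⊓ nz (cj φ W) := r ▸ cj_mono q5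
      have q8 := (orderOf_conj' φ g).symm ▸ q.2.2.2
      exact M_of_aut (l1 ▸ q7) (l3.2.2 _ (l1 ▸ q7) (mem_pres ((m5 _ _ (cj_mono q.1) q7 q8).2
        ⟨n.B_cj (n.mono hW q.1 (q5.trans inf_le_left)) (F.mono h1 q5) (conj_mem_cj_of q.2.2.1),
          conj_mem_nz_cj q.2.1⟩) q8))
    · have q1 : P ≤ T ⊓ nz (cj φ W) := l1 ▸ (l2.cent_of hP).1
      have q2 : cj φ W ≤ P := ((NF_nor h2.1).sub (n.sat.NF h2).pg l2 (l3.1.trans m3) u1).le_of_rad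
        l2.pg (l2.cent_of hP) (l2.rad_of hP)
      have q3 := (m5 _ _ q2 q1 hc).1 (aut_mono l3.1 _ hg)
      have := n.loc_M_cj u (inv' h1 (r ▸ q1)) q2 q1 q3.2 q3.1 hc
      rwa [cj_inv_cj, inv_inv] at this
  refine ⟨by simpa [← e] using l2.cjs φ⁻¹, fun g hg hc => ?_⟩
  have := n.B_cj u (F.inv (F.mono h1 w1)) (conj_mem_cj_of ((m5 _ _ le_rfl (l1 ▸ u1)
    ((orderOf_conj' φ g).symm ▸ hc)).1 (aut_mono l3.1 _ (by
      rw [← e, cjs_aut]; exact conj_mem_cj_of hg))).1)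
  simpa [mul_assoc] using this

theorem satAt (n : NMp p F T C B) (hW : C W) :
    (nsys p T C B).SatAt p W ∧ ∀ g ∈ (nsys p T C B).aut W, (orderOf g).Coprime p → g ∈ B W := by
  have hT : (nsys p T C B).SC T := sc_S _
  refine down_induction (S := T) (Φ := fun W => C W → (nsys p T C B).SatAt p W ∧
    ∀ g ∈ (nsys p T C B).aut W, (orderOf g).Coprime p → g ∈ B W) (fun W hW ih hc => ?_) _
      (n.le hW) hW
  obtain ⟨σ, s1, s2⟩ := (nsys p T C B).exists_mx W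
  have s3 := FS.mono _ s1 (le_NS (F := nsys p T C B) hW)
  have s4 := n.conj hc (n.sys_le _ _ s3)
  have s5 := n.loc_sat s4 s2
  suffices k : _ ∧ _ from ⟨satAt_of_loc hT s5.1 rfl (n.loc_le s4) (fun g hg => (NF_nor
    ((n.le s4).trans n.sc.1)).sc.mem_nz (n.loc_le_NF s4 _ _ hg) le_rfl) k.1 k.2 hW (FS.inv _ s3)
      (by simpa using hW), fun g hg h => by
      have h1 : σ * g * σ⁻¹ ∈ (nsys p T C B).aut (cj σ W) := cj_aut s3 ▸ conj_mem_cj_of hg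
      have h2 := aut_le_nz _ _ h1
      simpa [mul_assoc] using n.B_cj s4 (F.inv (n.sys_le _ _ s3)) (conj_mem_cj_of (s5.2 _ (mem_aut_of
        (k.2 _ _ (inf_eq_left.2 (n.le s4)) (M_of_aut (n.le s4) h1) h2) h2) (by rwa [orderOf_conj'])))⟩
  rcases hW.eq_or_lt with rfl | hlt
  · rw [cj_of_nz (hT.mem_nz s3 le_rfl)]
    refine ⟨fun g hg => ⟨1, M_one inf_le_left, by rw [cj_one, cj_of_nz (hT.mem_nz hg le_rfl)]⟩,
      fun P g e hg _ => (gen_ind ((nsys p W C B).sub (fun P g => W ≤ P → (nloc p W B W).M P g)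
        (fun _ hR k h => FS.mono _ (k (h.trans hR)) hR) (fun _ hc k h => FS.mul_cz _ (k h) hc)
        (fun hP hs _ => FS.inner _ (le_inf hP (hP.trans hT.S_le_nz)) ⟨hs, hT.S_le_nz hs⟩)
        (fun h1 _ k k' h => FS.mul _ (k h) (k' ((cj_of_nz (hT.mem_nz h1 h)).ge.trans (cj_mono h))))
        (fun h1 k h => FS.inv _ (k (by
          simpa using (cj_of_nz (hT.mem_nz (FS.inv _ h1) h)).ge.trans (cj_mono h))))) rfl
        (fun P g h1 h2 => ⟨h2, fun h3 => n.loc_M hc h3 (le_inf (Gen.le h2).1 ((Gen.le h2).1.trans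
          (le_nz _))) (hT.mem_nz h2 h3) h1.2.1 h1.2.2⟩) P g hg).2 (inf_eq_right.1 e)⟩
  have ih' : ∀ {V Q}, C V ∧ Nat.card V = Nat.card W → V ≤ Q → Q ≤ T ⊓ nz V → ¬ Q ⊓ T ≤ V → _ :=
    fun {V Q} hV h1 h2 h3 => ih Q (h2.trans inf_le_left) (hV.2 ▸ card_lt_of_lt (lt_of_le_not_ge h1
      fun e => h3 (inf_le_left.trans e))) (n.mono hV.1 h1 (h2.trans inf_le_left))
  refine Loc.main (X := fun V => C V ∧ Nat.card V = Nat.card W) ⟨n.sat.pg_le n.sc.1, hT,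
    fun hV => lt_of_le_of_ne (n.le hV.1) fun e => (card_lt_of_lt hlt).ne' (e ▸ hV.2),
    fun hV hg => ⟨n.conj hV.1 (n.sys_le _ _ hg), (card_cj _ _).trans hV.2⟩,
    fun hV h1 h2 h3 => (ih' hV h1 h2 h3).1, fun _ => le_rfl,
    fun hV _ hσ => cjs_gen_le (cj_inf_nz_le hσ inf_le_right) fun Q g ⟨q1, q2, q3, q4⟩ q5 _ =>
      n.loc_M_cj hV.1 (n.sys_le _ _ (FS.mono _ hσ q5)) q1 q5 q2 q3 q4,
    fun hV _ h1 h2 h3 h4 h5 h6 => n.loc_M hV.1 h1 h2 h5 ((ih' hV h1 h2 h3).2 _ h4 h6) h6⟩ _ gen_ind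
    (fun P' g P h1 h2 h3 _ h5 => ?_) ⟨s4, card_cj _ _⟩ s2
  obtain rfl : P = P' := le_antisymm h3 ((le_inf le_rfl (n.le h1.1)).trans h5)
  rw [inf_eq_left.2 (n.le h1.1)]
  have h7 : P ≤ T ⊓ nz P := le_inf (n.le h1.1) (le_nz _)
  exact ⟨n.B_nz h1.1 h1.2.1, fun σ h8 _ => n.loc_M_cj h1.1 (n.sys_le _ _ (FS.mono _ h8 h7)) le_rfl h7
    (n.B_nz h1.1 h1.2.1) h1.2.1 h1.2.2⟩

theorem sys_sat (n : NMp p F T C B) : (nsys p T C B).Sat p := by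
  refine sat_of_gen (n.sat.pg_le n.sc.1) C (fun P g h1 hg => n.conj h1 (n.sys_le _ _ hg))
    (fun P h1 _ => (n.satAt h1).1) (fun D e k => gen_ind D e fun P g h1 => k P g h1.1)
    fun P h1 h2 => ?_
  obtain ⟨g, g1, x, x1, x2, x3⟩ := n.nc P (n.invt.cenT_iff.2 h1) h2
  obtain ⟨a, a1, a2⟩ := n.invt.frat P g h1.1 g1
  have a3 := inv' (M_of_aut n.sc.1 a1) ((n.sc.2 _ _ h1.1 g1).trans (cj_of_nz (F.aut_le_nz _ a1)).ge)
  have x4 := conj_mem_cj_of (g := a⁻¹) x3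
  rw [cj_opm, cj_aut a3, cj_cz, ← cj_mul] at x4
  have x5 : a⁻¹ * x * a⁻¹⁻¹ ∈ T := conj_mem_of_nz (inv_mem (F.aut_le_nz _ a1)) x1
  refine ⟨_, a2, fun e => x2 ?_⟩
  have := e ⟨x5, inf_opm_le (aut_mono n.sys_le _) (F.aut_le_nz_cz _) ⟨NS_le_aut (FS.cj_le _ a2)
    ⟨x5, F.aut_le_nz _ (opm_le _ _ x4)⟩, x4⟩⟩
  rwa [cj_mul, inv_inv, ← mem_cj, cj_cj_inv] at this

theorem exists_normal (n : NMp p F T C B) : ∃ D, NorIn p D F ∧ D.S = T ∧
    ∀ W g, C W → (orderOf g).Coprime p → (g ∈ D.aut W ↔ g ∈ B W) := by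
  refine ⟨_, ⟨⟨n.sys_sat, n.sat, n.invt⟩, n.sys_sat.extc_of_cop n.sc.1 fun a ha hc => ?_⟩, rfl,
    fun W g hW hc => ⟨fun h => (n.satAt hW).2 g h hc, fun h => mem_aut_of (n.M_of hW h hc)
      (n.B_nz hW h)⟩⟩
  obtain ⟨M, m1, m2, m3, m4, m5⟩ := n.loc n.top n.sc.fn
  rw [inf_eq_left.2 n.sc.S_le_nz] at m2
  obtain ⟨L, rfl, l2, l3⟩ := m1.exists_ppi m4 (m2 ▸ n.sc.1)
  exact exb_mono (m3.trans (F.normK_le _ _)) m2 _ (extc_iff.1 (l3.norIn m1 l2 (m2 ▸ n.sc.S_le_nz)).extc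
    (l3.2.2 _ le_rfl (mem_pres ((m5 _ _ le_rfl (le_inf le_rfl (le_nz _)) hc).2
      ⟨(n.satAt n.top).2 a ha hc, aut_le_nz _ _ ha⟩) hc)))

end NMp

end FS

end Cfsg.Agent.Fusion
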