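import Cfsg.Agent.Fusion.PQI
import Cfsg.Agent.Fusion.Small

/-! Subsystems of index prime to `p` cut out by a normal subgroup of the automizer of a strongly
closed subgroup. -/

set_option autoImplicit false
set_option linter.unusedSectionVars false

namespace Cfsg.Agent.Fusion

section
variable {G : Type*} [Group G] [Finite G] {p : ℕ} [hp : Fact p.Prime] {A C X P : Subgroup G}
  {a g : G}

theorem PMod.le_pres' (h : PMod p X C) (hX : X ≤ A) : X ≤ pres' p A ⊔ C := fun x hx => by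
  obtain ⟨k, hk⟩ := h x hx
  obtain ⟨a, h1, ⟨j, h2⟩, h3⟩ := exists_p_elt hk
  exact mem_of_eq (mul_mem (Subgroup.mem_sup_left (mem_pres' (hX (Subgroup.zpowers_le.2 hx h1)) h2))
    (Subgroup.mem_sup_right (inv_mem h3))) (by group)

theorem exists_cop (ha : (orderOf a).Coprime p) (hn : a ∈ nz C) (h : a⁻¹ * g ∈ C) :
    ∃ b ∈ Subgroup.zpowers g, (orderOf b).Coprime p ∧ a⁻¹ * b ∈ C := by
  obtain ⟨c, h1, h2⟩ := mul_pow_eq_of_nz hn h (orderOf a)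
  rw [mul_inv_cancel_left, pow_orderOf_eq_one, one_mul] at h2
  obtain ⟨b, h3, h4, h5⟩ := exists_p'_elt ha (h2 ▸ h1)
  exact ⟨b, h3, h4, mem_of_eq (mul_mem h h5) (by group)⟩

theorem le_of_cop {Y : Subgroup G} (h : ¬ p ∣ Y.relIndex A) (h1 : Y ≤ X)
    (h2 : ∀ g ∈ A, (orderOf g).Coprime p → g ∈ X) : A ≤ X :=
  (le_sup_pres h).trans (sup_le h1 (pres_le_iff.2 h2))

end

namespace FS

variable {G : Type*} [Group G] [Finite G] {F E D : FS G} {P Q R T U V W A B K Y S : Subgroup G}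
  {a b c g h k x : G} {p : ℕ} [hp : Fact p.Prime]

theorem Sat.aut_S_le (hF : F.Sat p) (h1 : F.S ≤ K) (h2 : cz F.S ≤ K)
    (h3 : ∀ g ∈ F.aut F.S, (orderOf g).Coprime p → g ∈ K) : F.aut F.S ≤ K :=
  le_of_cop hF.aut_S_nd (ai_self F.S ▸ sup_le h1 h2) h3

theorem CenT.mem_stab (h : F.CenT T U) (hT : F.SC T) (h1 : U ≤ P) (h2 : P ≤ nz U)
    (hg : F.M P g) (hc : c ∈ cz U) (hg' : F.M P (g * c))
    (h3 : ∀ x ∈ P, (g * x * g⁻¹)⁻¹ * (g * c * x * (g * c)⁻¹) ∈ T) : c ∈ F.stab P U := by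
  have h4 : ∀ x ∈ P, x⁻¹ * (c * x * c⁻¹) ∈ U := fun x hx => by
    have := h.2 g (F.mono hg h1) ⟨h3 x hx, mem_of_eq (conj_mem_cz_cj (g := g) (mul_mem
      (conj_mem_cz' (h2 hx) hc) (inv_mem hc))) (by group)⟩
    exact mem_of_eq (mem_cj.1 this) (by group)
  have h5 : c ∈ nz P := mem_nz_of_forall fun x hx =>
    mem_of_eq (mul_mem hx (h1 (h4 x hx))) (by group)
  exact ⟨mem_aut_of (of_mul_left hg' hg (cj_of_nz h5).le) h5, mem_trv.2 ⟨cz_le_nz U hc, h4⟩, hc⟩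

theorem Invt.pres'_le_of (h : D.Invt F) (hF : F.Sat p)
    (hS : ∀ P, P ≤ D.S → ∀ s ∈ F.S, D.M P s) (hP : P ≤ D.S) : pres' p (F.aut P) ≤ D.aut P := by
  obtain ⟨g, h1, h2⟩ := F.exists_FN (hP.trans h.S_le)
  have h3 := h.sc.2 _ _ hP h1
  rw [← cj_le_cj (g := g), cj_pres', FS.cj_aut h1, h.cj_aut hP h1]
  exact pres'_le_of_nd (h.aut_normal h3) (nd_of_le_left (hF.fa h2).2 (ai_eq F.S _ ▸ sup_le
    (fun s hs => mem_aut_of (hS _ h3 s hs.1) hs.2) (cz_le_aut _ _)))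

theorem Invt.adj_aut_S (h : E.Invt F) (hA : A ≤ F.aut E.S) (h1 : E.aut E.S ≤ A) :
    (h.adj A hA).aut E.S = A := le_antisymm (fun g hg => by
  obtain ⟨a, ha, h2⟩ := FS.M_of_aut (F := h.adj A hA) le_rfl hg
  simpa using mul_mem ha (h1 (mem_aut_S.2 h2))) (h.le_adj_aut hA)

theorem Invt.mem_of_adj (h : E.Invt F) (hF : F.Sat p) (hE : E.Sat p) (h1 : E.aut E.S ≤ K)
    (h2 : K ≤ F.aut E.S) (h3 : F.aut E.S ≤ nz K) (h4 : F.S ≤ K) (hU : F.CenT E.S U) :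
    ∀ a ∈ F.aut E.S, (h.adj K h2).M U a → a ∈ K := by
  refine down_induction (S := E.S) (Φ := fun U => F.CenT E.S U → ∀ a ∈ F.aut E.S,
    (h.adj K h2).M U a → a ∈ K) (fun U hU ih hc a ha ⟨k, hk, h5⟩ => ?_) U hU.1 hU
  suffices k⁻¹ * a ∈ K by simpa using mul_mem hk this
  replace ha := mul_mem (inv_mem (h2 hk)) ha
  generalize k⁻¹ * a = a at h5 ha
  rcases hU.eq_or_lt with rfl | hlt
  · exact h1 (mem_aut_S.2 h5)
  have h6 := hE.lt_NS hlt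
  refine ih _ inf_le_left (card_lt_of_lt h6) (hc.mono h6.le inf_le_left) a ha ?_
  obtain ⟨ψ, h7, h8⟩ := hE.exists_FN (E.cj_le h5)
  have a1 := F.mono (FS.M_of_aut h.S_le ha) (inf_le_left (b := nz U))
  have a2 : cj a (E.S ⊓ nz U) ≤ E.S ⊓ nz (cj a U) := by
    rw [cj_inf, cj_nz, cj_of_nz (F.aut_le_nz _ ha)]
  have a3 := (cj_mono (g := ψ) a2).trans (cj_inf_nz_le h7 inf_le_right)
  obtain ⟨c, hc', h9⟩ := (hE.rc h8).extend (mul' h5 h7 (le_NS (E.cj_le h5))) (cj_mul _ _ _)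
    (inf_le_left (b := nz U)) (by rw [cj_mul]; exact a3.trans (inf_le_ai _ _))
  replace h9 := E.mono h9 le_sup_right
  have a4 := hc.mem_stab h.sc h6.le inf_le_right (mul' a1 (h.le _ _ h7) a2) hc' (h.le _ _ h9)
    fun x hx => mul_mem (inv_mem (a3 (cj_mul ψ a _ ▸ conj_mem_cj_of hx)).1) (conj_mem h9 hx)
  have a5 := sup_le ((h.adj_invt h2 h3).pres'_le_of hF (fun P hP s hs => ⟨s, h4 hs, by
    simpa using M_one (F := E) hP⟩) inf_le_left) (cz_le_aut _ _) ((pmod_stab (hE.pg_le hU)).le_pres'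
      stab_le (inv_mem a4))
  have := mul' (mul' (FS.M_of_aut (F := h.adj K h2) inf_le_left a5) (h.le_adj h2 _ _ h9)
    (cj_of_nz (aut_le_nz _ _ a5)).le) (FS.inv _ (h.le_adj h2 _ _ h7))
    (by rw [mul_inv_cancel_right, cj_mul]; exact cj_mono a2)
  rwa [mul_inv_cancel_right, inv_mul_cancel_left] at this

theorem fam_cenT (hF : F.Sat p) (hT : F.SC T) :
    Fam p F fun P => P ≤ F.S ∧ F.CenT T (P ⊓ T) :=
  ⟨fun _ h => h.1, fun _ _ h hg => ⟨F.cj_le hg, hT.cj_inf hg ▸ h.2.cj hT (F.mono hg inf_le_left)⟩,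
    fun _ _ h a b => ⟨b, h.2.mono (inf_le_inf_right _ a) inf_le_right⟩,
    fun _ a b c => ⟨a.1, hF.cenT_inf hT b c⟩⟩

/-- The maps whose restriction to a strongly closed subgroup lies in a subsystem. -/
def resSys (F D : FS G) (hT : F.SC D.S) (hS : ∀ P, P ≤ D.S → ∀ s ∈ F.S, D.M P s) : FS G :=
  F.sub (fun P g => D.M (P ⊓ D.S) g) (fun _ hR h => D.mono h (inf_le_inf_right _ hR))
    (fun _ hc h => D.mul_cz h (cz_anti inf_le_left hc)) (fun _ hs => hS _ inf_le_right _ hs)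
    (fun hg _ a b => mul' a b (hT.cj_inf hg).le) (fun hg a => inv' a (hT.cj_inf hg).ge)

theorem Invt.exists_pqi (h : E.Invt F) (hF : F.Sat p) (hE : E.Sat p) (h1 : E.aut E.S ≤ K)
    (h2 : K ≤ F.aut E.S) (h3 : F.aut E.S ≤ nz K) (h4 : F.S ≤ K) :
    ∃ D, NorIn p D F ∧ D.S = F.S ∧ E ≤ D ∧ ∀ P g, E.S ≤ P → F.M P g → (D.M P g ↔ g ∈ K) := by
  have f := fam_cenT hF h.sc
  have i := h.adj_invt h2 h3
  have hS : ∀ P, P ≤ (h.adj K h2).S → ∀ s ∈ F.S, (h.adj K h2).M P s := fun P hP s hs =>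
    ⟨s, h4 hs, by simpa using M_one (F := E) hP⟩
  have h5 : F.q0 p (fun P => P ≤ F.S ∧ F.CenT E.S (P ⊓ E.S)) ≤ resSys F _ i.sc hS :=
    q0_le_of le_rfl fun P _ hP => pres'_le_iff.2 fun g hg k hk => mem_aut_of ⟨FS.M_of_aut hP hg,
      FS.M_of_aut inf_le_right (i.pres'_le_of hF hS inf_le_right (mem_pres'
        (aut_restrict hP hg inf_le_left (h.sc.aut_le hP hg)) hk))⟩ (F.aut_le_nz P hg)
  have r : F.aut F.S ≤ F.aut E.S := fun a ha =>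
    aut_restrict le_rfl ha h.S_le (h.sc.mem_nz (FS.M_of_aut le_rfl ha) h.S_le)
  have h0 : ∀ a ∈ F.aut F.S, ∀ P, (P ≤ F.S ∧ F.CenT E.S (P ⊓ E.S)) →
      (F.q0 p fun P => P ≤ F.S ∧ F.CenT E.S (P ⊓ E.S)).M P a → a ∈ F.aut F.S ⊓ K :=
    fun a ha P hP h6 => ⟨ha, h.mem_of_adj hF hE h1 h2 h3 h4 hP.2 a (r ha) (h5 _ _ h6).2⟩
  have j := f.invt hF
  have j' := j.adj_invt (inf_le_left (b := K)) fun a ha => mem_nz_inf (le_nz _ ha) (h3 (r ha))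
  have h6 : ∀ P g, E.S ≤ P → (F.q0 p fun P => P ≤ F.S ∧ F.CenT E.S (P ⊓ E.S)).M P g → g ∈ K :=
    fun P g hP hg => (h.adj_aut_S h2 h1).le (mem_aut_of (inf_eq_right.2 hP ▸ (h5 _ _ hg).2)
      (h.sc.mem_nz (q0_le _ _ hg) hP))
  have h7 : ∀ P g, E.S ≤ P → F.M P g → ((j.adj _ (inf_le_left (b := K))).M P g ↔ g ∈ K) :=
    fun P g hP hg =>
    ⟨fun ⟨a, ha, h8⟩ => by simpa using mul_mem ha.2 (h6 _ _ hP h8), fun hk => by
      obtain ⟨a, ha, h8⟩ := j.frat P g (F.le_S hg) hg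
      exact ⟨a, ⟨ha, by simpa using mul_mem hk (inv_mem (h6 _ _ hP h8))⟩, h8⟩⟩
  refine ⟨_, ⟨⟨f.sat hF inf_le_left h0, hF, j'⟩, extc_of_S_eq j'.le rfl⟩, rfl,
    hE.alperin' h.S_le (fun a ha => mem_aut_of ((h7 _ _ le_rfl (h.le _ _ (mem_aut_S.1 ha))).2
      (h1 ha)) (E.aut_le_nz _ ha)) fun P hP => ?_, h7⟩
  exact j'.pres'_le hE h.le h.S_le hP.le

end FS

end Cfsg.Agent.Fusion
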