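import Cfsg.Agent.Fusion.KM

/-! The product of a normal subsystem with the Sylow subgroup. -/

set_option autoImplicit false
set_option linter.unusedSectionVars false

namespace Cfsg.Agent.Fusion

namespace FS

universe u

variable {G : Type u} [Group G] [Finite G] {F E D : FS G} {P Q R T U V W X Y H L N : Subgroup G}
  {a b c g h k s x σ : G} {p : ℕ} [hp : Fact p.Prime]

/-- The product of `E` with `F.S`. -/
def prd (p : ℕ) (F E : FS G) : FS G :=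
  gen F.S fun P g => F.CenT E.S (P ⊓ E.S) ∧ g ∈ F.ao E P ∧ (orderOf g).Coprime p

@[simp] theorem prd_S : (prd p F E).S = F.S := rfl

theorem prd_le : prd p F E ≤ F := gen_le le_rfl fun _ _ h h1 _ => M_of_aut h1 h.2.1.1

theorem KM.prd_M (hk : KM p F E P g) (hT : E.S ≤ F.S) : (prd p F E).M P g := by
  induction hk with
  | base h1 h2 h3 h4 => exact gen_M_of ⟨h2, h3, h4⟩ h1 ((cj_of_nz (ao_le_nz h3)).le.trans h1)
  | inner h1 h2 => exact FS.inner _ h1 (hT h2)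
  | mono _ h ih => exact FS.mono _ ih h
  | mul_cz _ h ih => exact FS.mul_cz _ ih h
  | mul _ _ ih ih' => exact FS.mul _ ih ih'
  | inv _ ih => exact FS.inv _ ih

theorem KM.conj_S (hk : KM p F E P g) (i : E.Invt F) (hs : s ∈ F.S) :
    KM p F E (cj s P) (s * g * s⁻¹) :=
  hk.conj i (F.inner le_rfl hs) i.S_le (F.le_S (hk.M i.S_le))

theorem Invt.km_prd (i : E.Invt F) (hg : (prd p F E).M P g) : ∃ s ∈ F.S, KM p F E P (s⁻¹ * g) :=
  (gen_le (F := F.sub (fun P g => ∃ s ∈ F.S, KM p F E P (s⁻¹ * g))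
    (fun _ hR ⟨s, h1, h2⟩ => ⟨s, h1, h2.mono hR⟩)
    (fun _ hc ⟨s, h1, h2⟩ => ⟨s, h1, mul_assoc s⁻¹ _ _ ▸ h2.mul_cz hc⟩)
    (fun hP hs => ⟨_, hs, by simpa using KM.one hP⟩)
    (fun {P g h} _ _ ⟨s, h1, h2⟩ ⟨t, h3, h4⟩ => ⟨t * s, mul_mem h3 h1,
      show s⁻¹ * (t⁻¹ * h) * s⁻¹⁻¹ * (s⁻¹ * g) = (t * s)⁻¹ * (h * g) by group ▸
        h2.mul' (h4.conj_S i (inv_mem h1)) (cj_mul _ _ _).le⟩)
    (fun {P g} _ ⟨s, h1, h2⟩ => ⟨s⁻¹, inv_mem h1,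
      show s * (s⁻¹ * g)⁻¹ * s⁻¹ = s⁻¹⁻¹ * g⁻¹ by group ▸
        (h2.inv.conj_S i h1).mono (by rw [← cj_mul, mul_inv_cancel_left])⟩)) le_rfl
    (fun _ _ h h1 _ => ⟨M_of_aut h1 h.2.1.1, 1, one_mem _, by
      simpa using KM.base (F := F) h1 h.1 h.2.1 h.2.2⟩) P g hg).2

theorem Invt.km_of_prd (i : E.Invt F) (hS : IsPGroup p F.S) (hP : P ≤ F.S)
    (hg : g ∈ (prd p F E).aut P) (hc : (orderOf g).Coprime p) : KM p F E P g := by
  obtain ⟨s, h1, h2⟩ := i.km_prd (M_of_aut hP hg)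
  have h3 := FS.aut_le_nz _ _ hg
  have k : ∀ n : ℕ, KM p F E P ((s ^ n)⁻¹ * g ^ n) := fun n => by
    induction n with
    | zero => simpa using KM.one hP
    | succ n ih =>
      exact show (s ^ n)⁻¹ * (s⁻¹ * g) * (s ^ n)⁻¹⁻¹ * ((s ^ n)⁻¹ * g ^ n) =
        (s ^ (n + 1))⁻¹ * g ^ (n + 1) by rw [pow_succ' s, pow_succ' g]; group ▸
          ih.mul' (h2.conj_S i (inv_mem (pow_mem h1 n))) (by rw [cj_mul, cj_of_nz (pow_mem h3 n)])
  obtain ⟨m, hm⟩ := isPGroup_iff.1 hS s h1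
  have := k (p ^ m)
  rw [hm, inv_one, one_mul] at this
  exact km_of_ka hP (mem_of_pow_mem_coprime (this.mem_ka (pow_mem h3 _)) (hc.pow_right m))

theorem Invt.ao_of_prd (i : E.Invt F) (hS : IsPGroup p F.S) (hP : P ≤ F.S)
    (hg : g ∈ (prd p F E).aut P) (hc : (orderOf g).Coprime p) : g ∈ F.ao E P :=
  (i.km_of_prd hS hP hg hc).mem_ao i.sc (FS.aut_le_nz _ _ hg)

theorem Invt.sc_prd (i : E.Invt F) : (prd p F E).SC E.S := i.sc.of_le' prd_le i.S_le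

/-- The local system at `W`. -/
def lsys (p : ℕ) (F E : FS G) (W : Subgroup G) : FS G :=
  gen (F.S ⊓ nz W) fun Q g => W ≤ Q ∧ g ∈ nz W ∧ g ∈ F.ao E Q ∧ (orderOf g).Coprime p

theorem lsys_M (h1 : W ≤ Q) (h2 : Q ≤ F.S ⊓ nz W) (h3 : g ∈ nz W) (h4 : g ∈ F.ao E Q)
    (h5 : (orderOf g).Coprime p) : (lsys p F E W).M Q g :=
  gen_M_of ⟨h1, h3, h4, h5⟩ h2 ((cj_of_nz (ao_le_nz h4)).le.trans h2)

theorem lsys_le (hW : F.CenT E.S W) (hT : E.S ≤ F.S) : lsys p F E W ≤ prd p F E :=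
  gen_le inf_le_left fun _ _ h h1 _ => (KM.base (h1.trans inf_le_left)
    (hW.mono (le_inf h.1 hW.1) inf_le_right) h.2.2.1 h.2.2.2).prd_M hT

theorem lsys_le_NF (hW : W ≤ F.S) : lsys p F E W ≤ F.NF W :=
  gen_le (by simp) fun _ _ h h1 _ => normK_M_of hW le_rfl (h1.trans inf_le_right) h.2.1
    (by rw [sup_eq_left.2 h.1]; exact M_of_aut (h1.trans inf_le_left) h.2.2.1.1)

theorem Invt.lsys_M_cj (i : E.Invt F) (hσ : F.M Q σ) (h1 : W ≤ Q) (h2 : Q ≤ nz W) (h3 : g ∈ nz W)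
    (h4 : g ∈ F.ao E Q) (h5 : (orderOf g).Coprime p) :
    (lsys p F E (cj σ W)).M (cj σ Q) (σ * g * σ⁻¹) :=
  lsys_M (cj_mono h1) (cj_inf_nz_le hσ h2) (conj_mem_nz_cj h3) (i.cj_ao hσ ▸ conj_mem_cj_of h4)
    (by rwa [orderOf_conj'])

theorem LM.inf_le (l : LM p F E U L H) (hS : IsPGroup p F.S) : H ⊓ F.S ≤ E.S :=
  (l.mH.syl.eq_of_le (le_inf l.mH.le ((S_le (E.normK_le _ _)).trans l.sc.1)) inf_le_left
    (hS.to_le inf_le_right)).ge.trans (S_le (E.normK_le _ _))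

theorem LM.mem_ao' (l : LM p F E U L H) (hS : IsPGroup p F.S) (h1 : U ≤ P) (h2 : P ≤ F.S ⊓ nz U)
    (hg : g ∈ H) (h3 : g ∈ nz P) : g ∈ F.ao E P :=
  l.mem_ao h1 h2 hg (l.sc.aut_le (h2.trans inf_le_left) (l.mem_aut h2 (l.le hg) h3)) fun x hx =>
    have h4 := P.mul_mem (P.inv_mem hx) (conj_mem_of_nz h3 hx)
    le_ai_self _ ⟨h4, l.inf_le hS ⟨mem_of_eq (mul_mem (conj_mem_of_nz' (l.nor (l.NS_le (h2 hx))) hg)
      (inv_mem hg)) (by group), (h2 h4).1⟩⟩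

theorem NorIn.lsys_sat (h : NorIn p E F) (hr : Rich F.S) (hW : F.CenT E.S W)
    (hm : (prd p F E).Mx W) : (lsys p F E W).Sat p := by
  have i := h.wn.invt
  have hF := h.wn.satF
  have w := hW.1.trans i.S_le
  obtain ⟨φ, h1, h2⟩ := hF.exists_FN w
  obtain ⟨L, H, l⟩ := h.exists_LM hr (hW.cj i.sc (F.mono h1 (le_NS w))) h2
  have r1 : cj φ (F.S ⊓ nz W) ≤ F.S ⊓ nz (cj φ W) := cj_inf_nz_le h1 inf_le_right
  have r2 : E.S ⊓ nz (cj φ W) ≤ cj φ (F.S ⊓ nz W) := by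
    obtain ⟨k, k1, k2⟩ := i.exists_km hF h1
    have k3 := cj_mono (g := φ * k⁻¹) ((inf_le_inf_right _ i.S_le).trans (hm k (k1.prd_M i.S_le)))
    rw [cj_inf, cj_of_nz (i.sc.mem_nz k2 le_sup_right), cj_nz] at k3
    simpa [← cj_mul] using k3
  have r3 : cj φ (F.S ⊓ nz W) ≤ nz H := r1.trans (l.NS_le.trans l.nor)
  have r4 : IsPGroup p (cj φ (F.S ⊓ nz W)) := hF.pg_le (r1.trans inf_le_left)
  have r5 : Syl p (cj φ (F.S ⊓ nz W)) (H ⊔ cj φ (F.S ⊓ nz W)) := ⟨le_sup_right, r4, by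
    rw [sup_comm, relIndex_sup_of_nz' r3]
    exact nd_of_le_left l.mH.syl.nd (by rwa [normK_S])⟩
  have r6 := ofGroup_sat r5
  have r7 : H ⊔ cj φ (F.S ⊓ nz W) ≤ nz (cj φ W) :=
    sup_le (l.le.trans l.le_nz_U) (r1.trans inf_le_right)
  suffices FS.cjs φ (lsys p F E W) = ofGroup (cj φ (F.S ⊓ nz W)) (H ⊔ cj φ (F.S ⊓ nz W)) by
    rw [← this] at r6
    simpa using r6.cjs φ⁻¹
  refine le_antisymm (cjs_gen_le (S := F.S ⊓ nz W) le_rfl fun Q g q q5 q6 => ?_)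
    (r6.alperin_p' le_rfl fun P g hP hg hc => ?_)
  · obtain ⟨q1, q2, q3, q4⟩ := q
    have q7 := F.mono h1 q5
    replace q3 := i.cj_ao q7 ▸ conj_mem_cj_of (g := φ) q3
    rw [← orderOf_conj' φ] at q4
    have q8 := (cj_mono (g := φ) q5).trans r1
    obtain ⟨b, b1, b2, b3⟩ := l.exists_ao (cj_mono q1) q8 q3.2.2 (conj_mem_nz_cj q2)
      fun x hx => le_ai_self _ ((mem_trv.1 q3.2.1).2 x hx)
    obtain ⟨d, d1, d2, d3⟩ := exists_cop q4 (nz_le_nz_cz _ (trv_le_nz _ _ q3.2.1)) b3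
    obtain ⟨z, z1, -, z2⟩ := h.ao_unique hr (F.cj_le q7) (l.cen.mono (le_inf (cj_mono q1) l.cen.1)
      inf_le_right) q3 q4 (Subgroup.zpowers_le.2 b2 d1) d2 d3
    exact (ofGroup_M le_sup_right).2 ⟨cj_mono q5, by rw [cj_of_nz (ao_le_nz q3)]; exact cj_mono q5,
      _, conj_mem_cz (le_nz _ z1.1) z2, mem_of_eq (mul_mem (Subgroup.mem_sup_left
        (Subgroup.zpowers_le.2 b1 d1)) (inv_mem (Subgroup.mem_sup_right (cj_mono q5 z1.1))))
          (by group)⟩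
  · have q1 : P ≤ cj φ (F.S ⊓ nz W) := (r6.cent_of hP).1
    have q2 : cj φ W ≤ P := (ofGroup_nor le_sup_right (cj_mono (le_NS w)) r7).le_of_rad r4
      (r6.cent_of hP) (r6.rad_of hP)
    rw [ofGroup_aut le_sup_right q1] at hg
    obtain ⟨b, b1, b2, b3, b4⟩ := exists_cop_of_ai hg hc
    have b5 := l.mem_ao' hF.pg q2 (q1.trans r1) ((pmod_sup_left r4 r3).mem_of_cop b1 b3) b2
    have := i.lsys_M_cj (inv' h1 q1) q2 (q1.trans (r1.trans inf_le_right)) (r7 b1) b5 b3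
    rw [cj_inv_cj, inv_inv] at this
    simpa using FS.mul_cz (FS.cjs φ (lsys p F E W)) (P := P) (g := b) (cjs_M.2 this) (inv_mem b4)

theorem NorIn.prd_satAt (h : NorIn p E F) (hr : Rich F.S) (hP : P ≤ F.S)
    (hU : F.CenT E.S (P ⊓ E.S)) : (prd p F E).SatAt p P := by
  have i := h.wn.invt
  have hT := i.sc_prd (p := p)
  refine down_induction (S := E.S) (Φ := fun W => F.CenT E.S W → ∀ P, P ≤ F.S → P ⊓ E.S = W →
    (prd p F E).SatAt p P) (fun W hW ih hc P hP e => ?_) _ inf_le_right hU P hP rfl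
  obtain ⟨σ, s1, s2⟩ := (prd p F E).exists_mx W
  have s3 := FS.mono _ s1 (le_NS (hW.trans i.S_le))
  have s4 := hc.cj i.sc (prd_le _ _ s3)
  suffices k : _ ∧ _ from satAt_of_loc hT (h.lsys_sat hr s4 s2) rfl (lsys_le s4 i.S_le)
    (fun g hg => (NF_nor (s4.1.trans i.S_le)).sc.mem_nz (lsys_le_NF (s4.1.trans i.S_le) _ _ hg) le_rfl)
    k.1 k.2 hP (FS.inv _ s3) (by simpa using e)
  rcases hW.eq_or_lt with rfl | hlt
  · rw [cj_of_nz (hT.mem_nz s3 le_rfl)]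
    refine ⟨fun g hg => ⟨1, M_one inf_le_left, by rw [cj_one, cj_of_nz (hT.mem_nz hg le_rfl)]⟩,
      fun P g e hg _ => (gen_ind ((prd p F E).sub (fun P g => E.S ≤ P → (lsys p F E E.S).M P g)
        (fun _ hR k h => FS.mono _ (k (h.trans hR)) hR) (fun _ hc k h => FS.mul_cz _ (k h) hc)
        (fun hP hs _ => FS.inner _ (le_inf hP (hP.trans hT.S_le_nz)) ⟨hs, hT.S_le_nz hs⟩)
        (fun h1 _ k k' h => FS.mul _ (k h) (k' ((cj_of_nz (hT.mem_nz h1 h)).ge.trans (cj_mono h))))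
        (fun h1 k h => FS.inv _ (k (by
          simpa using (cj_of_nz (hT.mem_nz (FS.inv _ h1) h)).ge.trans (cj_mono h))))) rfl
        (fun P g h1 h2 => ⟨h2, fun h3 => lsys_M h3 (le_inf (Gen.le h2).1 ((Gen.le h2).1.trans
          hT.S_le_nz)) (hT.mem_nz h2 h3) h1.2.1 h1.2.2⟩) P g hg).2 (inf_eq_right.1 e)⟩
  refine Loc.main (X := fun V => F.CenT E.S V ∧ Nat.card V = Nat.card W) ⟨h.wn.satF.pg, hT,
    fun hV => lt_of_le_of_ne hV.1.1 fun e => (card_lt_of_lt hlt).ne' (e ▸ hV.2),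
    fun hV hg => ⟨hV.1.cj i.sc (prd_le _ _ hg), (card_cj _ _).trans hV.2⟩,
    fun hV h1 h2 h3 => have h4 := le_inf h1 hV.1.1
      ih _ inf_le_right (hV.2 ▸ card_lt_of_lt (lt_of_le_not_ge h4 h3)) (hV.1.mono h4 inf_le_right) _
        (h2.trans inf_le_left) rfl, fun _ => le_rfl,
    fun _ _ hσ => cjs_gen_le (cj_inf_nz_le (prd_le _ _ hσ) inf_le_right) fun Q g ⟨q1, q2, q3, q4⟩ q5 _ =>
      i.lsys_M_cj (prd_le _ _ (FS.mono _ hσ q5)) q1 (q5.trans inf_le_right) q2 q3 q4,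
    fun _ _ h1 h2 _ h4 h5 h6 => lsys_M h1 h2 h5
      (i.ao_of_prd h.wn.satF.pg (h2.trans inf_le_left) h4 h6) h6⟩ _ gen_ind
    (fun P' g P h1 h2 h3 _ h5 => ?_) ⟨s4, card_cj _ _⟩ s2
  have h6 := mem_ao_of_le (F := F) (Gen.le h2).1 h1.2.1 h3 (mem_nz_of_ao h1.2.1 h5 h3)
  have h7 := i.sc.le_NS (h3.trans (Gen.le h2).1)
  exact ⟨trv_le_nz _ _ h6.2.1, fun σ h8 _ => i.lsys_M_cj (prd_le _ _ (FS.mono _ h8 h7)) inf_le_left
    (h7.trans inf_le_right) (trv_le_nz _ _ h6.2.1) h6 h1.2.2⟩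

theorem NorIn.prd_sat (h : NorIn p E F) (hr : Rich F.S) : (prd p F E).Sat p := by
  have i := h.wn.invt
  refine sat_of_gen h.wn.satF.pg (fun P => F.CenT E.S (P ⊓ E.S)) (fun P g h1 hg =>
    i.sc.cj_inf (prd_le _ _ hg) ▸ h1.cj i.sc (F.mono (prd_le _ _ hg) inf_le_left))
    (fun P h1 hP => h.prd_satAt hr hP h1) (fun D e k => gen_ind D e fun P g h1 => k P g h1.1)
    fun P h1 h2 => ?_
  obtain ⟨g, g1, g2⟩ := h.wn.satF.exists_not_cz_le i.sc h1.1 h2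
  obtain ⟨k, k1, k2⟩ := i.exists_km h.wn.satF g1
  have k3 := k1.prd_M i.S_le
  obtain ⟨x, x1, x2, x3, x4⟩ := (i.sc_prd (p := p)).exists_opm h.wn.satF.pg (FS.cj_le _ k3) fun e => by
    have := cj_mono (g := g * k⁻¹) e
    rw [cj_inf, cj_cz, cj_inf, cj_of_nz (i.sc.mem_nz k2 le_sup_right), ← cj_mul] at this
    exact g2 (by simpa using this)
  exact ⟨k, k3, fun e => x3 (e ⟨i.S_le x1, x4⟩)⟩

theorem WN.le_prd (h : WN p E F) : E ≤ prd p F E :=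
  h.satE.alperin_p' h.invt.S_le fun P g hP hg hc =>
    have h1 := h.satE.cent_of hP
    (KM.base (h1.1.trans h.invt.S_le) (by rw [inf_eq_left.2 h1.1]; exact h.invt.cenT_iff.2 h1)
      (by rwa [ao_of_le h.invt.le h1.1]) hc).prd_M h.invt.S_le

theorem WN.ppi_prd (h : WN p E F) : E.PPI (prd p F E) p :=
  ⟨h.le_prd, hyp_le_of_coprime fun _ hP _ hg hc => (h.invt.km_of_prd h.satF.pg hP hg hc).triv h.invt.sc,
    fun _ hP => pres_le_iff.2 fun _ hg hc => ao_of_le h.invt.le hP ▸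
      h.invt.ao_of_prd h.satF.pg (hP.trans h.invt.S_le) hg hc⟩

theorem NorIn.norIn_prd (h : NorIn p E F) (hr : Rich F.S) : NorIn p E (prd p F E) :=
  h.wn.ppi_prd.norIn (h.prd_sat hr) h.wn.satE h.wn.invt.sc.S_le_nz

theorem PPI.mem_ao (h : E.PPI D p) (hT : D.SC E.S) (hP : P ≤ D.S) (hg : g ∈ D.aut P)
    (hc : (orderOf g).Coprime p) : g ∈ D.ao E P :=
  have h1 := hT.aut_le hP hg
  ⟨hg, mem_trv.2 ⟨h1, fun x hx => ⟨P.mul_mem (P.inv_mem hx) (conj_mem_of_nz (D.aut_le_nz P hg) hx),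
    h.2.1 (mem_hyp hP (mem_pres hg hc) hx)⟩⟩,
    h.2.2 _ inf_le_right (mem_pres (aut_restrict hP hg inf_le_left h1) hc)⟩

theorem NorIn.ppi_le (h : NorIn p E F) (hr : Rich F.S) {D' : FS G} (hD : D.Sat p) (hle : D ≤ F)
    (h1 : E.PPI D p) (h2 : NorIn p E D') (hle' : D' ≤ F) (hS : D.S ≤ D'.S) : D ≤ D' := by
  have i := h.wn.invt.of_le hD h1.1 hle
  refine hD.alperin_p' hS fun P g hP hg hc => ?_
  have h3 := hD.cent_of hP
  exact (KM.base (h3.1.trans (S_le hle)) (h.wn.invt.cenT_iff.2 (i.cenT_iff.1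
    (hD.cenT_inf i.sc h3 (hD.rad_of hP)))) (ao_mono hle (h1.mem_ao i.sc h3.1 hg hc)) hc).M_sub h hr
      h2 hle' (h3.1.trans hS)

theorem NorIn.exists_prod (h : NorIn p E F) (hr : Rich F.S) (h1 : E.S ≤ R) (h2 : R ≤ F.S) :
    ∃ D : FS G, D.S = R ∧ D.Sat p ∧ D ≤ F ∧ E.PPI D p ∧ D.PPI (prd p F E) p := by
  have k := h.wn.ppi_prd
  obtain ⟨D, d1, d2, d3⟩ := (h.prd_sat hr).exists_ppi (k.2.1.trans h1) h2
  exact ⟨D, d1, d2, d3.1.trans prd_le, ⟨d3.le_of h.wn.satE k.1 (d1 ▸ h1),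
    (hyp_mono d3.1).trans k.2.1, fun P hP => (pres_mono (aut_mono d3.1 P)).trans (k.2.2 P hP)⟩, d3⟩

/-- The normalizer of a subgroup in a normal subsystem. -/
theorem NorIn.exists_NE (h : NorIn p E F) (hr : Rich F.S) (hX : F.FN X) :
    ∃ D, NorIn p D (F.NF X) ∧ D.S = E.S ⊓ nz X ∧ D ≤ E := by
  have i := h.wn.invt
  have hF := h.wn.satF
  have hP := h.prd_sat hr
  have k := h.wn.ppi_prd
  have hN := hP.NF (hF.fn_of_sc prd_le F.sc_S hX.1 hX)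
  have l1 : (prd p F E).NF X ≤ F.NF X := normK_mono prd_le hX.1 le_rfl
  have s1 : (F.NF X).SC (E.S ⊓ nz X) := by
    simpa only [normK_S, inf_right_comm F.S, inf_eq_right.2 i.S_le] using
      i.sc.of_le (F.normK_le X (nz X))
  obtain ⟨D, d1, d2, d3⟩ := hN.exists_ppi (T := E.S ⊓ nz X) (le_inf
    ((hyp_mono (normK_le _ _ _)).trans k.2.1) ((hyp_le _ _).trans (by simp)))
    (by rw [normK_S]; exact inf_le_inf_right _ i.S_le)
  have d4 := d3.norIn hN d2 (by simpa only [normK_S, d1, prd_S] using s1.S_le_nz)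
  have d5 := d3.1.trans l1
  have m : ∀ P g, P ≤ nz X → g ∈ nz X → KM p F E (P ⊔ X) g → ((prd p F E).NF X).M P g :=
    fun P g h1 h2 h3 => normK_M_of hX.1 le_rfl h1 h2 (h3.prd_M i.S_le)
  refine ⟨D, ⟨⟨d2, hF.NF hX, (hF.NF hX).invt_of_pres d5 (d1 ▸ s1) (fun a ha => ?_)
    fun U h1 h2 => ?_⟩, fun a ha => ?_⟩, d1,
    k.le_of d2 (d3.1.trans (normK_le _ _ _)) (d1.le.trans inf_le_left)⟩
  · have a1 := FS.aut_le_nz _ _ ha
    obtain ⟨-, c, c1, c2, c3⟩ := (NF_M hX.1).1 (M_of_aut (S_le d5) ha)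
    rw [← cjs_congr (F := D) (b := a * c) (by simpa using c1), cjs_le_iff']
    have a2 := mul_mem a1 (cz_le_nz _ c1)
    refine d2.alperin_p' (by rw [cjs_S, cj_of_nz (inv_mem a2)]) fun P g hP hg hc => cjs_inv_M.2 ?_
    have h1 := (d2.cent_of hP).1
    have h2 := FS.aut_le_nz _ _ hg
    obtain ⟨h3, e, e1, e2, e3⟩ := (NF_M (F := prd p F E) hX.1).1 (d3.1 _ _ (M_of_aut h1 hg))
    obtain ⟨b, b1, b2, b3⟩ := exists_cop (g := g * e) hc (nz_le_nz_cz _ h2) (by simpa using e1)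
    have b4 := Subgroup.zpowers_le.2 (mul_mem h2 (cz_le_nz _ e1)) b1
    have b5 := Subgroup.zpowers_le.2 e2 b1
    have b6 := (i.km_of_prd hF.pg (Gen.le e3).1 (Subgroup.zpowers_le.2 (mem_aut_of e3
      (mem_nz_sup (mul_mem h2 (cz_le_nz _ e1)) e2)) b1) b2).strong i hF c3 (sup_le_sup_right h1 _)
        (by rw [cj_of_nz (mem_nz_sup b4 b5)]; exact sup_le_sup_right h1 _)
    rw [cj_sup, cj_of_nz c2] at b6
    have h4 : cj (a * c) P ≤ D.S := (cj_mono h1).trans (cj_of_nz a2).le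
    exact congr' (M_of_aut h4 (d3.2.2 _ h4 (mem_pres (mem_aut_of (m _ _ (h4.trans (d1.le.trans
      inf_le_right)) (mul_mem (mul_mem c2 b5) (inv_mem c2)) b6) (conj_mem_nz_cj b4))
        (by rwa [orderOf_conj'])))) (mem_of_eq (conj_mem_cz_cj (g := a * c) (inv_mem b3)) (by group))
  · have u1 : U ≤ F.S ⊓ nz X := by simpa using h2.1
    have u2 := sup_le (u1.trans inf_le_left) hX.1
    refine ⟨(ka p F E (U ⊔ X) ⊓ (nz X ⊓ nz U)) ⊔ cz U, le_sup_right, ?_, ?_, ?_,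
      le_trans (pres_mono (sup_le (fun g hg => mem_aut_of (m _ _ (u1.trans inf_le_right) hg.2.1
        (km_of_ka u2 hg.1)) hg.2.2) (cz_le_aut _ _))) (d3.2.2 U h1.1)⟩
    · rw [normK_aut hX.1 le_rfl u1]
      exact sup_le_sup_right (inf_le_inf_right _ ((ka_le_ao i.sc).trans ao_le)) _
    · rw [normK_aut hX.1 le_rfl u1]
      exact sup_le (fun g hg => mem_nz_sup (mem_nz_inf (i.le_nz_ka hF u2 hg.1) (mem_nz_inf
        (mem_nz_nz hg.2.1) (mem_nz_nz hg.2.2))) (nz_le_nz_cz _ hg.2.2)) (le_sup_right.trans (le_nz _))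
    · rw [d1]
      exact fun x hx => Subgroup.mem_sup_left ⟨NT_le_ka u2 ⟨hx.1.1, mem_nz_sup hx.2 hx.1.2⟩,
        hx.1.2, hx.2⟩
  · obtain ⟨c, c1, c2, c3⟩ := d4.extc a ha
    simp only [normK_S, prd_S] at c2 c3 ⊢
    exact ⟨c, c1, aut_mono l1 _ c2, c3⟩

end FS

end Cfsg.Agent.Fusion
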