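import Cfsg.Agent.Fusion.Prd
import Cfsg.Agent.Fusion.WC

/-! Consequences of the product construction. -/

set_option autoImplicit false
set_option linter.unusedSectionVars false

namespace Cfsg.Agent.Fusion

open scoped IsMulCommutative in
theorem exists_trace_elt {G : Type*} [Group G] [Finite G] {V A Y W : Subgroup G} {x : G}
    (hV : V ≤ cz V) (hA : A ≤ nz V) (hx : x ∈ V ⊓ cz Y) (h : ∀ a ∈ A, x⁻¹ * (a * x * a⁻¹) ∈ W) :
    ∃ y ∈ V ⊓ cz A, ∃ w ∈ W, y = x ^ Y.relIndex A * w := by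
  haveI := isMulCommutative_iff_le_cz.2 hV
  haveI : Fintype (A ⧸ Y.subgroupOf A) := Fintype.ofFinite _
  let c : A →* MulAut V := V.normalizerMonoidHom.comp (Subgroup.inclusion hA)
  have hc : ∀ a v, (c a v : G) = a * v * (a : G)⁻¹ := fun _ _ => rfl
  let z : V := ⟨x, hx.1⟩
  let t : V := ∏ q : A ⧸ Y.subgroupOf A, c q.out z
  refine ⟨t, ⟨t.2, mem_cz.2 fun a ha => ?_⟩, (∏ q : A ⧸ Y.subgroupOf A, (z⁻¹ * c q.out z) : V),
    (Subgroup.mem_subgroupOf (H := W)).1 (prod_mem fun q _ => h _ q.out.2), ?_⟩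
  · have : c ⟨a, ha⟩ t = t := by
      rw [map_prod]
      refine Fintype.prod_equiv (MulAction.toPerm (⟨a, ha⟩ : A)) _ _ fun q => ?_
      obtain ⟨s, hs, e⟩ := Glaub.out_smul (⟨a, ha⟩ : A) q
      rw [MulAction.toPerm_apply, e, map_mul, map_mul, MulAut.mul_apply, MulAut.mul_apply,
        show c s z = z from Subtype.ext (by
          rw [hc, mul_inv_eq_iff_eq_mul]; exact mem_cz.1 hx.2 _ hs)]
    have h1 := congrArg Subtype.val this
    rwa [hc, mul_inv_eq_iff_eq_mul] at h1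
  · rw [Finset.prod_mul_distrib, Finset.prod_const, Finset.card_univ, ← Nat.card_eq_fintype_card]
    show _ = x ^ Y.relIndex A * (x⁻¹ ^ Y.relIndex A * t)
    rw [inv_pow, mul_inv_cancel_left]

namespace FS

universe u

variable {G : Type u} [Group G] [Finite G] {F E D A : FS G} {P Q R T U V W X Y H L N : Subgroup G}
  {a b c g h k s x σ : G} {p : ℕ} [hp : Fact p.Prime]

theorem NorIn.pres (h : NorIn p E F) (hr : Rich F.S) (hA : E.PRes p A) : NorIn p A F :=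
  (hA.norIn h.wn.satE).trans' h hr fun _ ha => (hA.cjs_eq (h.wn.invt.cjs_eq ha)).le

theorem NorIn.qres (h : NorIn p E F) (hr : Rich F.S) (hA : E.QRes p A) : NorIn p A F :=
  (hA.norIn h.wn.satE).trans' h hr fun _ ha => (hA.cjs_eq (h.wn.invt.cjs_eq ha)).le

theorem NorIn.prod_unique (h : NorIn p A F) (hr : Rich F.S) {D' : FS G} (hD : D.Sat p)
    (hD' : D'.Sat p) (h1 : D ≤ F) (h2 : D' ≤ F) (e : D'.S = D.S) (h3 : D.PRes p A)
    (h4 : D'.PRes p A) : D' = D :=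
  le_antisymm (h.ppi_le hr hD' h2 h4.2.2 (h3.norIn hD) h1 e.le)
    (h.ppi_le hr hD h1 h3.2.2 (h4.norIn hD') h2 e.ge)

theorem NorIn.cz_le_of_odd (h : NorIn p E F) (hr : Rich F.S) (hp2 : p ≠ 2) (hc : F.cse E ≤ E.S) :
    F.S ⊓ cz E.S ≤ E.S := fun x hx => by
  have x1 := Subgroup.zpowers_le.2 hx
  obtain ⟨D, d1, d2, d3, d4, -⟩ := h.exists_prod hr (R := E.S ⊔ Subgroup.zpowers x) le_sup_left
    (sup_le h.wn.invt.S_le (x1.trans inf_le_left))
  have x2 : Subgroup.zpowers x ≤ cz (Subgroup.zpowers x) :=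
    isMulCommutative_iff_le_cz.1 inferInstance
  have x3 : x ∈ D.S ⊓ cz D.S := by
    rw [d1, cz_sup]
    exact ⟨Subgroup.mem_sup_right (Subgroup.mem_zpowers x), hx.2, x2 (Subgroup.mem_zpowers x)⟩
  have f : D.foc ≤ E.S := by
    rw [d2.foc_eq, d1]
    exact sup_le d4.2.1 (comm_sup_self_le (x1.trans (inf_le_right.trans (cz_le_nz _)))
      ((comm_eq_bot_iff.2 x2).le.trans bot_le))
  have j1 : PLocal.jn 0 D.S ≤ D.S := PLocal.jn_le _
  have j2 := center_le_jn D.S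
  have j3 := FN.of_normal j1 ((le_nz _).trans (PLocal.normalizer_le_normalizer_jn 0 _))
  obtain ⟨y, y1, w, w1, y2⟩ := exists_trace_elt (V := PLocal.jn 0 D.S ⊓ cz (PLocal.jn 0 D.S))
    (A := D.aut (PLocal.jn 0 D.S)) (Y := ai D.S (PLocal.jn 0 D.S)) (x := x)
    (inf_le_right.trans (cz_anti inf_le_left))
    (fun a ha => mem_nz_inf (D.aut_le_nz _ ha) (D.aut_le_nz_cz _ ha))
    ⟨⟨j2 x3, cz_anti j1 x3.2⟩, by
      rw [ai_eq, cz_sup]
      exact ⟨cz_anti inf_le_left x3.2, le_cz_comm.1 le_rfl (j2 x3)⟩⟩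
    fun a ha => f (mem_foc (M_of_aut j1 ha) (j2 x3))
  rw [← NF_aut j1, ← (NF_nor j1).center_eq (by
    rw [d2.center_NF_jn (hr.mono (S_le d3)) hp2]; exact D.cen_center.le_Z.trans j2),
    d2.center_NF_jn (hr.mono (S_le d3)) hp2] at y1
  have y3 := hc (le_cse (D.center_le.trans (S_le d3)) (d4.1.trans (D.cen_center.le_CF d3)) y1)
  obtain ⟨k, hk⟩ := isPGroup_iff.1 h.wn.satF.pg x hx.1
  exact mem_of_pow_mem_coprime ((mul_mem_cancel_right w1).1 (y2 ▸ y3))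
    (coprime_of_pow_eq_one hk (d2.fa j3).2)

end FS

end Cfsg.Agent.Fusion
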