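import Cfsg.Agent.Fusion.CQ
import Cfsg.Agent.Fusion.Prd2

/-! Quasisimple systems, components and the layer. -/

set_option autoImplicit false
set_option linter.unusedSectionVars false

namespace Cfsg.Agent.Fusion

universe u v

theorem inf_cz_ne_bot {G : Type*} [Group G] [Finite G] {p : ℕ} [Fact p.Prime] {N U : Subgroup G}
    (hN : IsPGroup p N) (h1 : U ≤ N) (h2 : N ≤ nz U) (h0 : U ≠ ⊥) : U ⊓ cz N ≠ ⊥ := by
  obtain ⟨n, c, c0, c1, -, -, c2⟩ := exists_char_central_series hN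
  obtain ⟨i, k1, k2⟩ := exists_step (R := ⊥) (fun i => U ⊓ c i) (by simp [c0])
    (by simpa [c1, inf_eq_left.2 h1] using h0)
  refine fun e => k2 (e ▸ le_inf inf_le_left (comm_eq_bot_iff.1 (eq_bot_iff.2 (le_trans ?_ k1))))
  exact le_inf ((Subgroup.commutator_mono inf_le_left le_rfl).trans (comm_le_left h2))
    ((Subgroup.commutator_mono inf_le_right le_rfl).trans (c2 i))

namespace FS

variable {G : Type u} {G' : Type v} [Group G] [Group G'] [Finite G] [Finite G'] {U₀ : Subgroup G}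
  {θ : U₀ →* G'} {p : ℕ} [hp : Fact p.Prime] {P Q R T U V W X Y : Subgroup G}
  {a g h x : G} {F D E N C K L B : FS G} {F' C' : FS G'}

/-- Quasisimple systems. -/
structure QS (p : ℕ) (C : FS G) : Prop where
  sat : C.Sat p
  hyp_eq : C.hyp p = C.S
  not_le : ¬ C.S ≤ C.center
  nor : ∀ N, NorIn p N C → N.S ≤ C.center ∨ N = C

theorem CQ.qs_of_simple (q : CQ θ C C') (hz : C.S ⊓ pre θ ⊥ = C.center) (hC : C.Sat p)
    (hh : C.hyp p = C.S) (hr : Rich C.S) (hf : Full C'.S) (hs : C'.Simple p) : QS p C := by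
  refine ⟨hC, hh, fun h => hs.2.1 ?_, fun N h => ?_⟩
  · rw [q.S_eq, im_eq_bot_iff q.le]
    exact (h.trans hz.ge).trans inf_le_right
  obtain ⟨N', q', h'⟩ := q.norIn_im h hr hf
  have i := h.wn.invt
  refine (hs.2.2 N' h').imp (fun e => hz ▸ le_inf i.S_le ?_) fun e => ?_
  · rwa [q'.S_eq, im_eq_bot_iff q'.le] at e
  subst e
  have h1 : N.S = C.S := by
    refine le_antisymm i.S_le ((hC.foc_eq_S hh).ge.trans (foc_le_iff.2 fun P g hg x hx => ?_))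
    have k0 := C.le_S hg hx
    obtain ⟨t, ht, e⟩ := q'.lift_mem (q.mem_S k0)
    have k1 : t⁻¹ * x ∈ C.S ⊓ pre θ ⊥ := ⟨C.S.mul_mem (C.S.inv_mem (i.S_le ht)) k0,
      (fn_eq_iff (q'.le ht) (q.le k0)).1 e⟩
    obtain ⟨c, k2, k3, k4⟩ := q.cen.2 P g hg
    have k5 : t ∈ P ⊔ (C.S ⊓ pre θ ⊥) := mem_of_eq (mul_mem (Subgroup.mem_sup_left hx)
      (Subgroup.mem_sup_right (inv_mem k1))) (by group)
    have k6 := mul_mem (inv_mem ht) (i.sc.conj_mem k3 k5 ht)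
    refine mem_of_eq (conj_mem_of_nz' (i.sc.S_le_nz k1.1) k6) ?_
    rw [← conj_mul_cz k2 hx]
    calc _ = x⁻¹ * (g * c * t * (g * c)⁻¹ * (t⁻¹ * x)) := by group
      _ = _ := by rw [← conj_eq_of_cz k4 k1]; group
  refine i.same_of_aut h1 fun g hg => ?_
  obtain ⟨g', k1, e⟩ := q.fwd (M_of_aut le_rfl hg)
  rw [← h1] at k1 e hg ⊢
  obtain ⟨k, k2, e'⟩ := q'.bwd'' le_rfl k1
  have k3 := mem_aut_S.2 k2
  have k4 := mul_mem (inv_mem (aut_mono i.le _ k3)) hg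
  have k5 := FS.stab_le_opm (p := p) hC.pg.to_inf_left.to_inf_right (q.cen.nor.sc.aut_le i.S_le)
    (q.mem_stab (M_of_aut i.S_le k4) (C.aut_le_nz _ k4) ((e.mul e'.inv (by
      rw [cj_of_nz (C.aut_le_nz _ hg), cj_of_nz (N.aut_le_nz _ k3)])).one_of_cz (by simp)))
  rw [h1, hC.rad_S.2, ← h1] at k5
  exact mem_of_eq (mul_mem k3 (aiS_le_aut le_rfl k5)) (by group)

theorem CQ.simple_of_qs (q : CQ θ C C') (hz : C.S ⊓ pre θ ⊥ = C.center) (hr : Rich C'.S)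
    (h : QS p C) : C'.Simple p := by
  have hC' := q.sat h.sat
  refine ⟨hC', fun e => h.not_le (hz ▸ le_inf le_rfl ?_), fun N' h' => ?_⟩
  · rwa [q.S_eq, im_eq_bot_iff q.le] at e
  obtain ⟨N, k1, k2, k3⟩ := q.exists_pre h.sat h' hr
  have i := h'.wn.invt
  refine (h.nor N k1).imp (fun e => ?_) fun e => ?_
  · rw [← q.im_pre i.S_le, im_eq_bot_iff (q.leU inf_le_left), ← k2]
    exact (e.trans hz.ge).trans inf_le_right
  subst e
  have k4 : N'.S = C'.S := by rw [← q.im_pre i.S_le, ← k2, q.S_eq]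
  refine i.same_of_aut k4 (hC'.aut_S_le ?_ (k4 ▸ N'.cz_le_aut _) fun g' hg' hc => ?_)
  · rw [← k4]; exact (le_ai_self _).trans (aiS_le_aut le_rfl)
  rw [q.S_eq] at hg'
  obtain ⟨g₀, l1, e₀⟩ := q.bwd_aut le_rfl inf_le_left hg'
  obtain ⟨g, l2, l3, e⟩ := e₀.cop_left (N.aut_le_nz _ l1) hc
  rw [← k4]
  exact mem_of_pa q.le (by rw [← q.S_eq, ← k4]; exact N'.cz_le_aut _)
    (k3 g ((Subgroup.zpowers_le.2 l1) l2) l3) e

theorem QS.foc_eq (h : QS p C) : C.foc = C.S := h.sat.foc_eq_S h.hyp_eq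

theorem QS.cjs (h : QS p C) (a : G) : QS p (cjs a C) := by
  refine ⟨h.sat.cjs a, by rw [cjs_hyp, h.hyp_eq]; rfl, fun k => h.not_le ?_, fun N k => ?_⟩
  · rw [cjs_center] at k
    simpa using cj_mono (g := a⁻¹) k
  have := k.cjs a⁻¹
  rw [← cjs_mul, inv_mul_cancel, cjs_one] at this
  refine (h.nor _ this).imp (fun e => ?_) fun e => ?_
  · rw [cjs_center]; exact le_cj_iff.2 e
  · rw [← e, ← cjs_mul, mul_inv_cancel, cjs_one]

theorem inn_con (hQ : IsPGroup p Q) : (inn Q).Con p :=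
  (inn_sat hQ).con_of (nor_S_inn Q) inf_le_left

theorem QS.not_con (h : QS p C) : ¬ C.Con p := fun k => by
  rcases h.nor _ (C.nor_core.norIn h.sat) with e | e
  · exact h.not_le ((le_inf le_rfl (C.cen_center.S_le_cz.trans (cz_anti e))).trans
      ((con_iff.1 k).2.trans e))
  · exact h.not_le (by rw [← h.hyp_eq, ← e, hyp_inn (h.sat.pg.to_le C.core_le)]; exact bot_le)

theorem QS.not_le_cz (h : QS p C) : ¬ C.S ≤ cz C.S := fun k =>
  h.not_con (h.sat.con_of (h.sat.nor_S_of_abelian k) inf_le_left)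

theorem QS.le_pres (h : QS p C) (hle : C ≤ F) (hB : F.PRes p B) : C ≤ B :=
  hB.2.2.le_of h.sat hle (by rw [hB.1, ← h.hyp_eq]; exact hyp_mono hle)

theorem Sat.cen_of_le_CF (hE : E.Sat p) (h : E ≤ F.CF X) (hX : X ≤ F.S) (h1 : R ≤ E.S)
    (h2 : R ≤ X) : E.Cen R := hE.cen_of_forall h1 fun P g hg x hx hx' => by
  obtain ⟨-, c, k1, k2, -⟩ := (CF_M hX).1 (h _ _ hg)
  rw [← conj_mul_cz k1 hx, conj_eq_of_cz k2 (h2 hx')]

theorem NorIn.pres_CF (h : NorIn p E F) (hr : Rich F.S) (hB : (F.CF E.S).PRes p B) :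
    NorIn p B F := by
  obtain ⟨D, -, h1, h2⟩ := h.exists_CE hr
  obtain ⟨A, h3⟩ := h1.wn.satE.exists_pres
  have hF := h.wn.satF
  rw [(h2.pres (hF.CF (hF.fc h.wn.invt.sc.fn)) h3).unique hB]
  exact h1.pres hr h3

/-- Components. -/
structure Comp (p : ℕ) (C F : FS G) : Prop where
  sub : SubN p C F
  qs : QS p C

theorem Comp.le (h : Comp p C F) : C ≤ F := h.sub.le

theorem Comp.S_le (h : Comp p C F) : C.S ≤ F.S := FS.S_le h.le

theorem Comp.up (h : Comp p C E) (h' : SubN p E F) : Comp p C F := ⟨h.sub.trans h', h.qs⟩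

theorem Comp.cjs (h : Comp p C F) (a : G) : Comp p (cjs a C) (cjs a F) := ⟨h.sub.cjs a, h.qs.cjs a⟩

theorem Comp.not_con (h : Comp p C F) : ¬ F.Con p := fun k => h.qs.not_con (k.subN h.sub)

theorem Comp.down (h : Comp p C F) (hE : NorIn p E F) (hr : Rich F.S) (hS : C.S ≤ E.S) :
    Comp p C E := by
  obtain ⟨W, w1, w2, w3⟩ := h.sub.exists_wedge hE hr
  rw [inf_eq_left.2 hS] at w3
  exact ⟨((h.qs.nor W w1).resolve_left (w3 ▸ h.qs.not_le)) ▸ w2, h.qs⟩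

theorem SubN.cj_M (h : SubN p C F) (ha : F.M C.S a) : SubN p (FS.cjs a C) F := by
  induction h generalizing a with
  | refl => rw [cjs_of_aut ha]; exact SubN.refl _
  | step h1 h2 ih =>
    obtain ⟨b, hb, k⟩ := h2.wn.invt.frat _ _ (S_le h1.le) ha
    have := (ih k).cjs b
    rw [← cjs_mul, mul_inv_cancel_left, h2.wn.invt.cjs_eq hb] at this
    exact this.step h2

theorem Comp.cj_M (h : Comp p C F) (ha : F.M C.S a) : Comp p (FS.cjs a C) F :=
  ⟨h.sub.cj_M ha, h.qs.cjs a⟩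

theorem Invt.cjs_eq_of_le (h : E.Invt F) (hle : E.S ≤ R) (hR : R ≤ F.S) (ha : a ∈ F.aut R) :
    FS.cjs a E = E :=
  h.cjs_eq (aut_restrict hR ha hle (h.sc.mem_nz (M_of_aut hR ha) hle))

theorem Comp.dich (h : Comp p C F) (hE : NorIn p E F) (hr : Rich F.S) :
    Comp p C E ∨ C ≤ F.CF E.S := by
  obtain ⟨h, hq⟩ := h
  induction h generalizing E with
  | refl => exact (hq.nor E hE).symm.imp (fun e => by rw [e]; exact ⟨SubN.refl _, hq⟩) fun e =>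
      (cen_iff_le_CF hE.wn.invt.S_le).1 (cen_iff_le.2 e)
  | @step D F h1 h2 ih =>
    obtain ⟨W, w1, w2, w3, w4, -⟩ := h2.exists_wedge hE hr
    have hr' := hr.mono h2.wn.invt.S_le
    refine (ih w3 hr').imp (fun k => k.up w4.subN) fun k => ?_
    have hD := h2.wn.satE
    obtain ⟨B, hB⟩ := (hD.CF (hD.fc w3.wn.invt.sc.fn)).exists_pres
    have k1 : NorIn p B F := (w3.pres_CF hr' hB).trans' h2 hr fun a ha => (hB.cjs_eq (by
      rw [cjs_CF a w3.wn.invt.S_le, h2.wn.invt.cjs_eq ha, cj_of_nz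
        (w1.wn.invt.sc.mem_nz (M_of_aut h2.wn.invt.S_le ha) w3.wn.invt.S_le)])).le
    refine (hq.le_pres k hB).trans (k1.le_CF_of_foc hr hE.wn.invt.sc
      (hB.2.1.cen_of_le_CF hB.2.2.1 w3.wn.invt.S_le inf_le_right ?_).le_center
      (hB.2.1.foc_eq_S (hB.hyp_eq (hD.CF (hD.fc w3.wn.invt.sc.fn)))))
    rw [w2, inf_comm]
    exact inf_le_inf_right _ (FS.S_le (hB.2.2.1.trans (D.normK_le _ _)))

theorem Comp.le_CF (h : Comp p C F) (hQ : F.Nor Q) (hF : F.Sat p) (hr : Rich F.S) :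
    C ≤ F.CF Q :=
  (h.dich (hQ.norIn hF) hr).resolve_left fun k => k.not_con (inn_con (hF.pg.to_le hQ.1))

theorem Comp.not_le (h : Comp p C F) (hQ : F.Nor Q) (hF : F.Sat p) (hr : Rich F.S) :
    ¬ C.S ≤ Q := fun k => (h.down (hQ.norIn hF) hr k).not_con (inn_con (hF.pg.to_le hQ.1))

theorem Sat.exists_comp (hF : F.Sat p) (h : ¬ F.Con p) : ∃ C, Comp p C F := by
  induction F using lt_ind with | h F ih => ?_
  by_cases h1 : ∃ N, NorIn p N F ∧ N ≠ F ∧ ¬ N.Con p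
  · obtain ⟨N, k1, k2, k3⟩ := h1
    obtain ⟨C, k4⟩ := ih N (lt_of_le_of_ne k1.wn.invt.le k2) k1.wn.satE k3
    exact ⟨C, k4.up k1.subN⟩
  push Not at h1
  have h2 : F.core ≤ F.center := by
    refine ((cen_iff_CF_eq F.core_le).2 (by_contra fun k => h (con_iff.2 ⟨hF, ?_⟩))).le_center
    have k1 := F.nor_core.norIn_CF hF
    have k2 := (hF.nor_core_of_invt k1.wn.invt).le_core
    refine (le_inf ?_ (inf_le_right.trans (cz_anti k2))).trans
      ((con_iff.1 (h1 _ k1 k)).2.trans k2)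
    rw [normK_S]
  have h3 : ∀ N, NorIn p N F → N.S ≤ F.center ∨ N = F := fun N k => or_iff_not_imp_right.2 fun e =>
    have k2 := (hF.nor_core_of_invt k.wn.invt).le_core.trans h2
    (le_inf le_rfl (k.wn.invt.S_le.trans (F.cen_center.S_le_cz.trans (cz_anti k2)))).trans
      ((con_iff.1 (h1 _ k e)).2.trans k2)
  refine ⟨F, SubN.refl F, hF, ?_, fun k => h (hF.con_of (F.cen_center.of_le k).nor inf_le_left), h3⟩
  obtain ⟨B, hB⟩ := hF.exists_pres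
  refine (h3 B (hB.norIn hF)).elim (fun k => (h ?_).elim) fun k => by rw [← hB.1, k]
  have k1 : F.hyp p = ⊥ := by
    rw [← hB.1, ← hB.hyp_eq hF, eq_bot_iff]
    refine (B.hyp_le_foc p).trans (foc_le_iff.2 fun P g hg x hx => ?_)
    rw [F.cen_center.conj_eq (hB.2.2.1 _ _ hg) hx (k (B.le_S hg hx))]
    simp
  rw [hF.isinn_of_hyp k1]
  exact inn_con hF.pg

/-- The layer. -/
structure Lay (p : ℕ) (L F : FS G) : Prop where
  nor : NorIn p L F
  le : ∀ C, Comp p C F → C ≤ L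
  min : ∀ D, NorIn p D F → (∀ C, Comp p C F → C ≤ D) → L ≤ D

theorem Lay.unique (h : Lay p L F) (h' : Lay p K F) : K = L :=
  le_antisymm (h'.min _ h.nor h.le) (h.min _ h'.nor h'.le)

theorem Lay.min' (h : Lay p L F) (hr : Rich F.S) (hD : NorIn p D F)
    (k : ∀ C, Comp p C F → C.S ≤ D.S) : L ≤ D :=
  h.min D hD fun C hC => (hC.down hD hr (k C hC)).le

theorem Sat.exists_lay (hF : F.Sat p) (hr : Rich F.S) : ∃ L, Lay p L F := by
  obtain ⟨L, ⟨h1, h2⟩, h3⟩ := (Finite.to_wellFoundedLT (α := FS G)).wf.has_min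
    {L | NorIn p L F ∧ ∀ C, Comp p C F → C ≤ L} ⟨F, hF.norIn_self, fun _ h => h.le⟩
  refine ⟨L, h1, h2, fun D k1 k2 => ?_⟩
  obtain ⟨W, w1, w2, w3, w4, -⟩ := h1.exists_wedge k1 hr
  rw [← w3.wn.invt.le.eq_of_not_lt (h3 W ⟨w1, fun C hC => (hC.down w1 hr
    (w2 ▸ le_inf (S_le (h2 C hC)) (S_le (k2 C hC)))).le⟩)]
  exact w4.wn.invt.le

theorem Lay.cjs (h : Lay p L F) (a : G) : Lay p (cjs a L) (cjs a F) := by
  refine ⟨h.nor.cjs a, fun C hC => ?_, fun D hD k => ?_⟩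
  · have := hC.cjs a⁻¹
    rw [← cjs_mul, inv_mul_cancel, cjs_one] at this
    simpa using cjs_le_iff'.1 (h.le _ this)
  · have := hD.cjs a⁻¹
    rw [← cjs_mul, inv_mul_cancel, cjs_one] at this
    exact cjs_le_iff'.2 (h.min _ this fun C hC => cjs_le_iff'.1 (k _ (hC.cjs a)))

theorem Lay.cjs_eq (h : Lay p L F) (ha : FS.cjs a F = F) : FS.cjs a L = L :=
  h.unique (ha ▸ h.cjs a)

theorem Lay.norIn (h : Lay p L E) (hE : NorIn p E F) (hr : Rich F.S) : NorIn p L F :=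
  h.nor.trans' hE hr fun _ ha => (h.cjs_eq (hE.wn.invt.cjs_eq ha)).le

theorem Lay.le_CF (h : Lay p L F) (hQ : F.Nor Q) (hr : Rich F.S) : L ≤ F.CF Q :=
  h.min _ (hQ.norIn_CF h.nor.wn.satF) fun _ hC => hC.le_CF hQ h.nor.wn.satF hr

theorem Con.lay (h : F.Con p) : Lay p (inn ⊥) F :=
  ⟨F.nor_bot.norIn h.1, fun _ hC => (hC.not_con h).elim, fun _ _ _ => inn_le bot_le⟩

theorem FC.cjs_CF (hQ : F.FC Q) (h : F.M (Q ⊔ (F.S ⊓ cz Q)) a) :
    FS.cjs a (F.CF Q) = F.CF (cj a Q) := by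
  refine le_antisymm (CF_cjs hQ.1 (by rwa [normK_S]) le_rfl) ?_
  have h1 := F.mono h le_sup_left
  have := CF_cjs (a := a⁻¹) (F.cj_le h1) (by
    rw [normK_S, ← hQ.cj_CS h1 (F.mono h le_sup_right), ← cj_sup]; exact F.inv h) le_rfl
  rw [cj_inv_cj, cjs_le_iff', inv_inv] at this
  exact this

theorem CF_CF (h1 : X ≤ U) (h2 : U ≤ F.S ⊓ cz X) : (F.CF X).CF U = F.CF U := by
  have hU := h2.trans inf_le_left
  have hX := h1.trans hU
  refine le_antisymm (normK_mono (F.normK_le _ _) (by rwa [normK_S]) (cz_le_nz _)) fun P g hg => ?_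
  obtain ⟨k1, c, k2, k3, k4⟩ := (CF_M hU).1 hg
  refine (CF_M (by rwa [normK_S])).2 ⟨?_, c, k2, k3, normK_M_of hX (cz_le_nz _)
    (sup_le (k1.trans (inf_le_right.trans (cz_anti h1))) (h2.trans inf_le_right)) (cz_anti h1 k3)
    (by rwa [sup_assoc, sup_eq_left.2 h1])⟩
  rw [normK_S]
  exact le_inf (k1.trans (inf_le_inf_left _ (cz_anti h1))) (k1.trans inf_le_right)

theorem Sat.exists_comp_cj (hF : F.Sat p) (hQ : F.FC Q) (h : Comp p K (F.CF Q)) :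
    ∃ g, F.M K.S g ∧ F.FN (cj g Q) ∧ Comp p (FS.cjs g K) (F.CF (cj g Q)) := by
  obtain ⟨g, h1, h2⟩ := hF.exists_FN hQ.1
  refine ⟨g, F.mono h1 (h.S_le.trans ?_), h2, hQ.cjs_CF (F.mono h1 (le_inf (sup_CS_le hQ.1)
    (F.sup_CS_le_nz _))) ▸ h.cjs g⟩
  rw [normK_S]; exact inf_le_inf_left _ (cz_le_nz _)

theorem Sat.comp_CF (hF : F.Sat p) (hr : Rich F.S) (hX : F.FN X) (h : Comp p K (F.NF X)) :
    Comp p K (F.CF X) := by
  have h1 := h.le_CF (NF_nor hX.1) (hF.NF hX) (hr.mono (S_le (F.normK_le _ _)))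
  rw [CF_NF hX.1 le_rfl (le_NS hX.1)] at h1
  exact h.down (hF.norIn_CF_NF hX) (hr.mono (S_le (F.normK_le _ _))) (S_le h1)

/-- The key step of `E`-balance. -/
theorem NorIn.balance (h : NorIn p E F) (hr : Rich F.S) (hc : F.cse E ≤ E.S) (hX : X ≤ F.S) :
    ∀ K, F.FC X → Comp p K (F.CF X) → K.S ≤ E.S := by
  have hF := h.wn.satF
  have i := h.wn.invt
  refine down_induction (S := F.S) (Φ := fun X => ∀ K, F.FC X → Comp p K (F.CF X) → K.S ≤ E.S)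
    (fun X hX ih K₀ hX₀ hK₀ => ?_) X hX
  obtain ⟨g, g1, g2, hK⟩ := hF.exists_comp_cj hX₀ hK₀
  suffices (FS.cjs g K₀).S ≤ E.S by simpa using i.sc.2 _ _ this (F.inv g1)
  rw [← card_cj g X] at ih
  generalize cj g X = X at g2 hK ih
  generalize FS.cjs g K₀ = K at hK
  by_cases hT : E.S ≤ X
  · exact hK.qs.foc_eq.ge.trans ((foc_mono (hK.le.trans (CF_anti hT g2.1))).trans
      ((h.foc_CF_le hr).trans hc))
  have hN := hF.NF g2
  have hr' := hr.mono (S_le (F.normK_le X (nz X)))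
  have n1 := hF.norIn_CF_NF g2
  obtain ⟨D, d1, d2, -⟩ := h.exists_NE hr g2
  rcases (hK.up n1.subN).dich d1 hr' with k | k
  · exact k.S_le.trans (d2.le.trans inf_le_left)
  obtain ⟨B, hB⟩ := (hN.CF (hN.fc d1.wn.invt.sc.fn)).exists_pres
  obtain ⟨W, w1, w2, w3, w4, -⟩ := (d1.pres_CF hr' hB).exists_wedge n1 hr'
  have k1 := (hK.up n1.subN).down w1 hr' (w2 ▸ le_inf (S_le (hK.qs.le_pres k hB)) hK.S_le)
  have k2 := (NF_nor g2.1).sc.wc
  have k3 : X ⊔ D.S ≤ F.S ⊓ nz X := sup_le (le_NS g2.1) (by simpa using d1.wn.invt.S_le)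
  have k4 : (F.NF X).FC (X ⊔ D.S) := hN.fc (hN.sc_sup (NF_nor g2.1).sc d1.wn.invt.sc).fn
  have k5 := w1.CF hr' k4 (w1.le_CF_sup hr' k2.1 d1.wn.invt.S_le
    (by rw [CF_NF g2.1 le_rfl (le_NS g2.1)]; exact w4.wn.invt.le) (w3.wn.invt.le.trans hB.2.2.1))
  rw [CF_NF g2.1 le_sup_left k3] at k5
  refine ih _ (k3.trans inf_le_left) (card_lt_of_lt (left_lt_sup.2 fun k6 => ?_)) K
    (hF.fc_of_NF g2 le_sup_left k4) (k1.up k5.subN)
  obtain ⟨x, x1, x2, x3⟩ := exists_nz_of_not_le hF.pg g2.1 i.S_le (g2.1.trans i.sc.S_le_nz) hT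
  exact x2 (k6 (d2.ge ⟨x1, x3⟩))

theorem Con.not_comp_CF (hF : F.Con p) (hr : Rich F.S) (hX : F.FC X) : ¬ Comp p K (F.CF X) :=
  fun h => h.not_le (F.nor_core.inf_sub hF.1.pg (hF.1.CF hX) (F.normK_le _ _)) (hF.1.CF hX)
    (hr.mono (S_le (F.normK_le _ _))) (le_inf h.S_le ((F.nor_core.norIn hF.1).balance hr
      (cse_le.trans (con_iff.1 hF).2) hX.1 K hX h))

theorem Sat.dichotomy (hF : F.Sat p) (hr : Rich F.S) (hU : F.FN U) (h0 : U ≠ ⊥)
    (h : ¬ (F.NF U).Con p) : ∃ X : Subgroup G, Nat.card X = p ∧ F.FN X ∧ ∃ K, Comp p K (F.CF X) := by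
  obtain ⟨x, x1, x2⟩ : ∃ x ∈ U ⊓ cz (F.S ⊓ nz U), orderOf x = p := by
    exact exists_order_p (hF.pg.to_le hU.1).to_inf_left
      (inf_cz_ne_bot hF.pg.to_inf_left (le_NS hU.1) inf_le_right h0)
  have hX : Subgroup.zpowers x ≤ U := Subgroup.zpowers_le.2 x1.1
  have hX' : F.S ⊓ nz U ≤ cz (Subgroup.zpowers x) := le_cz_comm.1 (Subgroup.zpowers_le.2 x1.2)
  obtain ⟨K, hK⟩ := (hF.NF hU).exists_comp h
  replace hK := hF.comp_CF hr hU hK
  obtain ⟨g, g1, g2⟩ := hF.exists_FN (hX.trans hU.1)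
  replace g1 := F.mono g1 (le_inf inf_le_left (hX'.trans (cz_le_nz _)))
  refine ⟨_, by rw [card_cj, Nat.card_zpowers, x2], g2,
    (hF.CF (hF.fc g2)).exists_comp fun k => ?_⟩
  have k1 := hF.fc (hU.cj_of_NS g1)
  have k2 : cj g U ≤ F.S ⊓ cz (cj g (Subgroup.zpowers x)) :=
    cj_inf_cz_le (F.mono g1 (le_NS hU.1)) ((le_NS hU.1).trans hX')
  have k3 := cj_mono (g := g) hX
  refine k.not_comp_CF (hr.mono (S_le (F.normK_le _ _))) (X := cj g U) (K := FS.cjs g K)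
    ⟨by rwa [normK_S], fun a ha => ?_⟩ ?_
  · refine (card_le_of_le (inf_le_inf_right _ (S_le (F.normK_le _ _)))).trans
      ((k1.2 a (F.normK_le _ _ _ _ ha)).trans (card_le_of_le ?_))
    rw [normK_S]
    exact le_inf (inf_le_inf_left _ (cz_anti k3)) inf_le_right
  · rw [CF_CF k3 k2, ← (hF.fc hU).cjs_CF (F.mono g1 (le_inf (sup_CS_le hU.1) (F.sup_CS_le_nz _)))]
    exact hK.cjs g

end FS

section
variable {Ω : Type v} {G : Type u} [Group Ω] [Group G] [Finite G] {U S T R : Subgroup Ω}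
  {ι : U →* G} {F : FusionSystem S} {C : FusionSystem T} {F' C' : FS G} {p : ℕ} [hp : Fact p.Prime]

theorem Rep.qs_iff (r : Rep ι F F') (hS : IsPGroup p S) (hr : Rich F'.S) :
    F.Quasisimple p ↔ FS.QS p F' := by
  haveI := finite_of_inj r.inj r.le
  have hZ : F.StronglyClosed F.center := (r.sc_iff ((center_le F).trans r.le)).2
    (by rw [r.im_center]; exact F'.cen_center.nor.sc)
  have e0 : F.hyperfocalSubgroup p = S ↔ F'.hyp p = F'.S := by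
    rw [← r.im_hyp, r.imS_iff ((hyperfocal_le F p).trans r.le)]
  have key : F'.Sat p → ∀ E : FusionSystem (⊤ : Subgroup (S ⧸ F.center.subgroupOf S)),
      F.IsFactorSystem F.center (QuotientGroup.mk' (F.center.subgroupOf S)) E →
      (E.IsSimple p → F'.hyp p = F'.S → FS.QS p F') ∧ (FS.QS p F' → E.IsSimple p) := by
    intro hF E hE
    obtain ⟨G', _, _, κ, E', θ', s, hr', t⟩ := r.exists_tr E (mem_of_isFactorSystem hE)
    obtain ⟨q, e⟩ := t.quo r s hE hF hZ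
    rw [r.im_center] at e
    have q' : FS.CQ θ' F' E' := ⟨q, e ▸ F'.cen_center⟩
    rw [s.simple_iff (s.pg_of (q.sat hF).pg)]
    exact ⟨fun h1 h2 => q'.qs_of_simple e hF h2 hr (s.rich hr').full h1,
      q'.simple_of_qs e (s.rich hr')⟩
  refine ⟨fun h => ?_, fun h => ⟨r.sat_of h.sat, e0.2 h.hyp_eq, fun E hE => (key h.sat E hE).2 h⟩⟩
  obtain ⟨E, hE⟩ := exists_factor_mk F hZ
  exact (key (r.sat hS h.1) E hE).1 (h.2.2 E hE) (e0.1 h.2.1)

theorem Rep.comp_iff (r : Rep ι F F') (s : Rep ι C C') (hS : IsPGroup p S) (hr : Rich F'.S) :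
    C.IsComponentIn F p ↔ FS.Comp p C' F' :=
  ⟨fun h => have k := r.subn s hS h.1
    ⟨k, (s.qs_iff (hS.to_le (le_of_isSubsystemOf (le_of_isSubnormalIn h.1)))
      (hr.mono (FS.S_le k.le))).1 h.2⟩,
    fun h => ⟨r.subn_of s h.sub, (s.qs_iff (s.pg_of h.qs.sat.pg) (hr.mono h.S_le)).2 h.qs⟩⟩

theorem Rep.exists_comp (r : Rep ι F F') (hS : IsPGroup p S) (hr : Rich F'.S)
    (h : C.IsComponentIn F p) : ∃ C', Rep ι C C' ∧ FS.Comp p C' F' := by
  obtain ⟨C', s⟩ := r.exists_sub (le_of_isSubnormalIn h.1)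
  exact ⟨C', s, (r.comp_iff s hS hr).1 h⟩

theorem Rep.exists_comp_iff (r : Rep ι F F') (hS : IsPGroup p S) (hr : Rich F'.S) :
    (∃ (T : Subgroup Ω) (C : FusionSystem T), C.IsComponentIn F p) ↔ ∃ C', FS.Comp p C' F' := by
  refine ⟨fun ⟨_, _, h⟩ => (r.exists_comp hS hr h).imp fun _ k => k.2, fun ⟨C', h⟩ => ?_⟩
  obtain ⟨T, -, C, s⟩ := r.exists_sub' h.le
  exact ⟨T, C, (r.comp_iff s hS hr).2 h⟩

theorem Rep.all_comp_iff (r : Rep ι F F') (hS : IsPGroup p S) (hr : Rich F'.S)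
    {D : FusionSystem R} {D' : FS G} (d : Rep ι D D') :
    (∀ (T : Subgroup Ω) (C : FusionSystem T), C.IsComponentIn F p → C.IsSubsystemOf D) ↔
      ∀ C', FS.Comp p C' F' → C' ≤ D' := by
  refine ⟨fun h C' k => ?_, fun h T C k => ?_⟩
  · obtain ⟨T, -, C, s⟩ := r.exists_sub' k.le
    exact (d.le_iff_sub s).1 (h T C ((r.comp_iff s hS hr).2 k))
  · obtain ⟨C', s, k'⟩ := r.exists_comp hS hr k
    exact (d.le_iff_sub s).2 (h C' k')

theorem Rep.lay_iff (r : Rep ι F F') (s : Rep ι C C') (hS : IsPGroup p S) (hr : Rich F'.S) :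
    C.IsLayerOf F p ↔ FS.Lay p C' F' := by
  refine ⟨fun h => ⟨(r.norIn_iff s hS).1 h.1, (r.all_comp_iff hS hr s).1 h.2.1, fun D' h1 h2 => ?_⟩,
    fun h => ⟨r.norIn_of s h.nor, (r.all_comp_iff hS hr s).2 h.le, fun R D h1 h2 => ?_⟩⟩
  · obtain ⟨R, -, D, d⟩ := r.exists_sub' h1.wn.invt.le
    exact (d.le_iff_sub s).1 (h.2.2 R D (r.norIn_of d h1) ((r.all_comp_iff hS hr d).2 h2))
  · obtain ⟨D', d⟩ := r.exists_sub h1.1.2.2.1
    exact (d.le_iff_sub s).2 (h.min D' ((r.norIn_iff d hS).1 h1) ((r.all_comp_iff hS hr d).1 h2))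

theorem Rep.exists_lay (r : Rep ι F F') (hS : IsPGroup p S) (hr : Rich F'.S)
    (h : C.IsLayerOf F p) : ∃ C', Rep ι C C' ∧ FS.Lay p C' F' := by
  obtain ⟨C', s⟩ := r.exists_sub h.1.1.2.2.1
  exact ⟨C', s, (r.lay_iff s hS hr).1 h⟩

theorem Full.exists_ind (hf : Full ι.range) (hι : Function.Injective ι) {P : Subgroup Ω}
    (hP : P ≤ U) (φ : P →* Ω) (h1 : Function.Injective φ) (h2 : ∀ x, φ x ∈ U) :
    ∃ g, Ind ι φ g := by
  obtain ⟨g, hg⟩ := hf (im ι P) ((ι.comp (φ.codRestrict U h2)).comp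
    (eta hι hP).symm.toMonoidHom) (im_le_range ι P) (by
      refine (hι.comp ?_).comp (eta hι hP).symm.injective
      intro a b e
      exact h1 (congrArg Subtype.val e)) (fun x => ⟨_, rfl⟩)
  refine ⟨g, fun x => ?_⟩
  have := hg (eta hι hP x)
  rw [eta_apply] at this
  rw [← this, fn_of_mem ι (h2 x)]
  simp

/-- Conjugation as a homomorphism on the whole group. -/
abbrev cjh (a : G) : (⊤ : Subgroup G) →* G := (MulAut.conj a).toMonoidHom.comp (tp G)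

theorem fn_cjh (a x : G) : fn (cjh a) x = a * x * a⁻¹ := by
  rw [fn_conj_comp, fn_subtype (Subgroup.mem_top x)]

theorem im_cjh (a : G) (P : Subgroup G) : im (cjh a) P = cj a P := by rw [im_conj_comp, im_tp]

theorem indM_cjh {a g g' : G} {P : Subgroup G} :
    IndM (cjh a) P g g' ↔ (a * g * a⁻¹)⁻¹ * g' ∈ cz (cj a P) := by
  rw [inv_mul_mem_cz]
  refine ⟨fun h y hy => ?_, fun h x hx => ?_⟩
  · obtain ⟨x, hx, rfl⟩ := mem_cj'.1 hy
    have := h x hx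
    rw [fn_cjh, fn_cjh] at this
    rw [← this]; group
  · rw [fn_cjh, fn_cjh, h _ (conj_mem_cj_of hx)]; group

theorem Ind.tr {P : Subgroup Ω} {φ : P →* Ω} {a : G} (h : Ind ι φ a) (h2 : ∀ x, φ x ∈ U) :
    Tr ι ι φ (cjh a) :=
  ⟨le_top, fn_mem_of h2, fun x hx => by rw [fn_cjh, fn_of_mem φ hx, h ⟨x, hx⟩]⟩

theorem FS.Mor.cjs_le {a : G} (m : FS.Mor (cjh a) F' C') : FS.cjs a F' ≤ C' :=
  FS.cjs_le_iff.2 fun _ _ hg => im_cjh a _ ▸ m.M_of hg (indM_cjh.2 (mem_of_eq (one_mem _) (by group)))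

theorem FS.Fac.same_cjs {a : G} (q : FS.Fac (cjh a) F' C') : C' = FS.cjs a F' := by
  have e : ∀ P', pre (cjh a) P' = cj a⁻¹ P' := fun P' => by
    ext x; rw [mem_pre, fn_cjh, mem_cj_inv]; simp
  refine q.unique ⟨le_top, (im_cjh a _).symm, fun {P g} _ hg _ => ⟨_, im_cjh a P ▸ FS.cjs_M'.2 hg,
    indM_cjh.2 (mem_of_eq (one_mem _) (by group))⟩, fun {P' g'} hg => ⟨_, F'.mono (FS.cjs_M.1 hg) (e P' ▸ inf_le_right),
    indM_cjh.2 (mem_of_eq (one_mem _) (by group))⟩⟩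

end

end Cfsg.Agent.Fusion
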