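import Cfsg.Agent.Fusion.NMap

/-! The meet of two normal subsystems. -/

set_option autoImplicit false
set_option linter.unusedSectionVars false

namespace Cfsg.Agent.Fusion

namespace FS

universe u

variable {G : Type u} [Group G] [Finite G] {F E D A B E₁ E₂ : FS G}
  {P Q R T U V W X Y H L N : Subgroup G} {a b c g h k s x σ φ ψ : G} {p : ℕ} [hp : Fact p.Prime]

theorem Sat.fc_of_NF (hF : F.Sat p) (hU : F.FN U) (h1 : U ≤ Q) (h : (F.NF U).FC Q) : F.FC Q := by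
  have h2 : Q ≤ F.S ⊓ nz U := by simpa using h.1
  refine ⟨h2.trans inf_le_left, fun g hg => ?_⟩
  obtain ⟨k, k1, k2⟩ := hF.exists_NS_map hU (F.inv (F.mono hg h1)) (cj_inv_cj g U)
  have h3 := cj_inf_nz_le hg (h2.trans inf_le_right)
  have := h.2 (k * g) (normK_M_of hU.1 le_rfl (h2.trans inf_le_right) (mem_nz_iff.2
    (by rw [cj_mul, k2])) (by rw [sup_eq_left.2 h1]; exact mul' hg k1 h3))
  rw [NF_S_inf_cz F h1, NF_S_inf_cz F (by rw [← k2, cj_mul]; exact cj_mono (cj_mono h1))] at this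
  refine le_trans ?_ this
  rw [← card_cj k, cj_mul]
  exact card_le_of_le (cj_inf_cz_le (F.mono k1 (inf_le_inf_left _ ((cz_anti (cj_mono h1)).trans
    (cz_le_nz _)))) inf_le_right)

theorem Sat.exists_NF_fn (hF : F.Sat p) (hU : F.FN U) (h1 : U ≤ Q) (h2 : Q ≤ F.S ⊓ nz U) :
    ∃ ψ ∈ nz U, F.M (F.S ⊓ nz U ⊓ nz Q) ψ ∧ (F.NF U).FN (cj ψ Q) ∧ F.FC (cj ψ Q) := by
  obtain ⟨ψ, k1, k2⟩ := (hF.NF hU).exists_FN (P := Q) (by rwa [normK_S])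
  rw [normK_S] at k1
  have k3 := (NF_nor hU.1).sc.mem_nz k1 (h1.trans (le_inf h2 (le_nz Q)))
  exact ⟨ψ, k3, F.normK_le _ _ _ _ k1, k2, hF.fc_of_NF hU ((cj_of_nz k3).ge.trans (cj_mono h1))
    ((hF.NF hU).fc k2)⟩

theorem sup_CS_inf' (hW : W ≤ T) (hT : T ≤ F.S) :
    (W ⊔ (F.S ⊓ cz W)) ⊓ T = W ⊔ (T ⊓ cz W) := by
  rw [sup_inf_of_nz ((le_cz_comm.1 inf_le_right).trans (cz_le_nz _)) hW, inf_right_comm,
    inf_eq_right.2 hT]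

theorem Invt.cenT_sup (i : E.Invt F) (hF : F.Sat p) (hW : W ≤ E.S) (h : F.FC W) :
    F.CenT E.S ((W ⊔ (F.S ⊓ cz W)) ⊓ E.S) := by
  rw [sup_CS_inf' hW i.S_le]
  exact i.cenT_iff.2 (hF.fc_of_sc i.le i.sc hW h).cent_sup

theorem NorIn.ao_up (h : NorIn p E F) (hr : Rich F.S) (hY : F.Cent Y)
    (hU : F.CenT E.S (Y ⊓ E.S)) (h1 : Y ≤ P) (hg : F.M P g) (hn : g ∈ nz P)
    (hc : (orderOf g).Coprime p) (h2 : g ∈ F.ao E Y) : g ∈ F.ao E P :=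
  h.wn.invt.ao_of_prd h.wn.satF.pg (F.le_S hg) (mem_aut_of (h.wn.satF.M_of_cent (h.prd_sat hr) prd_le
    rfl hY h1 hg ((KM.base hY.1 hU h2 hc).prd_M h.wn.invt.S_le)) hn) hc

theorem SC.CS_le_trv' (hT : F.SC T) (h : T ⊓ cz U ≤ U) (h2 : Q ≤ T ⊓ nz U) :
    F.S ⊓ cz U ≤ trv Q U := fun c hc => mem_trv.2 ⟨cz_le_nz U hc.2, fun _ ht => h
      ⟨T.mul_mem (T.inv_mem (h2 ht).1) (conj_mem_of_nz (hT.S_le_nz hc.1) (h2 ht).1),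
        mem_of_eq ((cz U).mul_mem (conj_mem_cz' (h2 ht).2 hc.2) ((cz U).inv_mem hc.2)) (by group)⟩⟩

theorem Sat.ext_loc (hF : F.Sat p) (hT : F.SC T) (hU : F.FN U) (h : T ⊓ cz U ≤ U) (h1 : U ≤ Q)
    (h2 : Q ≤ T ⊓ nz U) (hQ : (F.NF U).FN Q) (hb : b ∈ F.aut (Q ⊔ (F.S ⊓ cz Q)))
    (h3 : b ∈ trv (Q ⊔ (F.S ⊓ cz Q)) Q) (h4 : b ∈ nz U) :
    ∃ c ∈ cz (Q ⊔ (F.S ⊓ cz Q)), F.M (Q ⊔ (F.S ⊓ cz U)) (b * c) := by
  have hN := hF.NF hU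
  have s : ((F.NF U).NF Q).S = F.S ⊓ nz U ⊓ nz Q := by simp
  have q0 : Q ≤ F.S ⊓ nz U := h2.trans (inf_le_inf_right _ hT.1)
  have y1 : Q ⊔ (F.S ⊓ cz Q) ≤ F.S ⊓ nz U ⊓ nz Q := le_inf (sup_le q0
    (inf_le_inf_left _ ((cz_anti h1).trans (cz_le_nz U)))) (F.sup_CS_le_nz Q)
  have y2 : F.S ⊓ nz U ⊓ nz Q ≤ nz (Q ⊔ (F.S ⊓ cz Q)) := fun x hx => mem_nz_sup_CS hx.1.1 hx.2
  have e : ((F.NF U).NF Q).aut (Q ⊔ (F.S ⊓ cz Q)) = F.aut (Q ⊔ (F.S ⊓ cz Q)) ⊓ nz U ⊓ nz Q := by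
    rw [normK_aut_of_le hQ.1 le_rfl (by rwa [normK_S]) le_sup_left (cz_le_nz Q),
      normK_aut_of_le hU.1 le_rfl (y1.trans inf_le_left) (h1.trans le_sup_left) (cz_le_nz U)]
  have r1 := hT.CS_le_trv' h h2
  have r2 : F.S ⊓ cz U ≤ F.S ⊓ nz U ⊓ nz Q := le_inf (inf_le_inf_left _ (cz_le_nz U))
    fun x hx => mem_nz_of_trv (r1 hx) h1 le_rfl
  obtain ⟨c, c1, c2⟩ := (hN.NF hQ).ext_chain (FN.of_normal (s ▸ y1) (s ▸ y2)) h1 le_sup_left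
    (e ▸ inf_le_right) (e ▸ inf_le_left.trans inf_le_right) (e ▸ ⟨⟨hb, h4⟩, trv_le_nz _ _ h3⟩) h3
    (R := F.S ⊓ cz U) (s ▸ le_inf r2 (r2.trans y2)) (le_inf r1 inf_le_right)
  exact ⟨c, c1, F.mono (normK_le _ _ _ _ _ (normK_le _ _ _ _ _ c2)) (sup_le_sup_right le_sup_left _)⟩

/-- Common part of the groups `ao`. -/
def wa (F E₁ E₂ : FS G) (P : Subgroup G) : Subgroup G := F.ao E₁ P ⊓ F.ao E₂ P

/-- Automorphisms extending to `W C_S(W)`. -/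
def wx (F E₁ E₂ : FS G) (W : Subgroup G) : Subgroup G :=
  (wa F E₁ E₂ (W ⊔ (F.S ⊓ cz W)) ⊓ nz W) ⊔ cz W

/-- The automizers of the meet. -/
def wb (F E₁ E₂ : FS G) (W : Subgroup G) : Subgroup G :=
  ⨅ φ : {φ // F.M W φ}, cj φ.1⁻¹ (wx F E₁ E₂ (cj φ W))

theorem mem_wx : g ∈ wx F E₁ E₂ W ↔
    ∃ b ∈ wa F E₁ E₂ (W ⊔ (F.S ⊓ cz W)), b ∈ nz W ∧ g⁻¹ * b ∈ cz W := by
  rw [wx, mem_sup_of_nz (inf_le_right.trans (nz_le_nz_cz W))]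
  exact ⟨fun ⟨b, h1, c, h2, e⟩ => ⟨b, h1.1, h1.2, by simpa [← e] using h2⟩,
    fun ⟨b, h1, h2, h3⟩ => ⟨b, ⟨h1, h2⟩, _, inv_mem h3, by group⟩⟩

theorem mem_wb : g ∈ wb F E₁ E₂ W ↔ ∀ φ, F.M W φ → φ * g * φ⁻¹ ∈ wx F E₁ E₂ (cj φ W) := by
  simp only [wb, Subgroup.mem_iInf, mem_cj_inv, Subtype.forall]

theorem wa_trv (h : g ∈ wa F E₁ E₂ P) : g ∈ trv P (P ⊓ (E₁.S ⊓ E₂.S)) :=
  inf_inf_distrib_left P _ _ ▸ mem_trv_inf h.1.2.1 h.2.2.1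

theorem wa_trv' (hT : E₁.S ⊓ E₂.S ≤ F.S) (hW : F.CenT (E₁.S ⊓ E₂.S) W)
    (h : g ∈ wa F E₁ E₂ (W ⊔ (F.S ⊓ cz W))) : g ∈ trv (W ⊔ (F.S ⊓ cz W)) W := by
  simpa only [sup_CS_inf hW.1 (hW.cz_le hT)] using wa_trv h

theorem wa_of_le (hP : P ≤ F.S) (hg : g ∈ wa F E₁ E₂ P) (h : Q ≤ P)
    (h1 : P ⊓ (E₁.S ⊓ E₂.S) ≤ Q) : g ∈ wa F E₁ E₂ Q :=
  have h2 := mem_nz_of_trv (wa_trv hg) h1 h
  ⟨mem_ao_of_le hP hg.1 h h2, mem_ao_of_le hP hg.2 h h2⟩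

theorem cj_wa (i₁ : E₁.Invt F) (i₂ : E₂.Invt F) (ha : F.M P a) :
    cj a (wa F E₁ E₂ P) = wa F E₁ E₂ (cj a P) := by rw [wa, cj_inf, i₁.cj_ao ha, i₂.cj_ao ha, wa]

theorem wb_cj (ha : F.M W a) : cj a (wb F E₁ E₂ W) ≤ wb F E₁ E₂ (cj a W) :=
  cj_le_iff.2 fun g hg => mem_wb.2 fun φ hφ => by
    simpa [mul_assoc, cj_mul] using mem_wb.1 hg _ (F.mul ha hφ)

theorem wb_le (hW : W ≤ F.S) : wb F E₁ E₂ W ≤ wx F E₁ E₂ W := fun g hg => by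
  simpa using mem_wb.1 hg 1 (M_one hW)

theorem mem_wb_of (hF : F.Sat p) (i₁ : E₁.Invt F) (i₂ : E₂.Invt F) (hW : F.CenT (E₁.S ⊓ E₂.S) W)
    (hφ : F.M W φ) (h1 : F.FC (cj φ W)) (hg : φ * g * φ⁻¹ ∈ wx F E₁ E₂ (cj φ W)) :
    g ∈ wb F E₁ E₂ W := mem_wb.2 fun ψ hψ => by
  obtain ⟨c, c1, c2⟩ := (hF.rec_of_fc h1).extend_cz (mul' (F.inv hψ) hφ (by simp))
    (by simp [cj_mul])
  have e : cj (φ * ψ⁻¹ * c) (cj ψ W) = cj φ W := by rw [cj_mul_cz c1]; simp [cj_mul]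
  obtain ⟨b, b1, b2, b3⟩ := mem_wx.1 hg
  have h2 := (hW.cj (i₁.sc.inf i₂.sc) hφ)
  have h3 : cj (φ * ψ⁻¹ * c) (cj ψ W ⊔ (F.S ⊓ cz (cj ψ W))) ≤ cj φ W ⊔ (F.S ⊓ cz (cj φ W)) := by
    rw [cj_sup, e]
    exact sup_le_sup_left (e ▸ cj_inf_cz_le (F.mono c2 le_sup_right) inf_le_right) _
  have b4 := wa_of_le (sup_CS_le h1.1) b1 h3 (by
    rw [sup_CS_inf h2.1 (h2.cz_le (inf_le_left.trans i₁.S_le)), cj_sup, e]; exact le_sup_left)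
  rw [← cj_wa i₁ i₂ c2, mem_cj] at b4
  rw [← e] at b2 b3
  have b5 := conj_inv_mem_nz b2
  have b6 := conj_inv_mem_cz b3
  refine mem_wx.2 ⟨_, b4, b5, ?_⟩
  have b7 : ψ * g * ψ⁻¹ ∈ nz (cj ψ W) := mem_of_eq (conj_mem_of_nz (mem_nz_nz (cz_le_nz _ c1))
    (mul_mem b5 (inv_mem (cz_le_nz _ b6)))) (by group)
  exact mem_of_eq (mul_mem (mul_mem (conj_mem_cz' b7 (inv_mem c1)) c1) b6) (by group)

theorem wx_le (hW : W ≤ F.S) : wx F E₁ E₂ W ≤ F.aut W :=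
  sup_le (fun _ h => aut_restrict (sup_CS_le hW) h.1.1.1 le_sup_left h.2) (F.cz_le_aut W)

theorem NorIn.wedge_loc (h₁ : NorIn p E₁ F) (h₂ : NorIn p E₂ F) (hr : Rich F.S)
    (hU : F.CenT (E₁.S ⊓ E₂.S) U) (hn : F.FN U) : ∃ M : FS G, M.Sat p ∧ M.S = F.S ⊓ nz U ∧
      M ≤ F.NF U ∧ M.hyp p ≤ E₁.S ⊓ E₂.S ∧ ∀ Q g, U ≤ Q → Q ≤ E₁.S ⊓ E₂.S ⊓ nz U →
        (orderOf g).Coprime p → (g ∈ M.aut Q ↔ g ∈ wb F E₁ E₂ Q ∧ g ∈ nz U) := by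
  have hF := h₁.wn.satF
  have i₁ := h₁.wn.invt
  have i₂ := h₂.wn.invt
  have hT := i₁.sc.inf i₂.sc
  have hN := hF.NF hn
  have u0 := hU.cz_le hT.1
  have v0 := (hF.fc hn).cent_sup
  have v1 := sup_CS_le_NF hn.1
  have v2 : F.S ⊓ nz U ≤ nz (U ⊔ (F.S ⊓ cz U)) := fun x hx => mem_nz_sup_CS hx.1 hx.2
  set V := U ⊔ (F.S ⊓ cz U) with hV
  set K := (prd p F E₁).aut V ⊓ (prd p F E₂).aut V ⊓ nz U with hK
  have k1 : F.S ⊓ nz U ≤ K := fun x hx => ⟨⟨NS_le_aut (F := prd p F E₁) v0.1 ⟨hx.1, v2 hx⟩,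
    NS_le_aut (F := prd p F E₂) v0.1 ⟨hx.1, v2 hx⟩⟩, hx.2⟩
  have k2 : K ≤ nz V := inf_le_left.trans (inf_le_left.trans (aut_le_nz _ _))
  have s : ((F.NF U).normK V K).S = F.S ⊓ nz U := by rw [normK_S, normK_S, inf_eq_left.2 k1]
  have m1 : ∀ {E P g}, NorIn p E F → K ≤ (prd p F E).aut V → g ∈ K → (F.NF U).M (P ⊔ V) g →
      (prd p F E).M (P ⊔ V) g := fun h e a b => hF.M_of_cent (h.prd_sat hr) prd_le rfl v0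
        le_sup_right (F.normK_le _ _ _ _ b) (M_of_aut (F := prd p F _) v0.1 (e a))
  have m2 : ∀ {E}, NorIn p E F → K ≤ (prd p F E).aut V → ((F.NF U).normK V K).hyp p ≤ E.S :=
    fun h e => (hyp_mono fun P g hg => by
      obtain ⟨-, c, c1, c2, c3⟩ := (normK_M v1 k2).1 hg
      simpa using FS.mul_cz _ (FS.mono _ (m1 h e c2 c3) le_sup_left) (inv_mem c1)).trans
        h.wn.ppi_prd.2.1
  have e₁ : K ≤ (prd p F E₁).aut V := inf_le_left.trans inf_le_left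
  have e₂ : K ≤ (prd p F E₂).aut V := inf_le_left.trans inf_le_right
  refine ⟨(F.NF U).normK V K, hN.normK (hN.fk_of_normal (FN.of_normal v1 (by rwa [normK_S]))
    (le_inf (le_inf (cz_le_aut _ _) (cz_le_aut _ _)) ((cz_anti le_sup_left).trans (cz_le_nz U))) k2
    (by rw [normK_S]; exact inf_le_left.trans (k1.trans (le_nz K)))), s, normK_le _ _ _,
    le_inf (m2 h₁ e₁) (m2 h₂ e₂), fun Q g q1 q2 hc => ?_⟩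
  have q0 : Q ≤ F.S ⊓ nz U := q2.trans (inf_le_inf_right _ hT.1)
  have q3 := hU.mono q1 (q2.trans inf_le_left)
  have q4 : Q ⊔ V = Q ⊔ (F.S ⊓ cz U) := by rw [hV, ← sup_assoc, sup_eq_left.2 q1]
  have q5 : Q ⊔ V ≤ F.S ⊓ nz U ⊓ nz Q := q4 ▸ sup_le (le_inf q0 (le_nz Q)) (le_inf
    (inf_le_inf_left _ (cz_le_nz U)) fun x hx => mem_nz_of_trv (hT.CS_le_trv' u0 q2 hx) q1 le_rfl)
  obtain ⟨ψ, p1, p2, p3, p4⟩ := hF.exists_NF_fn hn q1 q0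
  replace p2 := F.mono p2 q5
  have p5 := F.mono p2 le_sup_left
  have p6 : cj ψ (Q ⊔ V) = cj ψ Q ⊔ (F.S ⊓ cz U) := by
    rw [q4, cj_sup, cj_of_nz (mem_nz_CS (F.mono p2 (q4 ▸ le_sup_right)) p1)]
  have p7 : U ≤ cj ψ Q := (cj_of_nz p1).ge.trans (cj_mono q1)
  have p8 : cj ψ Q ⊔ (F.S ⊓ cz (cj ψ Q)) ≤ cj ψ (Q ⊔ V) :=
    p6 ▸ sup_le_sup_left (inf_le_inf_left _ (cz_anti p7)) _
  have p9 := q3.cj hT p5
  have q6 : (Q ⊔ V) ⊓ (E₁.S ⊓ E₂.S) = Q := by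
    rw [q4, sup_inf_of_nz (q0.trans fun x hx => mem_nz_inf (le_nz _ hx.1) (nz_le_nz_cz _ hx.2))
      (q2.trans inf_le_left), sup_eq_left.2 ((le_inf inf_le_right
        (inf_le_left.trans inf_le_right)).trans (u0.trans q1))]
  constructor
  · intro hg
    obtain ⟨-, c, c1, c2, c3⟩ := (normK_M v1 k2).1 (M_of_aut (s ▸ q0) hg)
    have g1 := aut_le_nz _ _ hg
    have c4 := mem_nz_sup (mul_mem g1 (cz_le_nz _ c1)) (k2 c2)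
    obtain ⟨b, b1, b2, b3⟩ := exists_cop (g := g * c) hc (nz_le_nz_cz _ g1) (by simpa using c1)
    have b4 : b ∈ wa F E₁ E₂ (Q ⊔ V) := ⟨i₁.ao_of_prd hF.pg (F.le_S p2) (Subgroup.zpowers_le.2
      (mem_aut_of (m1 h₁ e₁ c2 c3) c4) b1) b2, i₂.ao_of_prd hF.pg (F.le_S p2)
        (Subgroup.zpowers_le.2 (mem_aut_of (m1 h₂ e₂ c2 c3) c4) b1) b2⟩
    refine ⟨mem_wb_of hF i₁ i₂ q3 p5 p4 (mem_wx.2 ⟨_, wa_of_le (F.cj_le p2)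
      (cj_wa i₁ i₂ p2 ▸ conj_mem_cj_of b4) p8 (by rw [← hT.cj_inf p2, q6]; exact le_sup_left),
      conj_mem_nz_cj (Subgroup.zpowers_le.2 (mul_mem g1 (cz_le_nz _ c1)) b1),
      mem_of_eq (conj_mem_cz_cj (g := ψ) b3) (by group)⟩),
      (mul_mem_cancel_right (cz_le_nz _ (cz_anti q1 c1))).1 c2.2⟩
  rintro ⟨hg, g1⟩
  have g2 := F.aut_le_nz _ (wx_le (F.le_S p5) (wb_le (F.le_S p5) hg))
  obtain ⟨b, b1, -, b3⟩ := mem_wx.1 (mem_wb.1 hg ψ p5)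
  have g3 : ψ * g * ψ⁻¹ ∈ nz U := mul_mem (mul_mem p1 g1) (inv_mem p1)
  have b2 : b ∈ nz U := mem_of_eq (mul_mem g3 (cz_le_nz _ (cz_anti p7 b3))) (by group)
  obtain ⟨c, c1, c2⟩ := hF.ext_loc hT hn u0 p7 (le_inf p9.1 ((cj_inf_nz_le p5
    (q2.trans inf_le_right)).trans (by rw [cj_of_nz p1]; exact inf_le_right))) p3 b1.1.1
    (wa_trv' hT.1 p9 b1) b2
  rw [← p6] at c2
  have c3 := cz_anti le_sup_left c1
  have c4 : b * c ∈ nz U := mul_mem b2 (cz_le_nz _ (cz_anti p7 c3))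
  have c5 : b * c ∈ nz (cj ψ (Q ⊔ V)) := by
    rw [p6] at c2 ⊢
    exact mem_nz_sup (mul_mem (trv_le_nz _ _ (wa_trv' hT.1 p9 b1)) (cz_le_nz _ c3))
      (mem_nz_CS (F.mono c2 le_sup_right) c4)
  obtain ⟨d, d1, d2, d3⟩ := exists_cop (g := b * c) ((orderOf_conj' ψ g).symm ▸ hc)
    (nz_le_nz_cz _ (conj_mem_nz_cj g2)) (mul_assoc _ b c ▸ mul_mem b3 c3)
  have d4 := Subgroup.zpowers_le.2 (mem_aut_of c2 c5) d1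
  have d5 := Subgroup.zpowers_le.2 (mul_mem b1 (le_inf cz_le_ao cz_le_ao c1)) d1
  have d6 : d ∈ wa F E₁ E₂ (cj ψ (Q ⊔ V)) := ⟨h₁.ao_up hr p4.cent_sup (i₁.cenT_sup hF
    (p9.1.trans inf_le_left) p4) p8 (M_of_aut (F.cj_le p2) d4) (F.aut_le_nz _ d4) d2 d5.1,
    h₂.ao_up hr p4.cent_sup (i₂.cenT_sup hF (p9.1.trans inf_le_right) p4) p8
      (M_of_aut (F.cj_le p2) d4) (F.aut_le_nz _ d4) d2 d5.2⟩
  rw [← cj_wa i₁ i₂ p2, mem_cj] at d6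
  have d7 : ψ⁻¹ * d * ψ ∈ nz U := mul_mem (mul_mem (inv_mem p1) (Subgroup.zpowers_le.2 c4 d1)) p1
  have d8 := M_of_aut (F.le_S p2) d6.1.1
  have d9 : (orderOf (ψ⁻¹ * d * ψ)).Coprime p := by rwa [← orderOf_conj' ψ⁻¹, inv_inv] at d2
  have d10 := F.aut_le_nz _ (M_nz_sup_CS (F.mono d8 le_sup_right) d7)
  have m3 : ∀ {E}, E.Invt F → U ≤ E.S → ψ⁻¹ * d * ψ ∈ F.ao E (Q ⊔ V) →
      ψ⁻¹ * d * ψ ∈ (prd p F E).aut V := fun i a b => mem_aut_of ((KM.base v0.1 (i.cenT_sup hF a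
        (hF.fc hn)) (mem_ao_of_le (F.le_S p2) b le_sup_right d10) d9).prd_M i.S_le) d10
  exact mem_aut_of (congr' (normK_M_of v1 k2 (q0.trans k1) ⟨⟨m3 i₁ (hU.1.trans inf_le_left) d6.1,
    m3 i₂ (hU.1.trans inf_le_right) d6.2⟩, d7⟩ (normK_M_of hn.1 le_rfl
      (q5.trans (inf_le_left.trans inf_le_right)) d7 (F.mono d8 (sup_le le_rfl
        (q1.trans le_sup_left))))) (mem_of_eq (inv_mem (conj_inv_mem_cz d3)) (by group))) g2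

theorem NorIn.nmp_wedge (h₁ : NorIn p E₁ F) (h₂ : NorIn p E₂ F) (hr : Rich F.S) :
    NMp p F (E₁.S ⊓ E₂.S) (F.CenT (E₁.S ⊓ E₂.S)) (wb F E₁ E₂) :=
  have hF := h₁.wn.satF
  have i₁ := h₁.wn.invt
  have i₂ := h₂.wn.invt
  have hT := i₁.sc.inf i₂.sc
  ⟨hF, hT, fun h => h.1, fun h => h.cj hT, CenT.mono, hT.cenT_self, fun _ _ => hF.cenT_inf hT,
    fun _ h h' => (h' h).elim, fun h => (wb_le (h.1.trans hT.1)).trans (wx_le (h.1.trans hT.1)),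
    fun _ _ hg => mem_wb.2 fun _ _ => Subgroup.mem_sup_right (conj_mem_cz_cj hg),
    fun {W} h x hx => by
      obtain ⟨φ, h1, h2⟩ := hF.exists_FN (h.1.trans hT.1)
      have h3 := conj_mem_nz_cj (g := φ) hx.2
      have h4 := hT.conj_mem h1 ⟨hT.1 hx.1, hx.2⟩ hx.1
      have h5 := mem_nz_sup_CS (hT.1 h4) h3
      exact mem_wb_of hF i₁ i₂ h (F.mono h1 (le_NS (h.1.trans hT.1))) (hF.fc h2)
        (Subgroup.mem_sup_left ⟨⟨i₁.sc.NT_le_ao (sup_CS_le h2.1) ⟨h4.1, h5⟩,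
          i₂.sc.NT_le_ao (sup_CS_le h2.1) ⟨h4.2, h5⟩⟩, h3⟩),
    fun _ => wb_cj, h₁.wedge_loc h₂ hr⟩

theorem NorIn.norIn_of_ext (h : NorIn p D F) (hE : NorIn p E F) (hS : D.S ≤ E.S)
    (k : ∀ W g, F.CenT D.S W → (orderOf g).Coprime p → g ∈ D.aut W → ∃ b ∈ F.ao E (W ⊔ (F.S ⊓ cz W)),
      b ∈ trv (W ⊔ (F.S ⊓ cz W)) W ∧ g⁻¹ * b ∈ cz W) : NorIn p D E := by
  have l : D ≤ E := h.wn.satE.alperin_p' hS fun P g hP hg hc => by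
    have h1 := h.wn.satE.cent_of hP
    obtain ⟨b, b1, -, b3⟩ := k P g (h.wn.invt.cenT_iff.2 h1) hc hg
    exact congr' (E.mono (M_of_aut inf_le_right b1.2.2) (le_inf le_sup_left (h1.1.trans hS)))
      (by simpa using inv_mem b3)
  refine ⟨⟨h.wn.satE, hE.wn.satE, h.wn.invt.of_le hE.wn.satE l hE.wn.invt.le⟩,
    h.wn.satE.extc_of_cop hS fun a ha hc => ?_⟩
  obtain ⟨b, b1, b2, b3⟩ := k _ a h.wn.invt.sc.cenT_self hc ha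
  have e := sup_CS_inf' hS hE.wn.invt.S_le
  exact mem_exb_of (e ▸ b1.2.2) (trv_anti (e ▸ inf_le_left) _ b2) b3

theorem NorIn.ao_of_le (h : NorIn p D F) (hr : Rich F.S) (hE : E.Invt F) (h' : NorIn p D E)
    (hP : P ≤ F.S) (hU : F.CenT D.S (P ⊓ D.S)) (hg : g ∈ F.ao D P) (hc : (orderOf g).Coprime p) :
    g ∈ F.ao E P :=
  have h1 := hE.sc.aut_le hP hg.1
  ⟨hg.1, mem_trv_of_le hg.2.1 (inf_le_inf_left _ h'.wn.invt.S_le) h1, mem_aut_of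
    (((KM.base hP hU hg hc).mono inf_le_left).M_sub h hr h' hE.le inf_le_right) h1⟩

theorem NorIn.exists_wedge (h₁ : NorIn p E₁ F) (h₂ : NorIn p E₂ F) (hr : Rich F.S) :
    ∃ D, NorIn p D F ∧ D.S = E₁.S ⊓ E₂.S ∧ NorIn p D E₁ ∧ NorIn p D E₂ ∧ ∀ D', NorIn p D' F →
      NorIn p D' E₁ → NorIn p D' E₂ → D'.S = E₁.S ⊓ E₂.S → D' ≤ D := by
  obtain ⟨D, d1, d2, d3⟩ := (h₁.nmp_wedge h₂ hr).exists_normal
  have hT := h₁.wn.invt.sc.inf h₂.wn.invt.sc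
  have k : ∀ W g, F.CenT D.S W → (orderOf g).Coprime p → g ∈ D.aut W →
      ∃ b ∈ wa F E₁ E₂ (W ⊔ (F.S ⊓ cz W)), b ∈ trv (W ⊔ (F.S ⊓ cz W)) W ∧ g⁻¹ * b ∈ cz W :=
    fun W g a b c => by
      rw [d2] at a
      obtain ⟨e, e1, -, e2⟩ := mem_wx.1 (wb_le (a.1.trans hT.1) ((d3 W g a b).1 c))
      exact ⟨e, e1, wa_trv' hT.1 a e1, e2⟩
  refine ⟨D, d1, d2, d1.norIn_of_ext h₁ (d2 ▸ inf_le_left) fun W g a b c =>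
    (k W g a b c).imp fun _ h => ⟨h.1.1, h.2⟩, d1.norIn_of_ext h₂ (d2 ▸ inf_le_right)
      fun W g a b c => (k W g a b c).imp fun _ h => ⟨h.1.2, h.2⟩, fun A a a₁ a₂ e =>
    a.wn.satE.alperin_p' (e.trans d2.symm).le fun P g hP hg hc => ?_⟩
  have i := a.wn.invt
  have h1 := i.cenT_iff.2 (a.wn.satE.cent_of hP)
  refine M_of_aut (h1.1.trans (e.trans d2.symm).le) ((d3 P g (e ▸ h1) hc).2 (mem_wb.2 fun φ hφ => ?_))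
  have h2 := h1.cj i.sc hφ
  have h3 : φ * g * φ⁻¹ ∈ A.aut (cj φ P) := i.cj_aut h1.1 hφ ▸ conj_mem_cj_of hg
  obtain ⟨b, b1, b2, b3, b4⟩ := exists_cop_of_exb (a.aut_le_exb hr h2 h3)
    ((orderOf_conj' φ g).symm ▸ hc)
  have e' := sup_CS_inf (F := F) h2.1 (h2.cz_le i.S_le)
  have b5 : b ∈ F.ao A (cj φ P ⊔ (F.S ⊓ cz (cj φ P))) :=
    ⟨b1, by rw [e']; exact ⟨b2, mem_of_eq (mul_mem h3 (A.cz_le_aut _ b4)) (by group)⟩⟩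
  exact mem_wx.2 ⟨b, ⟨a.ao_of_le hr h₁.wn.invt a₁ (sup_CS_le (F.cj_le hφ)) (e'.symm ▸ h2) b5 b3,
    a.ao_of_le hr h₂.wn.invt a₂ (sup_CS_le (F.cj_le hφ)) (e'.symm ▸ h2) b5 b3⟩, trv_le_nz _ _ b2, b4⟩

theorem SubN.exists_wedge (h : SubN p B F) (hE : NorIn p E F) (hr : Rich F.S) :
    ∃ W, NorIn p W B ∧ SubN p W E ∧ W.S = B.S ⊓ E.S := by
  induction h generalizing E with
  | refl => exact ⟨E, hE, SubN.refl E, (inf_eq_right.2 hE.wn.invt.S_le).symm⟩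
  | step h1 h2 ih =>
    obtain ⟨D, -, d2, d3, d4, -⟩ := h2.exists_wedge hE hr
    obtain ⟨W, w1, w2, w3⟩ := ih d3 (hr.mono h2.wn.invt.S_le)
    exact ⟨W, w1, w2.step d4, by rw [w3, d2, ← inf_assoc, inf_eq_left.2 (S_le h1.le)]⟩

end FS

end Cfsg.Agent.Fusion
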